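import Cfsg.Agent.Lib.ThreeOrd.Norm
import Cfsg.Agent.Lib.Solvable.Coprime
import Cfsg.Agent.Lib.Char.CoprimeCount
import Cfsg.Agent.Lib.OddChar.OddTheorem
import Cfsg.Agent.Lib.Solvable.Basic
import Mathlib.Algebra.Ring.GeomSum
import Mathlib.GroupTheory.SpecificGroups.Cyclic
import Mathlib.RingTheory.IntegralDomain

/-!
# The action of the automiser on an elementary abelian Sylow `2`-subgroup

An odd group `L`, transitive on the non-trivial elements of `V`, in which only the elements of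
order `r` may fix a non-trivial point, either has order `r` or is an extension of a group acting
regularly by a group of order `r`.
-/

set_option autoImplicit false
set_option linter.style.haveILetI false

namespace Cfsg.Agent.ThreeOrd

universe u v

/-- A power of an odd prime next below a power of two is a prime. -/
theorem mersenne_exponent {r k n : ℕ} (hr : r.Prime) (hr2 : r ≠ 2) (hk : k ≠ 0)
    (h : r ^ k + 1 = 2 ^ n) : k = 1 := by
  have hrodd : Odd r := hr.odd_of_ne_two hr2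
  have h3 : 3 ≤ r := by
    have := hr.two_le
    omega
  have hbig : 3 ≤ r ^ k := h3.trans (Nat.le_self_pow hk r)
  have hn2 : 2 ≤ n := by
    by_contra hlt
    have : n = 0 ∨ n = 1 := by omega
    rcases this with rfl | rfl <;> norm_num at h <;> omega
  rcases Nat.even_or_odd k with ⟨m, rfl⟩ | hk1
  · exfalso
    obtain ⟨j, hj⟩ := hrodd.pow (n := m)
    obtain ⟨c, hc⟩ : (4 : ℕ) ∣ 2 ^ n := by
      rw [show (4 : ℕ) = 2 ^ 2 by norm_num]
      exact pow_dvd_pow 2 hn2
    rw [pow_add, hj, hc] at h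
    ring_nf at h
    omega
  set T : ℤ := ∑ i ∈ Finset.range k, (-(r : ℤ)) ^ i with hT
  have h1 : T * ((r : ℤ) + 1) = (2 : ℤ) ^ n := by
    have e := geom_sum_mul (-(r : ℤ)) k
    rw [hk1.neg_pow] at e
    have h' : ((r : ℤ) ^ k + 1) = (2 : ℤ) ^ n := by exact_mod_cast h
    rw [hT]; linarith
  have hTodd : Odd T := by
    have h2 : (T : ZMod 2) = 1 := by
      have hr1 : (-(r : ℤ) : ZMod 2) = 1 := by
        obtain ⟨j, hj⟩ := hrodd
        rw [hj]; push_cast; rw [show (2 : ZMod 2) = 0 from rfl]; norm_num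
      have hk2 : (k : ZMod 2) = 1 := by
        obtain ⟨j, hj⟩ := hk1
        rw [hj]; push_cast; rw [show (2 : ZMod 2) = 0 from rfl]; norm_num
      rw [hT]; push_cast
      push_cast at hr1
      rw [hr1]; simpa using hk2
    rw [← Int.not_even_iff_odd, even_iff_two_dvd]
    intro hd
    rw [(ZMod.intCast_zmod_eq_zero_iff_dvd T 2).2 (by exact_mod_cast hd)] at h2
    exact zero_ne_one h2
  have hu : IsUnit T := by
    rw [Int.isUnit_iff_natAbs_eq]
    refine Nat.eq_one_of_dvd_coprimes (?_ : Nat.Coprime T.natAbs (2 ^ n)) dvd_rfl ?_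
    · exact Nat.Coprime.pow_right n (Nat.coprime_two_right.2 (Int.natAbs_odd.2 hTodd))
    · have := Int.natAbs_dvd_natAbs.2 (Dvd.intro _ h1)
      simpa [Int.natAbs_pow] using this
  rcases Int.isUnit_iff.1 hu with e | e
  · rw [e, one_mul] at h1
    have h' : r ^ k + 1 = r + 1 := by
      rw [h]
      exact_mod_cast h1.symm
    exact Nat.pow_eq_self_iff hr.two_le |>.1 (by omega)
  · rw [e] at h1
    have : (0 : ℤ) < 2 ^ n := by positivity
    have : (3 : ℤ) ≤ r := by exact_mod_cast h3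
    linarith

/-- The hypotheses. -/
structure ActHyp {L : Type u} [Group L] {V : Type v} [CommGroup V] (ρ : L →* MulAut V) (r : ℕ) :
    Prop where
  prime : r.Prime
  ne_two : r ≠ 2
  faithful : ∀ l : L, ρ l = 1 → l = 1
  sq : ∀ v : V, v * v = 1
  free : ∀ (l : L) (v : V), v ≠ 1 → ρ l v = v → ¬ r ∣ orderOf l → l = 1
  ord : ∀ l : L, r ∣ orderOf l → orderOf l = r
  trans : ∀ v w : V, v ≠ 1 → w ≠ 1 → ∃ l : L, ρ l v = w
  odd : Odd (Nat.card L)
  nontriv : ∃ v : V, v ≠ 1

/-- The second shape. -/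
structure ActShape {L : Type u} [Group L] {V : Type v} [CommGroup V] (ρ : L →* MulAut V) (r : ℕ) (s : ℕ)
    (A B : Subgroup L) (x : L) (a : V) : Prop where
  s_prime : s.Prime
  s_ne : s ≠ r
  A_normal : A.Normal
  A_card : Nat.card A = s
  A_mem : ∀ l : L, l ^ s = 1 → l ∈ A
  B_normal : B.Normal
  B_card : Nat.card B + 1 = Nat.card V
  B_mem : ∀ l : L, l ∈ B ↔ ¬ r ∣ orderOf l
  x_order : orderOf x = r
  L_card : Nat.card L = Nat.card B * r
  decomp : ∀ l : L, ∃ b ∈ B, ∃ i : ℕ, l = b * x ^ i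
  a_ne : a ≠ 1
  fix : ∀ v : V, ρ x v = v ↔ v = 1 ∨ v = a
  stab : ∀ l : L, ρ l a = a → l ∈ Subgroup.zpowers x
  centralizer_A : ∀ l : L, (∀ e ∈ A, l * e = e * l) → l ∈ B
  x_A : ∀ e ∈ A, x * e = e * x → e = 1

variable {L : Type u} [Group L] [Finite L] {V : Type v} [CommGroup V] [Finite V] {ρ : L →* MulAut V}
  {r : ℕ}

namespace ActHyp

variable (h : ActHyp ρ r)
include h

omit [Finite L] [Finite V] in
theorem smul_mul (l m : L) (v : V) : ρ (l * m) v = ρ l (ρ m v) := by rw [map_mul, MulAut.mul_apply]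

theorem coprime (A : Subgroup L) (v : V) (hv : v ^ Nat.card A = 1) : v = 1 := by
  have hodd : Odd (Nat.card A) := h.odd.of_dvd_nat (Subgroup.card_subgroup_dvd_card A)
  exact orderOf_eq_one_iff.1 (Nat.eq_one_of_dvd_coprimes (Nat.coprime_two_left.2 hodd)
    (orderOf_dvd_of_pow_eq_one (by rw [pow_two]; exact h.sq v)) (orderOf_dvd_of_pow_eq_one hv))

/-- An element fixed point free on `A` has, up to conjugation by `A`, a fixed point. -/
theorem exists_fixed (A : Subgroup L) {y : L} (hy : ∀ e ∈ A, y * e * y⁻¹ ∈ A) {n : ℕ} (hn : 0 < n)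
    (hyn : y ^ n = 1) (hfree : FpfPow A y n) (hA : A ≠ ⊥) :
    ∃ q ∈ A, ∃ v : V, v ≠ 1 ∧ ρ (q * y * q⁻¹) v = v := by
  obtain ⟨⟨e, he⟩, he1⟩ := Subgroup.ne_bot_iff_exists_ne_one.1 hA
  have hAne : ∃ e ∈ A, ∃ v, ρ e v ≠ v := by
    refine ⟨e, he, ?_⟩
    by_contra hcon
    push Not at hcon
    exact he1 (Subtype.ext (h.faithful e (MulEquiv.ext hcon)))
  obtain ⟨q, hq, v, hv⟩ := exists_norm_ne ρ A hy hn hfree (h.coprime A) hAne
  set z := q * y * q⁻¹ with hz
  have hzi : ∀ i, z ^ i = q * y ^ i * q⁻¹ := fun i => _root_.conj_pow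
  refine ⟨q, hq, _, hv, ?_⟩
  rw [map_prod]
  have e1 : ∀ i, ρ z (ρ (q * y ^ i * q⁻¹) v) = ρ (z ^ (i + 1)) v := fun i => by
    rw [← h.smul_mul, ← hzi, ← pow_succ']
  rw [Finset.prod_congr rfl fun i _ => e1 i,
    Finset.prod_congr rfl fun i _ => show ρ (q * y ^ i * q⁻¹) v = ρ (z ^ i) v by rw [hzi]]
  obtain ⟨m, rfl⟩ := Nat.exists_eq_add_of_lt hn
  simp only [zero_add]
  rw [Finset.prod_range_succ, Finset.prod_range_succ' (fun i => ρ (z ^ i) v)]
  congr 1
  rw [show z ^ (m + 1) = z ^ 0 by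
    rw [pow_zero, hzi]
    simp only [zero_add] at hyn
    rw [hyn]; group]

omit [Finite L] [Finite V] in
theorem order_ne_mul {l : L} {s : ℕ} (hs : s.Prime) (hsr : s ≠ r) (hls : s ∣ orderOf l)
    (hlr : r ∣ orderOf l) : False :=
  hsr ((Nat.prime_dvd_prime_iff_eq hs h.prime).1 (h.ord l hlr ▸ hls))

omit [Finite V] in
/-- Commuting elements of order `r` and of another prime order do not exist. -/
theorem not_comm {x y : L} {s : ℕ} (hx : orderOf x = r) (hy : orderOf y = s) (hs : s.Prime)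
    (hsr : s ≠ r) (hc : Commute x y) : False := by
  have ho : orderOf (x * y) = r * s := by
    rw [hc.orderOf_mul_eq_mul_orderOf_of_coprime (by
      rw [hx, hy]; exact (Nat.coprime_primes h.prime hs).2 hsr.symm), hx, hy]
  exact h.order_ne_mul hs hsr (ho ▸ dvd_mul_left s r) (ho ▸ dvd_mul_right r s)

omit [Finite V] in
theorem prime_pow_comm {e y : L} {p i : ℕ} (hp : p.Prime) (hy : orderOf y = p) (hi : 0 < i)
    (hip : i < p) (hc : Commute e (y ^ i)) : Commute e y := by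
  obtain ⟨m, hm⟩ := exists_pow_eq_self_of_coprime (x := y) (n := i) (by
    rw [hy]
    exact (hp.coprime_iff_not_dvd.2 fun hd => absurd (Nat.le_of_dvd hi hd) (by omega)).symm)
  exact hm ▸ hc.pow_right m

/-- A normal `r`-subgroup forces order `r`. -/
theorem card_of_normal {R : Subgroup L} [R.Normal] (hR : IsPGroup r R) (hR1 : R ≠ ⊥) :
    Nat.card L = r ∧ Nat.card V = r + 1 := by
  classical
  haveI := Fact.mk h.prime
  -- all prime divisors are `r`
  have hRord : ∀ e ∈ R, e ≠ 1 → orderOf e = r := fun e he he1 => h.ord e (by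
    obtain ⟨k, hk⟩ := IsPGroup.iff_orderOf.1 hR ⟨e, he⟩
    rw [Subgroup.orderOf_mk] at hk
    refine hk ▸ dvd_pow_self r fun h0 => he1 (orderOf_eq_one_iff.1 (by rw [hk, h0, pow_zero])))
  have hLr : IsPGroup r L := by
    refine IsPGroup.iff_orderOf.2 fun l => ?_
    by_cases hl1 : l = 1
    · exact ⟨0, by rw [hl1, orderOf_one, pow_zero]⟩
    refine ⟨1, ?_⟩
    rw [pow_one]
    refine h.ord l ?_
    by_contra hlr
    obtain ⟨p, hp, hpd⟩ := Nat.exists_prime_and_dvd fun e => hl1 (orderOf_eq_one_iff.1 e)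
    obtain ⟨y, hy⟩ : ∃ y : L, orderOf y = p :=
      ⟨l ^ (orderOf l / p), orderOf_pow_orderOf_div (orderOf_pos l).ne' hpd⟩
    have hpr : p ≠ r := fun e => hlr (e ▸ hpd)
    obtain ⟨q, -, v, hv, hfix⟩ := h.exists_fixed R (y := y)
      (fun e he => ‹R.Normal›.conj_mem e he y) hp.pos (hy ▸ pow_orderOf_eq_one y)
      (fun i hi hip e he hc => by
        by_contra he1
        exact h.not_comm (hRord e he he1) hy hp hpr (h.prime_pow_comm hp hy hi hip hc)) hR1
    have ho : orderOf (q * y * q⁻¹) = p :=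
      (orderOf_injective (MulAut.conj q).toMonoidHom (MulAut.conj q).injective y).trans hy
    have h1 := h.free _ v hv hfix (by
      rw [ho]
      exact fun hd => hpr ((Nat.prime_dvd_prime_iff_eq h.prime hp).1 hd).symm)
    rw [h1, orderOf_one] at ho
    exact hp.one_lt.ne ho
  haveI : Nontrivial L := by
    obtain ⟨⟨e, he⟩, he1⟩ := Subgroup.ne_bot_iff_exists_ne_one.1 hR1
    exact ⟨⟨e, 1, fun e1 => he1 (Subtype.ext e1)⟩⟩
  haveI := hLr.center_nontrivial
  obtain ⟨⟨z, hzc⟩, hz1⟩ := exists_ne (1 : Subgroup.center L)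
  have hz1' : z ≠ 1 := fun e => hz1 (Subtype.ext e)
  have hzo : orderOf z = r := h.ord z (by
    obtain ⟨k, hk⟩ := IsPGroup.iff_orderOf.1 hLr z
    exact hk ▸ dvd_pow_self r fun h0 => hz1' (orderOf_eq_one_iff.1 (by rw [hk, h0, pow_zero])))
  -- `z` moves every point
  have hmove : ∀ v : V, v ≠ 1 → ρ z v ≠ v := by
    intro v hv hfix
    refine hz1' (h.faithful z (MulEquiv.ext fun w => ?_))
    rw [MulAut.one_apply]
    by_cases hw : w = 1
    · rw [hw, map_one]
    obtain ⟨l, hl⟩ := h.trans v w hv hw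
    rw [← hl, ← h.smul_mul, ← Subgroup.mem_center_iff.1 hzc l, h.smul_mul, hfix]
  -- an element fixing a point is trivial
  obtain ⟨v₀, hv₀⟩ := h.nontriv
  let X := {v : V // v ≠ 1}
  let f : L → X := fun l => ⟨ρ l v₀, fun e => hv₀ ((ρ l).map_eq_one_iff.1 e)⟩
  have hzpf : ∀ i, 0 < i → i < r → ∀ v : V, v ≠ 1 → ρ (z ^ i) v ≠ v := by
    intro i hi hir v hv e
    refine hmove v hv ?_
    obtain ⟨m, hm⟩ := exists_pow_eq_self_of_coprime (x := z) (n := i) (by
      rw [hzo]
      exact (h.prime.coprime_iff_not_dvd.2 fun hd => absurd (Nat.le_of_dvd hi hd) (by omega)).symm)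
    rw [← hm]
    clear hm
    induction m with
    | zero => simp
    | succ m ih => rw [pow_succ, h.smul_mul, e, ih]
  -- the number of points is a power of `r`
  haveI : Fintype V := Fintype.ofFinite V
  letI : MulAction L X :=
    { smul := fun l v => ⟨ρ l v.1, fun e => v.2 ((ρ l).map_eq_one_iff.1 e)⟩
      one_smul := fun v => Subtype.ext (by show ρ 1 v.1 = v.1; rw [map_one, MulAut.one_apply])
      mul_smul := fun l m v => Subtype.ext (h.smul_mul l m v.1) }
  have horb : MulAction.orbit L (⟨v₀, hv₀⟩ : X) = Set.univ := by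
    refine Set.eq_univ_of_forall fun w => ?_
    obtain ⟨l, hl⟩ := h.trans v₀ w.1 hv₀ w.2
    exact ⟨l, Subtype.ext hl⟩
  have hcardX : Nat.card X + 1 = Nat.card V := by
    rw [← Nat.card_congr (Equiv.optionSubtypeNe (1 : V)), Finite.card_option]
  obtain ⟨k, hk⟩ : ∃ k, Nat.card X = r ^ k := by
    obtain ⟨j, hj⟩ := IsPGroup.iff_card.1 hLr
    have h1 := (MulAction.stabilizer L (⟨v₀, hv₀⟩ : X)).index_dvd_card
    rw [MulAction.index_stabilizer, horb, Set.ncard_univ, hj] at h1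
    obtain ⟨k, -, hk⟩ := (Nat.dvd_prime_pow h.prime).1 h1
    exact ⟨k, hk⟩
  have hk1 : k = 1 := by
    obtain ⟨n, hn⟩ := IsPGroup.iff_card.1
      (show IsPGroup 2 V from fun v => ⟨1, by rw [pow_one, pow_two]; exact h.sq v⟩)
    rw [hk, hn] at hcardX
    have hk0 : k ≠ 0 := by
      intro e
      rw [e, pow_zero] at hk
      have hx2 := (Nat.card_eq_one_iff_unique.1 hk).1
      exact hmove v₀ hv₀ (congrArg Subtype.val
        (hx2.elim (⟨ρ z v₀, fun e => hv₀ ((ρ z).map_eq_one_iff.1 e)⟩ : X) ⟨v₀, hv₀⟩))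
    exact mersenne_exponent h.prime h.ne_two hk0 hcardX
  rw [hk1, pow_one] at hk
  refine ⟨?_, by omega⟩
  -- `L` is generated by `z`
  have hall : ∀ l : L, l ∈ Subgroup.zpowers z := by
    intro l
    let g : Fin r → X := fun i => (z ^ (i : ℕ)) • (⟨v₀, hv₀⟩ : X)
    have hg : Function.Injective g := by
      intro i j hij
      by_contra hne
      have key : ∀ i j : Fin r, (i : ℕ) < (j : ℕ) → g i ≠ g j := by
        intro i j hlt e
        have e' : ρ (z ^ (i : ℕ)) v₀ = ρ (z ^ (j : ℕ)) v₀ := congrArg Subtype.val e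
        rw [show (j : ℕ) = (i : ℕ) + ((j : ℕ) - i) by omega, pow_add, h.smul_mul] at e'
        exact hzpf ((j : ℕ) - i) (by omega) (by omega) v₀ hv₀ ((ρ (z ^ (i : ℕ))).injective e').symm
      rcases lt_or_gt_of_ne (Fin.val_ne_of_ne hne) with hl | hl
      · exact key i j hl hij
      · exact key j i hl hij.symm
    have hgs : Function.Surjective g :=
      ((Nat.bijective_iff_injective_and_card g).2 ⟨hg, by rw [Nat.card_fin, hk]⟩).2
    obtain ⟨i, hi⟩ := hgs (l • (⟨v₀, hv₀⟩ : X))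
    have hi' : ρ (z ^ (i : ℕ)) v₀ = ρ l v₀ := congrArg Subtype.val hi
    set w := (z ^ (i : ℕ))⁻¹ * l with hw
    have hwfix : ρ w v₀ = v₀ := by
      rw [hw, h.smul_mul, ← hi', ← h.smul_mul, inv_mul_cancel, map_one, MulAut.one_apply]
    have hw1 : w = 1 := by
      refine h.faithful w (MulEquiv.ext fun v => ?_)
      rw [MulAut.one_apply]
      by_cases hv : v = 1
      · rw [hv, map_one]
      obtain ⟨j, hj⟩ := hgs ⟨v, hv⟩
      have hj' : ρ (z ^ (j : ℕ)) v₀ = v := congrArg Subtype.val hj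
      have hc : Commute w (z ^ (j : ℕ)) :=
        Commute.pow_right (Subgroup.mem_center_iff.1 hzc w) _
      rw [← hj', ← h.smul_mul, hc.eq, h.smul_mul, hwfix]
    rw [hw, inv_mul_eq_one] at hw1
    exact hw1 ▸ Subgroup.npow_mem_zpowers z i
  rw [← orderOf_eq_card_of_forall_mem_zpowers hall, hzo]

/-- The two shapes. -/
theorem shapes (hx : ∃ x : L, orderOf x = r) :
    (Nat.card L = r ∧ Nat.card V = r + 1) ∨ ∃ s A B x a, ActShape ρ r s A B x a := by
  classical
  obtain ⟨x₀, hx₀⟩ := hx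
  haveI := Fact.mk h.prime
  haveI : Nontrivial L := ⟨⟨x₀, 1, fun e => h.prime.ne_one (by rw [← hx₀, e, orderOf_one])⟩⟩
  obtain ⟨p, hp, A₀, hA₀n, hA₀1, hA₀p⟩ :=
    CoprimeCount.exists_normal_pgroup L (OddChar.oddSolvable L h.odd)
  haveI := hA₀n
  haveI := Fact.mk hp
  by_cases hpr : p = r
  · subst hpr
    exact Or.inl (h.card_of_normal hA₀p hA₀1)
  right
  -- a normal subgroup of order `p`
  let A : Subgroup L :=
    { carrier := {e | e ∈ A₀ ∧ (∀ a ∈ A₀, a * e = e * a) ∧ e ^ p = 1}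
      one_mem' := ⟨one_mem _, fun a _ => by rw [mul_one, one_mul], one_pow _⟩
      mul_mem' := fun {e f} he hf => ⟨mul_mem he.1 hf.1,
        fun a ha => (Commute.mul_right (he.2.1 a ha) (hf.2.1 a ha)).eq,
        by rw [Commute.mul_pow (hf.2.1 e he.1), he.2.2, hf.2.2, one_mul]⟩
      inv_mem' := fun {e} he => ⟨inv_mem he.1, fun a ha => (Commute.inv_right (he.2.1 a ha)).eq,
        by rw [inv_pow, he.2.2, inv_one]⟩ }
  have hAmem : ∀ e, e ∈ A ↔ e ∈ A₀ ∧ (∀ a ∈ A₀, a * e = e * a) ∧ e ^ p = 1 := fun e => Iff.rfl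
  have hAn : A.Normal := by
    refine ⟨fun e he g => ⟨hA₀n.conj_mem e he.1 g, fun a ha => ?_, by
      rw [_root_.conj_pow, he.2.2, mul_one, mul_inv_cancel]⟩⟩
    have h1 := he.2.1 (g⁻¹ * a * g) (by simpa using hA₀n.conj_mem a ha g⁻¹)
    calc a * (g * e * g⁻¹) = g * (g⁻¹ * a * g * e) * g⁻¹ := by group
      _ = g * (e * (g⁻¹ * a * g)) * g⁻¹ := by rw [h1]
      _ = g * e * g⁻¹ * a := by group
  have hA1 : A ≠ ⊥ := by
    haveI : Nontrivial A₀ := (Subgroup.nontrivial_iff_ne_bot A₀).2 hA₀1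
    haveI := hA₀p.center_nontrivial
    obtain ⟨k, hk⟩ := IsPGroup.iff_card.1 (hA₀p.to_subgroup (Subgroup.center A₀))
    have h1 : 1 < Nat.card (Subgroup.center A₀) := Finite.one_lt_card
    rw [hk] at h1
    obtain ⟨c, hc⟩ := exists_prime_orderOf_dvd_card' (G := Subgroup.center A₀) p
      (hk ▸ dvd_pow_self p (by rintro rfl; simp at h1))
    refine fun e => hp.one_lt.ne ?_
    have hmem : ((c : A₀) : L) ∈ A := ⟨(c : A₀).2,
      fun a ha => congrArg Subtype.val (Subgroup.mem_center_iff.1 c.2 ⟨a, ha⟩), by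
        rw [← hc, ← Subgroup.orderOf_coe, ← Subgroup.orderOf_coe, pow_orderOf_eq_one]⟩
    rw [e, Subgroup.mem_bot] at hmem
    rw [← hc, ← Subgroup.orderOf_coe, ← Subgroup.orderOf_coe, hmem, orderOf_one]
  have hfreeA : ∀ e : L, e ≠ 1 → e ^ p = 1 → ∀ v : V, ρ e v = v → v = 1 := by
    intro e he1 hep v hv
    by_contra hv1
    refine he1 (h.free e v hv1 hv ?_)
    rw [orderOf_eq_prime hep he1]
    exact fun hd => hpr ((Nat.prime_dvd_prime_iff_eq h.prime hp).1 hd).symm
  have hVco : p.Coprime (Nat.card V) := by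
    obtain ⟨n, hn⟩ := IsPGroup.iff_card.1
      (show IsPGroup 2 V from fun v => ⟨1, by rw [pow_one, pow_two]; exact h.sq v⟩)
    rw [hn]
    refine ((Nat.coprime_primes hp Nat.prime_two).2 fun e => ?_).pow_right n
    obtain ⟨⟨b, hb⟩, hb1⟩ := Subgroup.ne_bot_iff_exists_ne_one.1 hA1
    have hbo : orderOf b = p := orderOf_eq_prime hb.2.2 fun e1 => hb1 (Subtype.ext e1)
    exact absurd (h.odd.of_dvd_nat (hbo ▸ orderOf_dvd_natCard b)) (by rw [e]; decide)
  -- no subgroup of rank two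
  have hrank : ∀ E : Subgroup L, Nat.card E = p ^ 2 → (∀ e ∈ E, e ^ p = 1) → False := by
    intro E hE hexp
    obtain ⟨v₀, hv₀⟩ := h.nontriv
    have := CoprimeAct.generated_by_fixed hp hE (fun e => Subtype.ext (by
      rw [Subgroup.coe_pow, hexp e e.2, Subgroup.coe_one])) (ρ.comp E.subtype) hVco ⊥
      (fun e w he hw => Subgroup.mem_bot.2
        (hfreeA e (fun e1 => he (Subtype.ext e1)) (hexp e e.2) w hw))
    exact hv₀ (Subgroup.mem_bot.1 (this ▸ Subgroup.mem_top v₀))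
  have hAp : IsPGroup p A := fun e => ⟨1, Subtype.ext (by simpa using e.2.2.2)⟩
  have hAcard : Nat.card A = p := by
    obtain ⟨k, hk⟩ := IsPGroup.iff_card.1 hAp
    rcases Nat.lt_or_ge k 2 with hk2 | hk2
    · interval_cases k
      · exact absurd (Subgroup.card_eq_one.1 (by rw [hk, pow_zero])) hA1
      · rw [hk, pow_one]
    · exfalso
      obtain ⟨E, hE⟩ := Sylow.exists_subgroup_card_pow_prime (G := A) p (n := 2) (hk ▸ pow_dvd_pow p hk2)
      refine hrank (E.map A.subtype) (by rw [Subgroup.card_map_of_injective A.subtype_injective, hE]) ?_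
      rintro _ ⟨e, -, rfl⟩
      exact e.2.2.2
  have hAcyc : IsCyclic A := isCyclic_of_prime_card hAcard
  haveI := hAn
  -- the centraliser of `A`
  set φ : L →* MulAut A := MulAut.conjNormal with hφ
  have hker : ∀ l : L, φ l = 1 ↔ ∀ e ∈ A, l * e = e * l := by
    intro l
    constructor
    · intro he e hee
      have := congrArg Subtype.val (congrArg (fun f : MulAut A => f ⟨e, hee⟩) he)
      rw [hφ, MulAut.conjNormal_apply, MulAut.one_apply] at this
      exact mul_inv_eq_iff_eq_mul.1 this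
    · intro he
      refine MulEquiv.ext fun e => Subtype.ext ?_
      rw [hφ, MulAut.conjNormal_apply, MulAut.one_apply, he e e.2, mul_inv_cancel_right]
  set B := φ.ker with hB
  have hBr : ∀ l ∈ B, ¬ r ∣ orderOf l := by
    intro l hl hd
    obtain ⟨⟨e, he⟩, he1⟩ := Subgroup.ne_bot_iff_exists_ne_one.1 hA1
    exact h.not_comm (h.ord l hd) (orderOf_eq_prime he.2.2 fun e1 => he1 (Subtype.ext e1)) hp hpr
      ((hker l).1 (MonoidHom.mem_ker.1 hl) e he)
  haveI : IsCyclic (MulAut A) := by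
    haveI : Fact (Nat.Prime p) := ⟨hp⟩
    have e := IsCyclic.mulAutMulEquiv A
    rw [hAcard] at e
    exact isCyclic_of_surjective e.symm e.symm.surjective
  obtain ⟨⟨_, g, rfl⟩, hgen⟩ := IsCyclic.exists_generator (α := φ.range)
  have hgcard : orderOf (φ g) = Nat.card φ.range := by
    rw [← orderOf_eq_card_of_forall_mem_zpowers hgen, ← Subgroup.orderOf_coe]
  have hrd : r ∣ Nat.card φ.range := by
    have hne : φ x₀ ≠ 1 := fun e => hBr x₀ (MonoidHom.mem_ker.2 e) (hx₀ ▸ dvd_rfl)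
    have h1 : orderOf (φ x₀) = r :=
      orderOf_eq_prime (by rw [← map_pow, ← hx₀, pow_orderOf_eq_one, map_one]) hne
    rw [← h1]
    exact Subgroup.orderOf_dvd_natCard φ.range ⟨x₀, rfl⟩
  have hgr : orderOf g = r := h.ord g ((hgcard ▸ hrd).trans (orderOf_map_dvd φ g))
  have hidx : Nat.card φ.range = r := Nat.dvd_antisymm (hgcard ▸ hgr ▸ orderOf_map_dvd φ g) hrd
  have hBcard : Nat.card L = Nat.card B * r := by
    rw [← Subgroup.card_mul_index B, hB, Subgroup.index_ker, hidx]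
  have hdec : ∀ l : L, ∃ b ∈ B, ∃ i : ℕ, l = b * g ^ i := by
    intro l
    have h1 := hgen ⟨φ l, l, rfl⟩
    rw [← IsOfFinOrder.mem_powers_iff_mem_zpowers (isOfFinOrder_of_finite _)] at h1
    obtain ⟨i, hi⟩ := h1
    refine ⟨l * (g ^ i)⁻¹, MonoidHom.mem_ker.2 ?_, i, by group⟩
    have hi' : φ g ^ i = φ l := congrArg Subtype.val hi
    rw [map_mul, map_inv, map_pow, hi', mul_inv_cancel]
  have hgB : g ∉ B := fun hg => hBr g hg (hgr ▸ dvd_rfl)
  have hBmem : ∀ l : L, l ∈ B ↔ ¬ r ∣ orderOf l := by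
    refine fun l => ⟨hBr l, fun hl => ?_⟩
    refine MonoidHom.mem_ker.2 (orderOf_eq_one_iff.1 (Nat.eq_one_of_dvd_coprimes
      (h.prime.coprime_iff_not_dvd.2 hl) ?_ (orderOf_map_dvd φ l)))
    rw [← hidx]
    exact Subgroup.orderOf_dvd_natCard φ.range ⟨l, rfl⟩
  have hgA : ∀ e ∈ A, g * e = e * g → e = 1 := fun e he hc => by
    by_contra he1
    exact h.not_comm hgr (orderOf_eq_prime he.2.2 he1) hp hpr hc
  have hfreeg : FpfPow A g r := fun i hi hir e he hc =>
    hgA e he (h.prime_pow_comm h.prime hgr hi hir hc).eq.symm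
  obtain ⟨q, hq, a, ha, hxa⟩ := h.exists_fixed A (fun e he => hAn.conj_mem e he g) h.prime.pos
    (hgr ▸ pow_orderOf_eq_one g) hfreeg hA1
  set x := q * g * q⁻¹ with hxdef
  have hxo : orderOf x = r :=
    (orderOf_injective (MulAut.conj q).toMonoidHom (MulAut.conj q).injective g).trans hgr
  have hxA : ∀ e ∈ A, x * e = e * x → e = 1 := by
    intro e he hc
    by_contra he1
    exact h.not_comm hxo (orderOf_eq_prime he.2.2 he1) hp hpr hc
  have hxdec : ∀ l : L, ∃ b ∈ B, ∃ i : ℕ, l = b * x ^ i := by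
    intro l
    obtain ⟨b, hb, i, rfl⟩ := hdec l
    refine ⟨b * (g ^ i * (x ^ i)⁻¹), mul_mem hb ?_, i, by group⟩
    have hqB : q ∈ B := MonoidHom.mem_ker.2 ((hker q).2 fun e he => he.2.1 q hq.1)
    rw [hxdef, _root_.conj_pow, show g ^ i * (q * g ^ i * q⁻¹)⁻¹ = (g ^ i * q * (g ^ i)⁻¹) * q⁻¹ by group]
    exact mul_mem ((MonoidHom.normal_ker φ).conj_mem q hqB _) (inv_mem hqB)
  -- the stabiliser
  have hBfree : ∀ b ∈ B, ∀ v : V, v ≠ 1 → ρ b v = v → b = 1 := fun b hb v hv hbv =>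
    h.free b v hv hbv (hBr b hb)
  have hxpow : ∀ i : ℕ, ρ (x ^ i) a = a := by
    intro i
    induction i with
    | zero => simp
    | succ i ih => rw [pow_succ, h.smul_mul, hxa, ih]
  have hstab : ∀ l : L, ρ l a = a → l ∈ Subgroup.zpowers x := by
    intro l hl
    obtain ⟨b, hb, i, rfl⟩ := hxdec l
    rw [h.smul_mul, hxpow] at hl
    rw [hBfree b hb a ha hl, one_mul]
    exact Subgroup.npow_mem_zpowers x i
  -- `B` is regular
  have hBcard2 : Nat.card B + 1 = Nat.card V := by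
    haveI := Fintype.ofFinite V
    let f : B → {v : V // v ≠ 1} := fun b => ⟨ρ (b : L) a, fun e => ha ((ρ (b : L)).map_eq_one_iff.1 e)⟩
    have hf : Function.Bijective f := by
      refine ⟨fun b b' e => ?_, fun v => ?_⟩
      · have e' : ρ (b : L) a = ρ (b' : L) a := congrArg Subtype.val e
        refine Subtype.ext (inv_mul_eq_one.1 (hBfree _ (mul_mem (inv_mem b'.2) b.2) a ha ?_)).symm
        rw [h.smul_mul, e', ← h.smul_mul, inv_mul_cancel, map_one, MulAut.one_apply]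
      · obtain ⟨l, hl⟩ := h.trans a v.1 ha v.2
        obtain ⟨b, hb, i, rfl⟩ := hxdec l
        exact ⟨⟨b, hb⟩, Subtype.ext (by rw [← hl, h.smul_mul, hxpow])⟩
    rw [Nat.card_congr (Equiv.ofBijective f hf), ← Nat.card_congr (Equiv.optionSubtypeNe (1 : V)),
      Finite.card_option]
  -- the fixed points
  have hfix : ∀ v : V, ρ x v = v ↔ v = 1 ∨ v = a := by
    intro v
    refine ⟨fun hv => ?_, ?_⟩
    · by_cases hv1 : v = 1
      · exact Or.inl hv1
      right
      obtain ⟨l, hl⟩ := h.trans v a hv1 ha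
      -- `l * x * l⁻¹` fixes `a`
      have h1 : l * x * l⁻¹ ∈ Subgroup.zpowers x := hstab _ (by
        rw [h.smul_mul, h.smul_mul, show ρ l⁻¹ a = v by
          rw [← hl, ← h.smul_mul, inv_mul_cancel, map_one, MulAut.one_apply], hv, hl])
      obtain ⟨b, hb, i, rfl⟩ := hxdec l
      have h2 : b * x * b⁻¹ ∈ Subgroup.zpowers x := by
        rwa [show b * x ^ i * x * (b * x ^ i)⁻¹ = b * x * b⁻¹ by group] at h1
      have h3 : b * x * b⁻¹ * x⁻¹ ∈ B := by
        rw [show b * x * b⁻¹ * x⁻¹ = b * (x * b⁻¹ * x⁻¹) by group]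
        exact mul_mem hb ((MonoidHom.normal_ker φ).conj_mem _ (inv_mem hb) x)
      have h4 : b * x * b⁻¹ * x⁻¹ ∈ Subgroup.zpowers x := mul_mem h2 (inv_mem (Subgroup.mem_zpowers x))
      have h5 : b * x * b⁻¹ * x⁻¹ = 1 := by
        refine orderOf_eq_one_iff.1 ((h.prime.eq_one_or_self_of_dvd _ ?_).resolve_right fun e =>
          hBr _ h3 (e ▸ dvd_rfl))
        have hd := Subgroup.orderOf_dvd_natCard _ h4
        rwa [Nat.card_zpowers, hxo] at hd
      rw [mul_inv_eq_one, mul_inv_eq_iff_eq_mul] at h5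
      have hb1 : b = 1 := by
        by_contra hb1
        obtain ⟨t, ht, htd⟩ := Nat.exists_prime_and_dvd fun e => hb1 (orderOf_eq_one_iff.1 e)
        exact h.not_comm hxo (orderOf_pow_orderOf_div (orderOf_pos b).ne' htd) ht
          (fun e => hBr b hb (e ▸ htd)) (Commute.pow_right (h5.symm : x * b = b * x) _)
      rw [hb1, one_mul] at hl
      exact (ρ (x ^ i)).injective (hl.trans (hxpow i).symm)
    · rintro (rfl | rfl)
      · exact map_one _
      · exact hxa
  refine ⟨p, A, B, x, a, ⟨hp, hpr, hAn, hAcard, fun l hl => ?_, MonoidHom.normal_ker φ, hBcard2, hBmem,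
    hxo, hBcard, hxdec, ha, hfix, hstab, fun l hl => MonoidHom.mem_ker.2 ((hker l).2 hl), hxA⟩⟩
  -- elements of order `p` lie in `A`
  by_contra hlA
  have hlB : l ∈ B := (hBmem l).2 fun hd => hpr
    ((Nat.prime_dvd_prime_iff_eq h.prime hp).1 (hd.trans (orderOf_dvd_of_pow_eq_one hl))).symm
  have hl1 : l ≠ 1 := fun e => hlA (e ▸ A.one_mem)
  have hcomm : ∀ e ∈ A, l * e = e * l := (hker l).1 (MonoidHom.mem_ker.1 hlB)
  refine hrank (A ⊔ Subgroup.zpowers l) ?_ ?_
  · rw [SolvBasic.card_sup_of_inf_eq_bot Subgroup.le_normalizer_of_normal ?_, hAcard, Nat.card_zpowers,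
      orderOf_eq_prime hl hl1, pow_two]
    rw [eq_bot_iff]
    intro z hz
    rw [Subgroup.mem_bot]
    by_contra hz1
    obtain ⟨i, rfl⟩ := Subgroup.mem_zpowers_iff.1 hz.2
    refine hlA ?_
    have h2 : Subgroup.zpowers (l ^ i) = Subgroup.zpowers l := by
      refine Subgroup.eq_of_le_of_card_ge (Subgroup.zpowers_le.2 hz.2) ?_
      rw [Nat.card_zpowers, Nat.card_zpowers, orderOf_eq_prime hl hl1, orderOf_eq_prime hz.1.2.2 hz1]
    exact Subgroup.zpowers_le.2 hz.1 (h2 ▸ Subgroup.mem_zpowers l)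
  · intro e he
    obtain ⟨u, hu, w, hw, rfl⟩ :=
      (SolvBasic.mem_sup_iff_of_le_normalizer Subgroup.le_normalizer_of_normal).1 he
    obtain ⟨i, rfl⟩ := Subgroup.mem_zpowers_iff.1 hw
    rw [Commute.mul_pow (Commute.zpow_right (hcomm u hu).symm i), hu.2.2, one_mul, ← zpow_natCast,
      ← zpow_mul, mul_comm, zpow_mul, zpow_natCast, hl, one_zpow]

end ActHyp

end Cfsg.Agent.ThreeOrd
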