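import Cfsg.Agent.Lib.CITStruct.Primes
import Mathlib.Data.Nat.Factors

/-!
# Groups in which no prime divides three element orders

If no prime divides three distinct element orders, either the centralisers of involutions are
`2`-groups or there is an odd prime `r` such that the element orders divisible by `2` or `r` are
among `2`, `r`, `2 * r`.
-/

set_option autoImplicit false

namespace Cfsg.Agent.ThreeOrd

open Cfsg.Agent.CNSimple

universe u v

/-- No prime divides three pairwise distinct element orders. -/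
def H3 (G : Type u) [Group G] : Prop :=
  ∀ p : ℕ, p.Prime → ∀ a b c : G, orderOf a ≠ orderOf b → orderOf b ≠ orderOf c →
    orderOf a ≠ orderOf c → ¬ (p ∣ orderOf a ∧ p ∣ orderOf b ∧ p ∣ orderOf c)

variable {G : Type u} [Group G] [Finite G]

theorem exists_order_of_dvd {g : G} {d : ℕ} (hd : d ∣ orderOf g) : ∃ a : G, orderOf a = d :=
  ⟨g ^ (orderOf g / d), orderOf_pow_orderOf_div (orderOf_pos g).ne' hd⟩

namespace H3

variable (h : H3 G)
include h

omit [Finite G] in
theorem false_of_three {p : ℕ} (hp : p.Prime) {k l m : ℕ} (hk : ∃ a : G, orderOf a = k)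
    (hl : ∃ a : G, orderOf a = l) (hm : ∃ a : G, orderOf a = m) (h1 : k ≠ l) (h2 : l ≠ m)
    (h3 : k ≠ m) (dk : p ∣ k) (dl : p ∣ l) (dm : p ∣ m) : False := by
  obtain ⟨a, rfl⟩ := hk
  obtain ⟨b, rfl⟩ := hl
  obtain ⟨c, rfl⟩ := hm
  exact h p hp a b c h1 h2 h3 ⟨dk, dl, dm⟩

omit [Finite G] in
theorem of_injective {H : Type v} [Group H] (f : H →* G) (hf : Function.Injective f) : H3 H := by
  intro p hp a b c h1 h2 h3
  simp only [← orderOf_injective f hf] at h1 h2 h3 ⊢
  exact h p hp (f a) (f b) (f c) h1 h2 h3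

theorem of_surjective {H : Type v} [Group H] (f : G →* H) (hf : Function.Surjective f) : H3 H := by
  intro p hp a b c h1 h2 h3 ⟨da, db, dc⟩
  have hlift : ∀ z : H, ∃ y : G, orderOf y = orderOf z := fun z => by
    obtain ⟨y, rfl⟩ := hf z
    exact exists_order_of_dvd (orderOf_map_dvd f y)
  exact h.false_of_three hp (hlift a) (hlift b) (hlift c) h1 h2 h3 da db dc

theorem quotient (N : Subgroup G) [N.Normal] : H3 (G ⧸ N) :=
  h.of_surjective _ (QuotientGroup.mk'_surjective N)

omit [Finite G] in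
theorem subgroup (K : Subgroup G) : H3 K :=
  h.of_injective K.subtype K.subtype_injective

theorem factors {N : ℕ} (hN : ∃ g : G, orderOf g = N) : N.primeFactorsList.length ≤ 2 := by
  obtain ⟨g, rfl⟩ := hN
  set n := orderOf g with hn
  by_contra hlen
  push Not at hlen
  have hp : ∀ q ∈ n.primeFactorsList, q.Prime := fun q hq => Nat.prime_of_mem_primeFactorsList hq
  have hprod := Nat.prod_primeFactorsList (orderOf_pos g).ne'
  rw [← hn] at hprod
  match hl : n.primeFactorsList, hlen with
  | p :: q :: r :: rest, _ =>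
    rw [hl] at hprod hp
    simp only [List.prod_cons] at hprod
    have hpp := hp p (by simp)
    have hqp := hp q (by simp)
    have hrp := hp r (by simp)
    have hrest : 0 < rest.prod := by
      rcases Nat.eq_zero_or_pos rest.prod with e | e
      · rw [e] at hprod
        simp only [mul_zero] at hprod
        exact absurd hprod.symm (orderOf_pos g).ne'
      · exact e
    refine h.false_of_three hpp (exists_order_of_dvd (g := g) (d := p) ?_)
      (exists_order_of_dvd (g := g) (d := p * q) ?_) ⟨g, rfl⟩ ?_ ?_ ?_ dvd_rfl (dvd_mul_right _ _) ?_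
    · exact ⟨q * (r * rest.prod), hprod.symm⟩
    · exact ⟨r * rest.prod, by rw [mul_assoc]; exact hprod.symm⟩
    · exact (lt_mul_of_one_lt_right hpp.pos hqp.one_lt).ne
    · rw [← hn, ← hprod, ← mul_assoc]
      exact (lt_mul_of_one_lt_right (Nat.mul_pos hpp.pos hqp.pos)
        (lt_of_lt_of_le hrp.one_lt (Nat.le_mul_of_pos_right r hrest))).ne
    · rw [← hn, ← hprod]
      exact (lt_mul_of_one_lt_right hpp.pos
        (lt_of_lt_of_le hqp.one_lt (Nat.le_mul_of_pos_right q (Nat.mul_pos hrp.pos hrest)))).ne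
    · exact ⟨q * (r * rest.prod), hprod.symm⟩

/-- Powers of primes among the orders divide a square. -/
theorem not_cube {p : ℕ} (hp : p.Prime) {k : ℕ} (hk : 3 ≤ k) (g : G) : ¬ p ^ k ∣ orderOf g := by
  intro hd
  have h2 := h.factors (exists_order_of_dvd hd)
  rw [hp.primeFactorsList_pow, List.length_replicate] at h2
  omega

end H3

/-- The element orders divisible by `2` or by the odd prime `r`. -/
structure Spec (G : Type u) [Group G] (r : ℕ) : Prop where
  h3 : H3 G
  prime : r.Prime
  ne_two : r ≠ 2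
  even : ∀ g : G, 2 ∣ orderOf g → orderOf g = 2 ∨ orderOf g = 2 * r
  rdiv : ∀ g : G, r ∣ orderOf g → orderOf g = r ∨ orderOf g = 2 * r

/-- The two cases. -/
theorem H3.cit_or_spec (h : H3 G) :
    CIT G ∨ ∃ r : ℕ, Spec G r ∧ ∃ g : G, orderOf g = 2 * r := by
  by_cases hc : ∀ r : ℕ, r.Prime → r ≠ 2 → ∀ g : G, orderOf g ≠ 2 * r
  · exact Or.inl (CITStruct.cit_of_no_edge hc)
  push Not at hc
  obtain ⟨r, hr, hr2, g, hg⟩ := hc
  have h1 : 2 ≠ 2 * r := by have := hr.two_le; omega
  have h2 : r ≠ 2 * r := by have := hr.pos; omega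
  refine Or.inr ⟨r, ⟨h, hr, hr2, fun x hx => ?_, fun x hx => ?_⟩, g, hg⟩
  · by_contra hne
    push Not at hne
    exact h.false_of_three Nat.prime_two (exists_order_of_dvd (g := g) (d := 2) ⟨r, hg⟩) ⟨g, hg⟩
      ⟨x, rfl⟩ h1 hne.2.symm hne.1.symm dvd_rfl (dvd_mul_right 2 r) hx
  · by_contra hne
    push Not at hne
    exact h.false_of_three hr (exists_order_of_dvd (g := g) (d := r) ⟨2, hg.trans (mul_comm _ _)⟩)
      ⟨g, hg⟩ ⟨x, rfl⟩ h2 hne.2.symm hne.1.symm dvd_rfl (dvd_mul_left r 2) hx

namespace Spec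

variable {r : ℕ} (S : Spec G r)
include S

theorem odd : Odd r := S.prime.odd_of_ne_two S.ne_two

omit [Finite G] in
theorem of_injective {H : Type v} [Group H] (f : H →* G) (hf : Function.Injective f) : Spec H r := by
  refine ⟨S.h3.of_injective f hf, S.prime, S.ne_two, fun g => ?_, fun g => ?_⟩
  · rw [← orderOf_injective f hf]; exact S.even _
  · rw [← orderOf_injective f hf]; exact S.rdiv _

theorem of_surjective {H : Type v} [Group H] (f : G →* H) (hf : Function.Surjective f) : Spec H r := by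
  refine ⟨S.h3.of_surjective f hf, S.prime, S.ne_two, fun z hz => ?_, fun z hz => ?_⟩ <;>
    obtain ⟨y, rfl⟩ := hf z <;>
    obtain ⟨a, ha⟩ := exists_order_of_dvd (orderOf_map_dvd f y) <;>
    rw [← ha] at hz ⊢
  · exact S.even _ hz
  · exact S.rdiv _ hz

omit [Finite G] in
theorem subgroup (K : Subgroup G) : Spec K r :=
  S.of_injective K.subtype K.subtype_injective

theorem quotient (N : Subgroup G) [N.Normal] : Spec (G ⧸ N) r :=
  S.of_surjective _ (QuotientGroup.mk'_surjective N)

/-- An element of order `2 ^ k` squares to one. -/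
theorem sq_eq_one {x : G} {k : ℕ} (hx : x ^ 2 ^ k = 1) : x * x = 1 := by
  obtain ⟨j, -, hj⟩ := (Nat.dvd_prime_pow Nat.prime_two).1 (orderOf_dvd_of_pow_eq_one hx)
  rcases Nat.eq_zero_or_pos j with rfl | hj0
  · rw [pow_zero, orderOf_eq_one_iff] at hj
    simp [hj]
  rcases S.even x (hj ▸ dvd_pow_self 2 hj0.ne') with e | e
  · rw [← pow_two, ← e, pow_orderOf_eq_one]
  · exfalso
    have : r ∣ 2 ^ j := hj ▸ e ▸ dvd_mul_left r 2
    exact S.ne_two ((Nat.prime_dvd_prime_iff_eq S.prime Nat.prime_two).1 (S.prime.dvd_of_dvd_pow this))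

/-- Elements of odd order commuting with an involution. -/
theorem order_of_comm_invol {t x : G} (ht : orderOf t = 2) (hc : Commute x t) (ho : Odd (orderOf x))
    (hx : x ≠ 1) : orderOf x = r := by
  have hm : orderOf (x * t) = orderOf x * 2 := by
    rw [hc.orderOf_mul_eq_mul_orderOf_of_coprime (ht.symm ▸ Nat.coprime_two_right.2 ho), ht]
  rcases S.even (x * t) (hm ▸ dvd_mul_left 2 _) with e | e
  · exact absurd (orderOf_eq_one_iff.1 (by omega : orderOf x = 1)) hx
  · omega

/-- Elements of odd order commuting with an element of order `r`. -/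
theorem pow_of_comm_r {z x : G} (hz : orderOf z = r) (hc : Commute x z) (ho : Odd (orderOf x)) :
    x ^ r = 1 := by
  by_contra hne
  obtain ⟨s, hs, hsd⟩ := Nat.exists_prime_and_dvd (n := orderOf x) fun e =>
    hne (by rw [orderOf_eq_one_iff.1 e, one_pow])
  by_cases hsr : s = r
  · subst hsr
    rcases S.rdiv x hsd with e | e
    · exact hne (e ▸ pow_orderOf_eq_one x)
    · rw [e] at ho
      exact absurd ho (Nat.not_odd_iff_even.2 (even_two_mul s))
  obtain ⟨a, ha⟩ : ∃ a : ℕ, orderOf (x ^ a) = s :=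
    ⟨_, orderOf_pow_orderOf_div (orderOf_pos x).ne' hsd⟩
  have hm : orderOf (x ^ a * z) = s * r := by
    rw [(hc.pow_left a).orderOf_mul_eq_mul_orderOf_of_coprime
      (by rw [ha, hz]; exact (Nat.coprime_primes hs S.prime).2 hsr), ha, hz]
  rcases S.rdiv (x ^ a * z) (hm ▸ dvd_mul_left r s) with e | e
  · rw [hm] at e
    exact hs.one_lt.ne' (Nat.eq_of_mul_eq_mul_right S.prime.pos (e.trans (one_mul r).symm))
  · rw [hm] at e
    have h2 : s = 2 := Nat.eq_of_mul_eq_mul_right S.prime.pos e
    exact (Nat.not_even_iff_odd.2 ho) (even_iff_two_dvd.2 (h2 ▸ hsd))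

/-- The centraliser of an element of order `r` consists of elements of order dividing `2 * r`. -/
theorem pow_two_r_of_comm_r {z x : G} (hz : orderOf z = r) (hc : Commute x z) : x ^ (2 * r) = 1 := by
  by_cases he : 2 ∣ orderOf x
  · rcases S.even x he with e | e
    · rw [pow_mul, ← e, pow_orderOf_eq_one, one_pow]
    · rw [← e, pow_orderOf_eq_one]
  · rw [mul_comm, pow_mul,
      S.pow_of_comm_r hz hc (Nat.odd_iff.2 (Nat.two_dvd_ne_zero.1 he)), one_pow]

end Spec

end Cfsg.Agent.ThreeOrd
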