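import Cfsg.Agent.Lib.ThreeOrd.Basic
import Cfsg.Agent.Lib.EPPO.PSL
import Cfsg.Agent.Lib.Suzuki.Tori
import Cfsg.Agent.Lib.Suzuki.Minor

/-!
# Element orders in `PSL(2, q)` and in the Suzuki groups
-/

set_option autoImplicit false
set_option linter.unusedSectionVars false

namespace Cfsg.Agent.ThreeOrd

open SL2Inv

universe u v

variable {F : Type u} [Field F] [Fintype F]

local notation "SL" => Matrix.SpecialLinearGroup (Fin 2) F
local notation "PSL" => Matrix.ProjectiveSpecialLinearGroup (Fin 2) F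

/-- The order of the image in the projective group. -/
theorem dvd_two_mul_orderOf_pr (g : SL) : orderOf g ∣ 2 * orderOf (PSL2Inv.pr g) := by
  set j := orderOf (PSL2Inv.pr g) with hj
  have h1 : PSL2Inv.pr (g ^ j) = 1 := by rw [map_pow, hj, pow_orderOf_eq_one]
  refine orderOf_dvd_of_pow_eq_one ?_
  rw [two_mul, pow_add]
  rcases PSL2Inv.pr_eq_one_iff.1 h1 with e | e <;> rw [e]
  · exact one_mul 1
  · exact negOne_mul_self

theorem exists_order_even_char [CharP F 2] :
    (∃ g : PSL, orderOf g = Fintype.card F - 1) ∧ ∃ g : PSL, orderOf g = Fintype.card F + 1 := by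
  have h : ∀ g : SL, orderOf (PSL2Inv.pr g) = orderOf g := fun g => by
    refine orderOf_injective _ ((injective_iff_map_eq_one _).2 fun x hx => ?_) g
    rcases PSL2Inv.pr_eq_one_iff.1 hx with e | e
    · exact e
    · rw [e, EPPO.negOne_eq_one CharTwo.two_eq_zero]
  obtain ⟨⟨g, hg⟩, g', hg'⟩ := EPPO.exists_orders (F := F)
  exact ⟨⟨_, (h g).trans hg⟩, ⟨_, (h g').trans hg'⟩⟩

theorem exists_order_half (hodd : Odd (Fintype.card F)) :
    (∃ g : PSL, orderOf g = (Fintype.card F - 1) / 2) ∧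
      ∃ g : PSL, orderOf g = (Fintype.card F + 1) / 2 := by
  have h : ∀ (g : SL) (k : ℕ), orderOf g = 2 * k → ∃ a : PSL, orderOf a = k := fun g k hk => by
    have hd := dvd_two_mul_orderOf_pr g
    rw [hk] at hd
    exact exists_order_of_dvd ((mul_dvd_mul_iff_left two_ne_zero).1 hd)
  obtain ⟨⟨g, hg⟩, g', hg'⟩ := EPPO.exists_orders (F := F)
  obtain ⟨k, hk⟩ := hodd
  exact ⟨h g _ (by omega), h g' _ (by omega)⟩

variable {m : ℕ}

/-- The three torus orders of a Suzuki group. -/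
theorem exists_order_sz (h : Suzuki.SzField F m) :
    (∃ g : Cfsg.Sz F m, orderOf g = 2 ^ (2 * m + 1) - 1) ∧
      (∃ g : Cfsg.Sz F m, orderOf g = 2 ^ (2 * m + 1) + 2 ^ (m + 1) + 1) ∧
      ∃ g : Cfsg.Sz F m, orderOf g = 2 ^ (2 * m + 1) - 2 ^ (m + 1) + 1 := by
  obtain ⟨A, B, hA, hB, hcA, hcB, -, -, -⟩ := Suzuki.exists_tori h
  have hC : ∀ C : Subgroup (Cfsg.Sz F m), Suzuki.IsMember C →
      ∃ g : Cfsg.Sz F m, orderOf g = Nat.card C := fun C hC => by
    haveI := Suzuki.member_isCyclic h hC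
    obtain ⟨g, hg⟩ := IsCyclic.exists_ofOrder_eq_natCard (α := C)
    exact ⟨g, (Subgroup.orderOf_coe g).trans hg⟩
  refine ⟨?_, hcA ▸ hC A hA, hcB ▸ hC B hB⟩
  classical
  obtain ⟨k, hk⟩ := IsCyclic.exists_ofOrder_eq_natCard (α := Fˣ)
  rw [Nat.card_eq_fintype_card, Fintype.card_units, h.card] at hk
  refine ⟨Suzuki.HHom h k, ?_⟩
  rw [orderOf_injective _ ?_ k, hk]
  refine (injective_iff_map_eq_one _).2 fun l hl => ?_
  have h1 := Suzuki.H_conj_T h l 1 0
  rw [show Suzuki.H h l = 1 from hl, one_mul, inv_one, mul_one] at h1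
  have h2 := congrArg (fun g : Cfsg.Sz F m => g • Suzuki.pt m (0 : F) 0) h1
  simp only [Suzuki.T_smul_pt_zero] at h2
  exact Units.ext (by simpa using (Suzuki.pt_inj h2).1.symm)

end Cfsg.Agent.ThreeOrd
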