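import Cfsg.Agent.Lib.ThreeOrd.Norm
import Cfsg.Agent.Lib.ThreeOrd.Orders
import Cfsg.Agent.Lib.CNSimple.Loc

/-!
# No normal `2`-subgroup below a Suzuki group

A Frobenius group `A : 4` acting without fixed points of `A` on a `2`-group gives an element of
order eight.
-/

set_option autoImplicit false
set_option linter.style.haveILetI false

namespace Cfsg.Agent.ThreeOrd

open Cfsg.Agent.CNSimple Cfsg.Agent.Invol

universe u v

/-- A member torus has a cyclic group of order four acting without fixed points. -/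
theorem exists_torus_four {F : Type u} [Field F] [Fintype F] {m : ℕ} (h : Suzuki.SzField F m) :
    ∃ (A : Subgroup (Cfsg.Sz F m)) (y : Cfsg.Sz F m), Odd (Nat.card A) ∧ A ≠ ⊥ ∧
      (∀ a ∈ A, y * a * y⁻¹ ∈ A) ∧ y ^ 4 = 1 ∧ FpfPow A y 4 := by
  classical
  obtain ⟨A, B, hA, -, -, -, hN, -, -⟩ := Suzuki.exists_tori h
  haveI : Fact (Nat.Prime 2) := ⟨Nat.prime_two⟩
  have hodd : Odd (Nat.card A) := by
    refine Odd.of_dvd_nat ?_ (Suzuki.member_card_dvd h hA)
    exact ((Nat.even_pow.2 ⟨Nat.even_pow.2 ⟨even_two, by omega⟩, two_ne_zero⟩).add_odd odd_one)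
  have h5 := Suzuki.five_le_card h hA
  have hA1 : A ≠ ⊥ := fun e => by rw [e, Subgroup.card_bot] at h5; omega
  set N := Subgroup.normalizer (A : Set (Cfsg.Sz F m))
  obtain ⟨P, hP⟩ := Sylow.exists_subgroup_card_pow_prime 2 (G := N) (n := 2)
    (by rw [hN]; exact dvd_mul_right 4 _)
  -- elements of `P` centralise no non-trivial element of `A`
  have hfix : ∀ p ∈ P, p ≠ 1 → ∀ a ∈ A, Commute a ((p : N) : Cfsg.Sz F m) → a = 1 := by
    intro p hp hp1 a ha hc
    by_contra ha1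
    have hmem : ((p : N) : Cfsg.Sz F m) ∈ Subgroup.centralizer {a} :=
      Subgroup.mem_centralizer_singleton_iff.2 hc.eq.symm
    rw [Suzuki.member_ti h hA a ha ha1] at hmem
    refine hp1 (Subtype.ext (orderOf_eq_one_iff.1 ?_))
    refine Nat.eq_one_of_dvd_coprimes ((Nat.coprime_two_left.2 hodd).pow_left 2) ?_
      (Suzuki.member_orderOf_dvd h hA hmem)
    rw [Subgroup.orderOf_coe]
    exact hP ▸ Subgroup.orderOf_dvd_natCard P hp
  have hnorm : ∀ (p : N), ∀ a ∈ A, (p : Cfsg.Sz F m) * a * (p : Cfsg.Sz F m)⁻¹ ∈ A :=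
    fun p a ha => (Subgroup.mem_normalizer_iff.1 p.2 a).1 ha
  by_cases h4 : ∃ p ∈ P, orderOf p = 4
  · obtain ⟨p, hp, hpo⟩ := h4
    refine ⟨A, p, hodd, hA1, hnorm p, ?_, fun i hi hi4 a ha hc => ?_⟩
    · have := pow_orderOf_eq_one p
      rw [hpo] at this
      simpa using congrArg Subtype.val this
    · refine hfix (p ^ i) (pow_mem hp i) (fun e => ?_) a ha (by rwa [Subgroup.coe_pow])
      have := Nat.le_of_dvd hi (hpo ▸ orderOf_dvd_of_pow_eq_one e)
      omega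
  exfalso
  push Not at h4
  have hsq : ∀ p ∈ P, p * p = 1 := fun p hp => by
    have hd := hP ▸ Subgroup.orderOf_dvd_natCard P hp
    obtain ⟨j, hj, hjo⟩ := (Nat.dvd_prime_pow Nat.prime_two).1 hd
    have := h4 p hp
    interval_cases j
    · rw [pow_zero, orderOf_eq_one_iff] at hjo; simp [hjo]
    · rw [← pow_two, show 2 = orderOf p by rw [hjo, pow_one], pow_orderOf_eq_one]
    · exact absurd hjo this
  have hinv : ∀ p ∈ P, p ≠ 1 → ∀ a ∈ A,
      ((p : N) : Cfsg.Sz F m) * a * ((p : N) : Cfsg.Sz F m)⁻¹ = a⁻¹ := by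
    intro p hp hp1 a ha
    set u := ((p : N) : Cfsg.Sz F m) with hu
    have hu2 : u * u = 1 := congrArg Subtype.val (hsq p hp)
    have hua := hnorm p a ha
    have hc : Commute (a * (u * a * u⁻¹)) u := by
      show _ * u = u * _
      calc a * (u * a * u⁻¹) * u = a * u * a := by group
        _ = (u * u) * a * u⁻¹ * a := by rw [inv_eq_of_mul_eq_one_right hu2, hu2, one_mul]
        _ = u * ((u * a * u⁻¹) * a) := by group
        _ = u * (a * (u * a * u⁻¹)) := by rw [Suzuki.member_comm h hA hua ha]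
    exact (inv_eq_of_mul_eq_one_right (hfix p hp hp1 _ (A.mul_mem ha hua) hc)).symm
  haveI : Finite P := inferInstance
  obtain ⟨a, ha, ha1⟩ := (Subgroup.ne_bot_iff_exists_ne_one.1 hA1).elim
    fun x hx => (⟨x.1, x.2, fun e => hx (Subtype.ext e)⟩ : ∃ a ∈ A, a ≠ 1)
  -- two distinct involutions of `P`
  obtain ⟨p, hp, hp1, q, hq, hq1, hpq⟩ : ∃ p ∈ P, p ≠ 1 ∧ ∃ q ∈ P, q ≠ 1 ∧ p ≠ q := by
    haveI := Fintype.ofFinite P
    have hc : (2 : ℕ) < (Finset.univ : Finset P).card := by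
      rw [Finset.card_univ, ← Nat.card_eq_fintype_card, hP]; norm_num
    obtain ⟨x, -, y, -, z, -, hxy, hxz, hyz⟩ := Finset.two_lt_card.1 hc
    by_cases hx1 : x = 1
    · exact ⟨y, y.2, fun e => hxy (hx1.trans (Subtype.ext e.symm)), z, z.2,
        fun e => hxz (hx1.trans (Subtype.ext e.symm)), fun e => hyz (Subtype.ext e)⟩
    by_cases hy1 : y = 1
    · exact ⟨x, x.2, fun e => hx1 (Subtype.ext e), z, z.2,
        fun e => hyz (hy1.trans (Subtype.ext e.symm)), fun e => hxz (Subtype.ext e)⟩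
    exact ⟨x, x.2, fun e => hx1 (Subtype.ext e), y, y.2, fun e => hy1 (Subtype.ext e),
      fun e => hxy (Subtype.ext e)⟩
  refine ha1 (hfix (p * q) (mul_mem hp hq) (fun e => hpq ?_) a ha ?_)
  · rw [mul_eq_one_iff_eq_inv] at e
    rw [e]; exact inv_eq_of_mul_eq_one_right (hsq q hq)
  · have h1 := hinv p hp hp1 a⁻¹ (inv_mem ha)
    have h2 := hinv q hq hq1 a ha
    rw [inv_inv] at h1
    rw [← h2] at h1
    show a * _ = _ * a
    rw [Subgroup.coe_mul]
    conv_lhs => rw [← h1]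
    group

variable {G : Type u} [Group G] [Finite G]

/-- The quotient by a non-trivial largest normal `2`-subgroup has no such Frobenius group. -/
theorem no_frobenius_four (h : H3 G) (hc : CIT G) {X : Subgroup G} [X.Normal] (hX : IsO2 X)
    (hX1 : X ≠ ⊥) (A : Subgroup (G ⧸ X)) (hA : Odd (Nat.card A)) (hA1 : A ≠ ⊥) (y : G ⧸ X)
    (hy : ∀ a ∈ A, y * a * y⁻¹ ∈ A) (hy4 : y ^ 4 = 1) (hf : FpfPow A y 4) : False := by
  classical
  haveI : Fact (Nat.Prime 2) := ⟨Nat.prime_two⟩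
  set V := omegaZ X with hVdef
  have hVn : ∀ g : G, g ∈ Subgroup.normalizer (V : Set G) := fun g =>
    normalizer_le_omegaZ X (by rw [Subgroup.normalizer_eq_top]; exact Subgroup.mem_top g)
  obtain ⟨v₀, hv₀, hv₀1⟩ : ∃ v ∈ V, v ≠ 1 := by
    obtain ⟨⟨w, hwX, hwc⟩, hw1⟩ :=
      Subgroup.ne_bot_iff_exists_ne_one.1 (CN.exists_center_inf hX.isPGroup hX1)
    obtain ⟨k, hk⟩ := order_two_pow hX.isPGroup hwX
    obtain ⟨j, hj⟩ := exists_pow_invol (fun e => hw1 (Subtype.ext e)) hk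
    exact ⟨w ^ j, ⟨pow_mem hwX j, mul_self hj, fun a ha =>
      ((show Commute a w from hwc a ha).pow_right j).eq.symm⟩, ne_one hj⟩
  letI : CommGroup V := { (inferInstance : Group V) with
    mul_comm := fun a b => Subtype.ext ((omegaZ_elem X).2 a a.2 b b.2) }
  let incl : G →* Subgroup.normalizer (V : Set G) := (MonoidHom.id G).codRestrict _ hVn
  let act : G →* MulAut V := (Subgroup.normalizerMonoidHom V).comp incl
  let ρ : G ⧸ X →* MulAut V := QuotientGroup.lift _ act fun g hg => by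
    refine MulEquiv.ext fun v => Subtype.ext ?_
    show g * v * g⁻¹ = v
    rw [← omegaZ_central v.2 hg, mul_inv_cancel_right]
  have hρ : ∀ (g : G) (v : V), ((ρ (QuotientGroup.mk g) v : V) : G) = g * v * g⁻¹ := fun g v => rfl
  have hV2 : ∀ v : V, v * v = 1 := fun v => Subtype.ext ((omegaZ_elem X).1 v v.2)
  have hco : ∀ v : V, v ^ Nat.card A = 1 → v = 1 := fun v hv => by
    obtain ⟨k, hk⟩ := hA
    rwa [hk, pow_succ, pow_mul, pow_two, hV2, one_pow, one_mul] at hv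
  obtain ⟨⟨a, ha⟩, ha1⟩ := Subgroup.ne_bot_iff_exists_ne_one.1 hA1
  have hAne : ∃ a ∈ A, ∃ v, ρ a v ≠ v := by
    refine ⟨a, ha, ⟨v₀, hv₀⟩, fun e => ha1 (Subtype.ext ?_)⟩
    obtain ⟨g, rfl⟩ := QuotientGroup.mk_surjective a
    have e' : g * v₀ * g⁻¹ = v₀ := (hρ g ⟨v₀, hv₀⟩).symm.trans (congrArg Subtype.val e)
    obtain ⟨k, hk⟩ := order_two_pow (hX.isPGroup.to_le (omegaZ_le X)) hv₀
    obtain ⟨i, hi⟩ := order_two_pow (hc.isPGroup hv₀1 hk) (mem_Ct.2 (mul_inv_eq_iff_eq_mul.1 e'))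
    refine orderOf_eq_one_iff.1 (Nat.eq_one_of_dvd_coprimes ((Nat.coprime_two_left.2 hA).pow_left i)
      ?_ (Subgroup.orderOf_dvd_natCard A ha))
    exact hi ▸ orderOf_map_dvd (QuotientGroup.mk' X) g
  obtain ⟨q, -, v, hv⟩ := exists_norm_ne ρ A hy (n := 4) (by norm_num) hf hco hAne
  -- a lift of order dividing four
  obtain ⟨g, hg⟩ := QuotientGroup.mk_surjective (q * y * q⁻¹)
  obtain ⟨z, hz, hz4⟩ : ∃ z : G, (z : G ⧸ X) = q * y * q⁻¹ ∧ z ^ 4 = 1 := by
    obtain ⟨j, l, hl, e⟩ := Nat.exists_eq_two_pow_mul_odd (n := orderOf g) (orderOf_pos g).ne'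
    have hj : j ≤ 2 := by
      by_contra hj
      exact h.not_cube Nat.prime_two (k := 3) le_rfl g
        ((pow_dvd_pow 2 (by omega)).trans (e ▸ dvd_mul_right _ _))
    obtain ⟨i, hi⟩ : ∃ i, l * i % 4 = 1 := ⟨l, by
      obtain ⟨a, rfl⟩ := hl
      rcases Nat.even_or_odd a with ⟨b, rfl⟩ | ⟨b, rfl⟩ <;> ring_nf <;> omega⟩
    refine ⟨g ^ (l * i), ?_, ?_⟩
    · rw [QuotientGroup.mk_pow, hg, _root_.conj_pow]
      have : y ^ (l * i) = y := by
        conv_lhs => rw [← Nat.div_add_mod (l * i) 4, hi, pow_succ, pow_mul, hy4, one_pow, one_mul]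
      rw [this]
    · rw [← pow_mul]
      refine orderOf_dvd_iff_pow_eq_one.1 ?_
      rw [e, mul_comm (2 ^ j)]
      exact mul_dvd_mul (dvd_mul_right l i) ((pow_dvd_pow 2 hj).trans (by norm_num))
  let actz : ℕ → V → V := fun i w => ρ ((z : G ⧸ X) ^ i) w
  have hactz : ∀ i w, V.subtype (actz i w) = z ^ i * V.subtype w * (z ^ i)⁻¹ := fun i w => by
    show ((ρ ((z : G ⧸ X) ^ i) w : V) : G) = _
    rw [← QuotientGroup.mk_pow]
    exact hρ _ w
  have hpow := mul_pow_eq_norm V.subtype z actz hactz v 4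
  rw [hz4, mul_one] at hpow
  have e1 : ∀ i, ρ ((z : G ⧸ X) ^ i) v = ρ (q * y ^ i * q⁻¹) v := fun i => by rw [hz, _root_.conj_pow]
  rw [Finset.prod_congr rfl (fun i _ => e1 i)] at hpow
  set x := V.subtype v * z with hx
  have hx4 : x ^ 4 ≠ 1 := by
    rw [hpow]
    exact fun e => hv (V.subtype_injective (e.trans (map_one _).symm))
  have hx8 : x ^ 8 = 1 := by
    rw [show 8 = 4 + 4 from rfl, pow_add, hpow, ← map_mul, hV2, map_one]
  obtain ⟨j, hj, hjo⟩ := (Nat.dvd_prime_pow Nat.prime_two).1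
    (orderOf_dvd_of_pow_eq_one (show x ^ 2 ^ 3 = 1 from hx8))
  have h3j : j = 3 := by
    by_contra hj3
    refine hx4 (orderOf_dvd_iff_pow_eq_one.1 ?_)
    rw [hjo, show (4 : ℕ) = 2 ^ 2 from rfl]
    exact pow_dvd_pow 2 (by omega)
  exact h.not_cube Nat.prime_two (k := 3) le_rfl x (by rw [hjo, h3j])

/-- A Suzuki quotient by a normal `2`-subgroup forces that subgroup to be trivial. -/
theorem suzuki_quot (h : H3 G) (hc : CIT G) {X : Subgroup G} [X.Normal] (hX : IsO2 X)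
    (hs : Cfsg.Lie.IsoSuzuki (G ⧸ X)) : X = ⊥ := by
  obtain ⟨F, _, _, m, hm, hF, ⟨e⟩⟩ := hs
  have hS : Suzuki.SzField F m := ⟨hm, hF⟩
  let f : Cfsg.Sz F m ≃* G ⧸ X := (Suzuki.minorEquiv hS).trans e.symm
  obtain ⟨A, y, hA, hA1, hy, hy4, hf⟩ := exists_torus_four hS
  by_contra hX1
  refine no_frobenius_four h hc hX hX1 (A.map f.toMonoidHom) ?_ ?_ (f y) ?_ ?_ ?_
  · rw [Subgroup.card_map_of_injective f.injective]; exact hA
  · rw [Ne, Subgroup.map_eq_bot_iff_of_injective _ f.injective]; exact hA1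
  · rintro _ ⟨a, ha, rfl⟩
    exact ⟨y * a * y⁻¹, hy a ha, by simp⟩
  · rw [← map_pow, hy4, map_one]
  · rintro i hi hi4 _ ⟨a, ha, rfl⟩ hc'
    have : a = 1 := hf i hi hi4 a ha (f.injective (by simpa using hc'.eq))
    simp [this]

end Cfsg.Agent.ThreeOrd
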