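import Cfsg.Agent.Lib.ThreeOrd.Orders
import Cfsg.Agent.Lib.EPPO.Main
import Mathlib.GroupTheory.Sylow

/-!
# No extension of degree two of `PSL(2, 9)`

Such a group with `2`-groups as centralisers of involutions has an element of order eight.
-/

set_option autoImplicit false
set_option linter.style.haveILetI false
set_option linter.unusedSectionVars false

namespace Cfsg.Agent.ThreeOrd

open Cfsg.Agent.CNSimple Cfsg.Agent.Invol SL2Inv

universe u v

variable {F : Type v} [Field F] [Fintype F]

local notation "SL" => Matrix.SpecialLinearGroup (Fin 2) F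
local notation "PSL" => Matrix.ProjectiveSpecialLinearGroup (Fin 2) F

/-- The diagonal torus of `SL(2, F)`. -/
def diagHom : Fˣ →* SL where
  toFun v := ⟨!![(v : F), 0; 0, ((v⁻¹ : Fˣ) : F)], by simp [Matrix.det_fin_two]⟩
  map_one' := Subtype.ext (by ext i j; fin_cases i <;> fin_cases j <;> simp)
  map_mul' v w := Subtype.ext (by
    show _ = !![(v : F), 0; 0, ((v⁻¹ : Fˣ) : F)] * !![(w : F), 0; 0, ((w⁻¹ : Fˣ) : F)]
    ext i j; fin_cases i <;> fin_cases j <;>
      simp [Matrix.mul_apply, Fin.sum_univ_two, mul_comm])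

theorem coe_diagHom (v : Fˣ) : (diagHom v : SL).1 = !![(v : F), 0; 0, ((v⁻¹ : Fˣ) : F)] := rfl

/-- A dihedral group of order eight in `PSL(2, 9)`. -/
theorem exists_dihedral_nine (hF : Fintype.card F = 9) :
    ∃ a w : PSL, orderOf a = 4 ∧ w * w = 1 ∧ w * a * w⁻¹ = a⁻¹ := by
  classical
  obtain ⟨u, hu⟩ := IsCyclic.exists_ofOrder_eq_natCard (α := Fˣ)
  rw [Nat.card_eq_fintype_card, Fintype.card_units, hF] at hu
  let φ : Fˣ →* SL := diagHom
  have hinj : Function.Injective φ := fun v w e =>
    Units.ext (by simpa [φ, coe_diagHom] using congrArg (fun m : SL => m.1 0 0) e)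
  have hφ : ∀ v, φ v = negOne → v = -1 := fun v e => Units.ext (by
    simpa [φ, coe_diagHom, coe_negOne] using congrArg (fun m : SL => m.1 0 0) e)
  refine ⟨PSL2Inv.pr (φ u), PSL2Inv.pr w, ?_, ?_, ?_⟩
  · refine orderOf_eq_prime_pow (p := 2) (n := 1) ?_ ?_
    · intro e
      rw [← map_pow, ← map_pow, PSL2Inv.pr_eq_one_iff] at e
      have h4 : u ^ 4 = 1 := by
        rcases e with e | e
        · have h2 : u ^ (2 ^ 1) = 1 := hinj (e.trans (map_one φ).symm)
          rw [show 4 = 2 ^ 1 + 2 ^ 1 from rfl, pow_add, h2, one_mul]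
        · rw [show 4 = 2 ^ 1 + 2 ^ 1 from rfl, pow_add, hφ _ e]
          simp
      have := Nat.le_of_dvd (by norm_num) (orderOf_dvd_of_pow_eq_one h4)
      omega
    · rw [← map_pow, PSL2Inv.pr_eq_one_iff, ← map_pow]
      right
      have h8 : (u ^ 2 ^ (1 + 1)) ^ 2 = 1 := by
        rw [← pow_mul, show 2 ^ (1 + 1) * 2 = orderOf u by rw [hu]; norm_num, pow_orderOf_eq_one]
      rcases (sq_eq_one_iff (a := ((u ^ 2 ^ (1 + 1) : Fˣ) : F))).1
          (by rw [← Units.val_pow_eq_pow_val, h8, Units.val_one]) with e | e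
      · have := Nat.le_of_dvd (by norm_num) (orderOf_dvd_of_pow_eq_one (Units.ext e :
          u ^ 2 ^ (1 + 1) = 1))
        norm_num at this
        omega
      · refine Subtype.ext ?_
        rw [show u ^ 2 ^ (1 + 1) = -1 from Units.ext (by rw [e, Units.val_neg, Units.val_one]),
          coe_diagHom, coe_negOne]
        ext i j
        fin_cases i <;> fin_cases j <;> simp
  · rw [← map_mul, PSL2Inv.pr_eq_one_iff]
    right
    refine Subtype.ext ?_
    rw [Matrix.SpecialLinearGroup.coe_mul, coe_negOne]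
    simp only [SL2Inv.w]
    ext i j
    fin_cases i <;> fin_cases j <;> simp [Matrix.mul_apply, Fin.sum_univ_two]
  · rw [mul_inv_eq_iff_eq_mul, ← map_mul, ← map_inv, ← map_mul, ← map_inv φ]
    refine congrArg _ (Subtype.ext ?_)
    rw [Matrix.SpecialLinearGroup.coe_mul, Matrix.SpecialLinearGroup.coe_mul, coe_diagHom, coe_diagHom]
    simp only [SL2Inv.w]
    ext i j
    fin_cases i <;> fin_cases j <;> simp [Matrix.mul_apply, Fin.sum_univ_two]

variable {G : Type u} [Group G] [Finite G]

/-- `G` is not an extension of degree two of `PSL(2, 9)`. -/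
theorem no_index_two_nine (h : H3 G) (hc : CIT G) {M : Subgroup G} [hMn : M.Normal]
    (hidx : M.index = 2) (hF : Fintype.card F = 9) (e : M ≃* PSL) : False := by
  classical
  haveI : Fact (Nat.Prime 2) := ⟨Nat.prime_two⟩
  have hcM : Nat.card M = 360 := by
    rw [Nat.card_congr e.toEquiv]
    have h2 := EPPO.card_psl_two F
    rw [hF] at h2
    rw [show Nat.gcd 2 (9 - 1) = 2 from rfl] at h2
    omega
  obtain ⟨a₀, w₀, ha₀, hw₀, hwa₀⟩ := exists_dihedral_nine (F := F) hF
  set a : M := e.symm a₀ with hadef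
  set w : M := e.symm w₀ with hwdef
  have ha : orderOf a = 4 := by rw [hadef, MulEquiv.orderOf_eq]; exact ha₀
  have hw : w * w = 1 := by rw [hwdef, ← map_mul, hw₀, map_one]
  have hwa : w * a * w⁻¹ = a⁻¹ := by rw [hadef, hwdef, ← map_inv, ← map_mul, ← map_mul, hwa₀, map_inv]
  have ha4 : a ^ 4 = 1 := ha ▸ pow_orderOf_eq_one a
  set z : M := a ^ 2 with hzdef
  have hz : orderOf z = 2 := by
    rw [hzdef, orderOf_pow' a two_ne_zero, ha]; norm_num
  have hzG : orderOf (z : G) = 2 := by rwa [Subgroup.orderOf_coe]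
  set S : Subgroup M := Subgroup.centralizer {z} with hS
  have hmemS : ∀ g : M, g ∈ S ↔ g * z = z * g := fun g => Subgroup.mem_centralizer_singleton_iff
  have hSp : IsPGroup 2 S := (hc.subgroup M) z hz
  have haS : a ∈ S := (hmemS a).2 ((Commute.refl a).pow_right 2).eq
  have hwS : w ∈ S := (hmemS w).2 (by
    have h1 : w * z * w⁻¹ = z := by
      rw [hzdef, ← _root_.conj_pow, hwa]
      exact (inv_pow a 2).trans (inv_eq_of_mul_eq_one_right (by rw [← pow_add]; exact ha4))
    exact mul_inv_eq_iff_eq_mul.1 h1)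
  -- the centraliser of `z` in `M` has order eight
  have hwnot : w ∉ Subgroup.zpowers a := fun hw' => by
    obtain ⟨i, hi⟩ := Subgroup.mem_zpowers_iff.1 hw'
    have hcomm : w * a * w⁻¹ = a := by
      rw [← hi, ((Commute.refl a).zpow_left i).eq, mul_inv_cancel_right]
    have h2 : a ^ 2 = 1 := by
      rw [pow_two]
      exact mul_eq_one_iff_eq_inv.2 (hcomm.symm.trans hwa)
    have := Nat.le_of_dvd (by norm_num) (orderOf_dvd_of_pow_eq_one h2)
    omega
  have hS8 : Nat.card S = 8 := by
    obtain ⟨k, hk⟩ := IsPGroup.iff_card.1 hSp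
    have hle : Subgroup.zpowers a ≤ S := Subgroup.zpowers_le.2 haS
    have hlt : Subgroup.zpowers a < S := lt_of_le_of_ne hle fun e' => hwnot (e' ▸ hwS)
    have h4 : 4 < Nat.card S := by
      have hdvd := Subgroup.card_dvd_of_le hle
      rw [Nat.card_zpowers, ha] at hdvd
      have := Nat.le_of_dvd Nat.card_pos hdvd
      rcases Nat.lt_or_ge 4 (Nat.card S) with h4 | h4
      · exact h4
      · exact absurd (Subgroup.eq_of_le_of_card_ge hle (by rw [Nat.card_zpowers, ha]; omega)) hlt.ne
    have hd := Subgroup.card_subgroup_dvd_card S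
    rw [hcM, hk] at hd
    have hk3 : k ≤ 3 := by
      by_contra hk3
      have := (pow_dvd_pow 2 (by omega : 4 ≤ k)).trans hd
      norm_num at this
    rw [hk] at h4 ⊢
    interval_cases k <;> first | rfl | (norm_num at h4)
  -- its elements
  let J : Finset M := {z, w, a * w, a ^ 2 * w, a ^ 3 * w}
  have hJ : ∀ s ∈ S, s = 1 ∨ s = a ∨ s = a ^ 3 ∨ s ∈ J := by
    let f : Fin 4 × Fin 2 → S := fun p =>
      ⟨a ^ (p.1 : ℕ) * w ^ (p.2 : ℕ), mul_mem (pow_mem haS _) (pow_mem hwS _)⟩
    have hf : Function.Bijective f := by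
      rw [Nat.bijective_iff_injective_and_card]
      refine ⟨fun p q hpq => ?_, by rw [hS8]; simp⟩
      have e' : a ^ (p.1 : ℕ) * w ^ (p.2 : ℕ) = a ^ (q.1 : ℕ) * w ^ (q.2 : ℕ) := congrArg Subtype.val hpq
      have h2 : p.2 = q.2 := by
        by_contra hne
        obtain ⟨i, j⟩ := p
        obtain ⟨i', j'⟩ := q
        refine hwnot ?_
        have hmem : ∀ n : ℕ, a ^ n ∈ Subgroup.zpowers a := fun n => pow_mem (Subgroup.mem_zpowers a) n
        fin_cases j <;> fin_cases j' <;>
          simp only [Fin.zero_eta, Fin.mk_one, Fin.val_zero, Fin.val_one, pow_zero, pow_one, mul_one,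
            Fin.isValue, not_true_eq_false] at hne e'
        · rw [← inv_mul_eq_iff_eq_mul] at e'
          rw [← e']; exact mul_mem (inv_mem (hmem _)) (hmem _)
        · rw [← eq_inv_mul_iff_mul_eq] at e'
          rw [e']; exact mul_mem (inv_mem (hmem _)) (hmem _)
      rw [h2, mul_left_inj] at e'
      exact Prod.ext (Fin.ext (pow_injOn_Iio_orderOf (by rw [ha]; exact p.1.2) (by rw [ha]; exact q.1.2) e')) h2
    intro s hs
    obtain ⟨⟨i, j⟩, hij⟩ := hf.2 ⟨s, hs⟩
    have hs' : s = a ^ (i : ℕ) * w ^ (j : ℕ) := (congrArg Subtype.val hij).symm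
    subst hs'
    fin_cases i <;> fin_cases j <;> simp [J, hzdef]
  have hinvJ : ∀ s ∈ S, orderOf s = 2 → s ∈ J := fun s hs ho => by
    rcases hJ s hs with rfl | rfl | rfl | h'
    · simp at ho
    · omega
    · rw [orderOf_pow' a (by norm_num), ha] at ho; norm_num at ho
    · exact h'
  have ha_cases : ∀ s ∈ S, orderOf s = 4 → s = a ∨ s = a⁻¹ := fun s hs ho => by
    rcases hJ s hs with rfl | rfl | rfl | h'
    · simp at ho
    · exact Or.inl rfl
    · exact Or.inr (eq_inv_of_mul_eq_one_left (by rw [← pow_succ, ha4]))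
    · exfalso
      have h1 : s * s = 1 := by
        have hk : ∀ n : ℕ, a ^ n * w * (a ^ n * w) = 1 := fun n => by
          calc a ^ n * w * (a ^ n * w) = a ^ n * (w * a ^ n * w⁻¹) * (w * w) := by group
            _ = 1 := by rw [Invol.conj_pow hwa, hw, mul_inv_cancel, mul_one]
        simp only [J, Finset.mem_insert, Finset.mem_singleton] at h'
        rcases h' with rfl | rfl | rfl | rfl | rfl
        · exact Invol.mul_self hz
        · exact hw
        · simpa using hk 1
        · exact hk 2
        · exact hk 3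
      have := Nat.le_of_dvd (by norm_num) (orderOf_dvd_of_pow_eq_one (show s ^ 2 = 1 by rw [pow_two, h1]))
      omega
  -- every `2`-subgroup is contained in a conjugate of `S`
  have hfac : 2 ^ (Nat.card M).factorization 2 = 8 := by
    rw [hcM, Nat.factorization_def _ Nat.prime_two,
      show (360 : ℕ) = 2 ^ 3 * 45 by norm_num, padicValNat.mul (by norm_num) (by norm_num),
      padicValNat.prime_pow, padicValNat.eq_zero_of_not_dvd (by norm_num : ¬ 2 ∣ 45)]
    norm_num
  let SP : Sylow 2 M := Sylow.ofCard S (hS8.trans hfac.symm)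
  have hSPcoe : (SP : Subgroup M) = S := Sylow.coe_ofCard S _
  have hconj : ∀ T : Subgroup M, IsPGroup 2 T → ∃ c : M, ∀ t ∈ T, c⁻¹ * t * c ∈ S := by
    intro T hT
    obtain ⟨Q, hQ⟩ := hT.exists_le_sylow
    obtain ⟨c, hc'⟩ := MulAction.exists_smul_eq M SP Q
    refine ⟨c, fun t ht => ?_⟩
    have h1 := hQ ht
    rw [← hc', Sylow.coe_subgroup_smul, Subgroup.mem_pointwise_smul_iff_inv_smul_mem, hSPcoe] at h1
    simpa [MulAut.smul_def] using h1
  -- an element outside `M` centralising `a`
  obtain ⟨x, hxM, hxa⟩ : ∃ x : G, x ∉ M ∧ Commute x (a : G) := by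
    obtain ⟨g, hg⟩ : ∃ g : G, g ∉ M := by
      by_contra hcon
      push Not at hcon
      rw [(Subgroup.eq_top_iff' M).2 hcon, Subgroup.index_top] at hidx
      omega
    obtain ⟨n, hn, m, hm, hgm⟩ := Subgroup.mem_sup_of_normal_right.1
      (SP.normalizer_sup_eq_top ▸ Subgroup.mem_top g :
        g ∈ Subgroup.normalizer (((SP : Subgroup M).map M.subtype : Subgroup G) : Set G) ⊔ M)
    have hnM : n ∉ M := fun hn' => hg (hgm ▸ M.mul_mem hn' hm)
    rw [hSPcoe] at hn
    obtain ⟨s, hs, hs'⟩ := (Subgroup.mem_normalizer_iff.1 hn (a : G)).1 ⟨a, haS, rfl⟩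
    have hso : orderOf s = 4 := by
      rw [← Subgroup.orderOf_coe s]
      show orderOf (M.subtype s) = 4
      rw [hs', order_conj, Subgroup.orderOf_coe, ha]
    rcases ha_cases s hs hso with rfl | rfl
    · exact ⟨n, hnM, (mul_inv_eq_iff_eq_mul.1 hs'.symm)⟩
    · refine ⟨n * w, fun h' => hnM ((M.mul_mem_cancel_right w.2).1 h'), mul_inv_eq_iff_eq_mul.1 ?_⟩
      rw [show n * (w : G) * a * (n * (w : G))⁻¹ = n * ((w : G) * a * (w : G)⁻¹) * n⁻¹ by group,
        show (w : G) * a * (w : G)⁻¹ = ((a⁻¹ : M) : G) by rw [← hwa]; rfl, Subgroup.coe_inv,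
        ← conj_inv, ← hs', M.subtype_apply, Subgroup.coe_inv, inv_inv]
  have hx2 : x * x ∈ M := Subgroup.mul_self_mem_of_index_two hidx x
  have hcentS : ∀ g : M, Commute g a → g ∈ S := fun g hg => (hmemS g).2 (hg.pow_right 2).eq
  -- an involution outside `M` centralising `a`
  obtain ⟨y, hyM, hy, hya⟩ : ∃ y : G, y ∉ M ∧ orderOf y = 2 ∧ Commute y (a : G) := by
    have hs : (⟨x * x, hx2⟩ : M) ∈ S := hcentS _ (Subtype.ext (hxa.mul_left hxa).eq)
    have hne : ∀ y : G, y ∉ M → y * y = 1 → orderOf y = 2 := fun y hy h1 =>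
      order_two_of_sq h1 fun e' => hy (e' ▸ M.one_mem)
    rcases hJ _ hs with e' | e' | e' | e'
    · exact ⟨x, hxM, hne x hxM (congrArg Subtype.val e'), hxa⟩
    · exfalso
      refine h.not_cube Nat.prime_two (k := 3) le_rfl x ?_
      have h2 : orderOf (x * x) = 4 := by
        rw [show x * x = (a : G) from congrArg Subtype.val e', Subgroup.orderOf_coe, ha]
      rw [← pow_two, orderOf_pow' x two_ne_zero] at h2
      have hev : 2 ∣ orderOf x := by
        by_contra hodd
        have h1 : Nat.gcd (orderOf x) 2 = 1 :=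
          Nat.Coprime.symm ((Nat.prime_two.coprime_iff_not_dvd).2 hodd)
        rw [h1, Nat.div_one] at h2
        omega
      rw [Nat.gcd_eq_right hev] at h2
      omega
    · exfalso
      refine h.not_cube Nat.prime_two (k := 3) le_rfl x ?_
      have h2 : orderOf (x * x) = 4 := by
        rw [show x * x = ((a ^ 3 : M) : G) from congrArg Subtype.val e', Subgroup.orderOf_coe,
          orderOf_pow' a (by norm_num), ha]
        norm_num
      rw [← pow_two, orderOf_pow' x two_ne_zero] at h2
      have hev : 2 ∣ orderOf x := by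
        by_contra hodd
        have h1 : Nat.gcd (orderOf x) 2 = 1 :=
          Nat.Coprime.symm ((Nat.prime_two.coprime_iff_not_dvd).2 hodd)
        rw [h1, Nat.div_one] at h2
        omega
      rw [Nat.gcd_eq_right hev] at h2
      omega
    · -- then `x * x = z`, as `x * x` commutes with `a`
      have hca : (⟨x * x, hx2⟩ : M) * a = a * ⟨x * x, hx2⟩ := Subtype.ext (hxa.mul_left hxa).eq
      have hkey : ∀ n : ℕ, a ^ n * w * a ≠ a * (a ^ n * w) := fun n e'' => by
        have h1 : w * a = a * w := mul_left_cancel (a := a ^ n) (by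
          rw [← mul_assoc, e'', ← mul_assoc, ← mul_assoc, ((Commute.refl a).pow_left n).eq])
        have h2 : a ^ 2 = 1 := by
          rw [pow_two]
          refine mul_eq_one_iff_eq_inv.2 ?_
          rw [← hwa, h1, mul_inv_cancel_right]
        have := Nat.le_of_dvd (by norm_num) (orderOf_dvd_of_pow_eq_one h2)
        omega
      simp only [J, Finset.mem_insert, Finset.mem_singleton] at e'
      rcases e' with e' | e' | e' | e' | e'
      · refine ⟨x * (a : G), fun h' => hxM ((M.mul_mem_cancel_right a.2).1 h'), hne _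
          (fun h' => hxM ((M.mul_mem_cancel_right a.2).1 h')) ?_, hxa.mul_left (Commute.refl _)⟩
        rw [mul_assoc, ← mul_assoc (a : G), ← hxa.eq, ← mul_assoc, ← mul_assoc,
          show x * x = (z : G) from congrArg Subtype.val e', mul_assoc]
        have h4 := congrArg Subtype.val ha4
        rw [Subgroup.coe_pow, OneMemClass.coe_one] at h4
        rw [hzdef, Subgroup.coe_pow, ← h4]
        group
      · exact absurd (by simpa [e'] using hca) (by simpa using hkey 0)
      · exact absurd (by simpa [e'] using hca) (by simpa using hkey 1)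
      · exact absurd (by simpa [e'] using hca) (hkey 2)
      · exact absurd (by simpa [e'] using hca) (hkey 3)
  -- the `2`-subgroups containing `a`
  have hsub : ∀ T : Subgroup M, IsPGroup 2 T → a ∈ T → T ≤ S := by
    intro T hT haT t ht
    obtain ⟨c, hc'⟩ := hconj T hT
    have hco : orderOf (c⁻¹ * a * c) = 4 := by
      rw [show c⁻¹ * a * c = c⁻¹ * a * (c⁻¹)⁻¹ by group, order_conj, ha]
    have hcz : c⁻¹ * z * c = z := by
      rw [hzdef, show c⁻¹ * a ^ 2 * c = (c⁻¹ * a * c) ^ 2 by rw [pow_two, pow_two]; group]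
      rcases ha_cases _ (hc' a haT) hco with e' | e' <;> rw [e']
      exact (inv_pow a 2).trans (inv_eq_of_mul_eq_one_right (by rw [← pow_add]; exact ha4))
    have hcS : c ∈ S := (hmemS c).2 (by
      calc c * z = c * (c⁻¹ * z * c) := by rw [hcz]
        _ = z * c := by group)
    have := S.mul_mem (S.mul_mem hcS (hc' t ht)) (S.inv_mem hcS)
    rwa [show c * (c⁻¹ * t * c) * c⁻¹ = t by group] at this
  -- every involution of `M` commutes with one in `J`
  let T : Subgroup M := (Subgroup.centralizer {y}).comap M.subtype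
  have hTp : IsPGroup 2 T := (hc y hy).comap_of_injective _ M.subtype_injective
  have haT : a ∈ T := Subgroup.mem_centralizer_singleton_iff.2 hya.eq.symm
  have hyy : y⁻¹ = y := inv_eq_of_mul_eq_one_right (Invol.mul_self hy)
  have hcover : ∀ s : M, orderOf s = 2 →
      ∃ t ∈ J, orderOf t = 2 ∧ s * t = t * s := by
    intro s hs
    have hsG : orderOf (s : G) = 2 := by rwa [Subgroup.orderOf_coe]
    have hss : (s : G) * s = 1 := Invol.mul_self hsG
    have hinS : s ∈ T → ∃ t ∈ J, orderOf t = 2 ∧ s * t = t * s := fun hsT =>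
      ⟨z, by simp [J], hz, (hmemS s).1 (hsub T hTp haT hsT)⟩
    set u := y * (s : G) with hu
    have hyu : y * u * y⁻¹ = u⁻¹ := by
      rw [hu, mul_inv_rev, hyy, ← mul_assoc, Invol.mul_self hy, one_mul,
        inv_eq_of_mul_eq_one_right hss]
    have hev : Even (orderOf u) := by
      by_contra hodd
      obtain ⟨k, hk⟩ := Nat.not_even_iff_odd.1 hodd
      have h1 := Invol.conj_pow hyu k
      refine hyM ?_
      have h2 : (u ^ k)⁻¹ * (s : G) * u ^ k = y := by
        have hu1 : u ^ (2 * k + 1) = 1 := hk ▸ pow_orderOf_eq_one u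
        have hy' : y * u ^ k = (u ^ k)⁻¹ * y := mul_inv_eq_iff_eq_mul.1 h1
        calc (u ^ k)⁻¹ * (s : G) * u ^ k = (u ^ k)⁻¹ * y * u * u ^ k := by
              rw [hu, mul_assoc _ y (y * _), ← mul_assoc y y, Invol.mul_self hy, one_mul]
          _ = y * (u ^ k * (u * u ^ k)) := by rw [← hy']; group
          _ = y := by
              rw [← pow_succ', ← pow_add, show k + (k + 1) = 2 * k + 1 by ring, hu1, mul_one]
      rw [← h2]
      simpa using hMn.conj_mem _ s.2 ((u ^ k)⁻¹)
    obtain ⟨k, hk⟩ := hev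
    have hk0 : 0 < k := by have := orderOf_pos u; omega
    set v := u ^ k with hv
    have hvo : orderOf v = 2 := by
      refine orderOf_eq_prime (by rw [hv, ← pow_mul, mul_two, ← hk, pow_orderOf_eq_one]) fun e' => ?_
      have := Nat.le_of_dvd hk0 (orderOf_dvd_of_pow_eq_one e')
      omega
    obtain ⟨j, hj⟩ := order_two_pow (hc v hvo) (mem_Ct.2 ((Commute.refl u).pow_right k).eq)
    have hj2 : j ≤ 2 := by
      by_contra hj3
      exact h.not_cube Nat.prime_two (k := 3) le_rfl u (hj ▸ pow_dvd_pow 2 (by omega))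
    interval_cases j
    · rw [pow_zero, orderOf_eq_one_iff, hu, mul_eq_one_iff_eq_inv, inv_eq_of_mul_eq_one_right hss] at hj
      exact absurd (hj ▸ s.2) hyM
    · rw [pow_one] at hj
      refine hinS (Subgroup.mem_centralizer_singleton_iff.2 ?_)
      have := Invol.mul_self hj
      rw [hu] at this
      show (s : G) * y = y * s
      calc (s : G) * y = y * (y * (s : G) * (y * s)) * (s : G) := by
            simp only [← mul_assoc, Invol.mul_self hy, one_mul]
            rw [mul_assoc, hss, mul_one]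
        _ = y * s := by rw [this, mul_one]
    · have huM : u * u ∈ M := Subgroup.mul_self_mem_of_index_two hidx u
      have hu4 : u ^ 4 = 1 := by
        have h4 := pow_orderOf_eq_one u
        rwa [hj] at h4
      have huu : orderOf (⟨u * u, huM⟩ : M) = 2 := by
        rw [← Subgroup.orderOf_coe]
        show orderOf (u * u) = 2
        rw [← pow_two, orderOf_pow' u two_ne_zero, hj]
        norm_num
      have hyuu : y * (u * u) * y⁻¹ = u * u := by
        rw [← pow_two, Invol.conj_pow hyu 2]
        exact inv_eq_of_mul_eq_one_right (by rw [← pow_add]; exact hu4)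
      have htT : (⟨u * u, huM⟩ : M) ∈ T :=
        Subgroup.mem_centralizer_singleton_iff.2 (mul_inv_eq_iff_eq_mul.1 hyuu).symm
      refine ⟨_, hinvJ _ (hsub T hTp haT htT) huu, huu, Subtype.ext ?_⟩
      show (s : G) * (u * u) = u * u * s
      have hsu : (s : G) = y * u := by rw [hu, ← mul_assoc, Invol.mul_self hy, one_mul]
      rw [hsu, mul_assoc, ← mul_assoc (u * u), ← (mul_inv_eq_iff_eq_mul.1 hyuu)]
      group
  -- counting
  let I : Set M := {s | orderOf s = 2}
  have hlow : 45 ≤ Nat.card I := by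
    have hcard := Subgroup.card_eq_card_quotient_mul_card_subgroup S
    rw [hcM, hS8] at hcard
    let f : M ⧸ S → I := fun q => ⟨q.out * z * (q.out)⁻¹, (order_conj _ _).trans hz⟩
    have hf : Function.Injective f := fun q q' e' => by
      have e1 : q.out * z * (q.out)⁻¹ = q'.out * z * (q'.out)⁻¹ := congrArg Subtype.val e'
      rw [← q.out_eq, ← q'.out_eq]
      refine QuotientGroup.eq.2 ((hmemS _).2 ?_)
      calc (q.out)⁻¹ * q'.out * z = (q.out)⁻¹ * (q'.out * z * (q'.out)⁻¹) * q'.out := by group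
        _ = (q.out)⁻¹ * (q.out * z * (q.out)⁻¹) * q'.out := by rw [e1]
        _ = z * ((q.out)⁻¹ * q'.out) := by group
    have := Nat.card_le_card_of_injective f hf
    omega
  choose c hcS using fun t : M => fun ht : orderOf t = 2 =>
    hconj _ ((hc.subgroup M) t ht)
  have hup : Nat.card I ≤ J.card * J.card := by
    let f : M × M → M := fun p => if ht : orderOf p.1 = 2 then c p.1 ht * p.2 * (c p.1 ht)⁻¹ else 1
    have hsubI : I ⊆ ↑((J ×ˢ J).image f) := by
      intro s hs
      obtain ⟨t, htJ, ht, hcomm⟩ := hcover s hs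
      refine Finset.mem_coe.2 (Finset.mem_image.2 ⟨(t, (c t ht)⁻¹ * s * c t ht), ?_, ?_⟩)
      · refine Finset.mem_product.2 ⟨htJ, hinvJ _ (hcS t ht s (mem_Ct.2 hcomm)) ?_⟩
        rw [show (c t ht)⁻¹ * s * c t ht = (c t ht)⁻¹ * s * ((c t ht)⁻¹)⁻¹ by group, order_conj]
        exact hs
      · show (if ht : orderOf t = 2 then _ else _) = s
        rw [dif_pos ht]
        group
    calc Nat.card I ≤ Nat.card (↑((J ×ˢ J).image f) : Set M) :=
          Nat.card_mono (Finset.finite_toSet _) hsubI
      _ = ((J ×ˢ J).image f).card := Nat.card_eq_finsetCard _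
      _ ≤ (J ×ˢ J).card := Finset.card_image_le
      _ = J.card * J.card := Finset.card_product _ _
  have hJc : J.card ≤ 5 := Finset.card_le_five
  nlinarith

end Cfsg.Agent.ThreeOrd
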