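import Cfsg.Agent.Lib.ThreeOrd.Concl
import Cfsg.Agent.Lib.ThreeOrd.SzQuot
import Cfsg.Agent.Lib.ThreeOrd.TenM
import Cfsg.Agent.Lib.CNSimple.CITStructure
import Cfsg.Agent.Lib.CNSimple.Final
import Cfsg.Agent.Lib.SzRecog.Named
import Cfsg.Agent.Lib.EPPO.PSL

/-!
# The case that centralisers of involutions are `2`-groups
-/

set_option autoImplicit false
set_option linter.style.haveILetI false
set_option linter.unusedSectionVars false

namespace Cfsg.Agent.ThreeOrd

open Cfsg.Agent.CNSimple

universe u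

variable {G : Type u} [Group G] [Finite G]

theorem charTwo_of_card {F : Type*} [Field F] [Fintype F] {n : ℕ} (hn : Fintype.card F = 2 ^ n) :
    CharP F 2 := by
  haveI : Fact (Nat.Prime 2) := ⟨Nat.prime_two⟩
  exact charP_of_card_eq_prime_pow hn

/-- The even linear quotient. -/
theorem concl_even (h : H3 G) {F : Type} [Field F] [Fintype F] [CharP F 2] (h4 : 4 ≤ Fintype.card F)
    (e : G ⧸ Cfsg.pCore 2 G ≃* Matrix.ProjectiveSpecialLinearGroup (Fin 2) F) : Concl G := by
  have hs : H3 (Matrix.ProjectiveSpecialLinearGroup (Fin 2) F) :=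
    (h.quotient (Cfsg.pCore 2 G)).of_injective e.symm.toMonoidHom e.symm.injective
  obtain ⟨h1, h2⟩ := exists_order_even_char (F := F)
  exact Or.inl ⟨F, inferInstance, inferInstance, inferInstance, h4, hs.factors h2, hs.factors h1, ⟨e⟩⟩

/-- A simple Suzuki group. -/
theorem concl_sz (h : H3 G) [IsSimpleGroup G] (hs : Cfsg.Lie.IsoSuzuki G) : Concl G := by
  obtain ⟨F, _, _, m, hm, hF, ⟨e⟩⟩ := hs
  have hS : Suzuki.SzField F m := ⟨hm, hF⟩
  let f : Cfsg.Sz F m ≃* G := (Suzuki.minorEquiv hS).trans e.symm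
  have hh : H3 (Cfsg.Sz F m) := h.of_injective f.toMonoidHom f.injective
  obtain ⟨h1, h2, h3⟩ := exists_order_sz hS
  refine Or.inr (Or.inr (Or.inr (Or.inr ⟨m, hm, inferInstance, ?_, hh.factors h1, hh.factors h3,
    hh.factors h2⟩)))
  rw [← Nat.card_congr f.toEquiv, Suzuki.card_Sz hS]

theorem concl_of_cit (h : H3 G) (hc : CIT G) (hns : ¬ Group.IsSolvable G) : Concl G := by
  classical
  haveI : Fact (Nat.Prime 2) := ⟨Nat.prime_two⟩
  obtain ⟨M, hMn, hM, hC, hcases⟩ := CITStruct.cases hSimple hc hns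
  haveI := hMn
  haveI := hM
  have hX : IsO2 (Cfsg.pCore 2 G) := isO2_pCore
  haveI := hX.normal
  have hcQ : CIT (G ⧸ Cfsg.pCore 2 G) := hX.quotient_cit hc
  have hnsQ : ¬ Group.IsSolvable (G ⧸ Cfsg.pCore 2 G) := fun h' => by
    haveI : Group.IsNilpotent (Cfsg.pCore 2 G) := hX.isPGroup.isNilpotent
    exact hns ((Group.isSolvable_iff_subgroup_quotient (Cfsg.pCore 2 G)).2 ⟨inferInstance, h'⟩)
  have hMns : ¬ Group.IsSolvable M := fun h' => by
    haveI := h'
    have hab := IsSimpleGroup.comm_iff_isSolvable.2 h'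
    have hle : M ≤ Subgroup.centralizer (M : Set (G ⧸ Cfsg.pCore 2 G)) := fun a ha b hb =>
      congrArg Subtype.val (hab ⟨b, hb⟩ ⟨a, ha⟩)
    rw [hC, le_bot_iff] at hle
    exact (Subgroup.nontrivial_iff_ne_bot M).1 inferInstance hle
  by_cases hX1 : Cfsg.pCore 2 G = ⊥
  · let e : G ⧸ Cfsg.pCore 2 G ≃* G :=
      (QuotientGroup.quotientMulEquivOfEq hX1).trans QuotientGroup.quotientBot
    rcases socle_cases hcQ hMns hC hcases with hMtop | ⟨h2, F, i1, i2, h9, ⟨f⟩⟩
    swap
    · exact (no_index_two_nine (h.quotient _) hcQ h2 h9 f).elim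
    let e' : M ≃* G := ((MulEquiv.subgroupCongr hMtop).trans Subgroup.topEquiv).trans e
    haveI : Nontrivial G := e'.toEquiv.symm.nontrivial
    haveI : IsSimpleGroup G := IsSimpleGroup.isSimpleGroup_of_surjective e'.toMonoidHom e'.surjective
    have hna : ¬ IsMulCommutative G := fun hh => hns (Group.isSolvable_of_comm fun a b => hh.is_comm.comm a b)
    have hna' : ∃ a b : G, a * b ≠ b * a := by
      by_contra hh
      push Not at hh
      exact hns (Group.isSolvable_of_comm hh)
    rcases SzRecog.simple_list hna' (Or.inr hc) with ⟨F, i1, i2, hq, ⟨f⟩⟩ | hL | hsz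
    · have h4 := EPPO.five_le_card hna f
      rcases hq with h9 | ⟨n, hn⟩ | ⟨hp, k, hk⟩
      · exact Or.inr (Or.inr (Or.inl ⟨F, i1, i2, Or.inr h9, ⟨f⟩⟩))
      · haveI := charTwo_of_card hn
        exact concl_even h h4 (e.trans f)
      · have hodd : Odd (Fintype.card F) := hp.odd_of_ne_two (by omega)
        have hs : H3 (Matrix.ProjectiveSpecialLinearGroup (Fin 2) F) :=
          h.of_injective f.symm.toMonoidHom f.symm.injective
        obtain ⟨hm1, hp1⟩ := exists_order_half (F := F) hodd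
        have hk3 : k ≤ 3 := by
          by_contra hk3
          obtain ⟨j, rfl⟩ : ∃ j, k = j + 1 := ⟨k - 1, by omega⟩
          rcases hk with hk | hk
          · obtain ⟨g, hg⟩ := hm1
            refine hs.not_cube Nat.prime_two (k := j) (by omega) g ?_
            rw [hg, hk, pow_succ, show (2 ^ j * 2 + 1 - 1) / 2 = 2 ^ j by omega]
          · obtain ⟨g, hg⟩ := hp1
            refine hs.not_cube Nat.prime_two (k := j) (by omega) g ?_
            rw [hg, hk, pow_succ, show 2 ^ j * 2 / 2 = 2 ^ j by omega]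
        have h57 : Fintype.card F = 5 ∨ Fintype.card F = 7 := by
          rcases hk with hk | hk
          · interval_cases k <;> norm_num at hk <;> first | omega | (rw [hk] at hp; norm_num at hp)
          · interval_cases k <;> norm_num at hk <;> omega
        rcases h57 with h5 | h7
        · letI : Fintype (GaloisField 2 2) := Fintype.ofFinite _
          have hK : Fintype.card (GaloisField 2 2) = 4 := by
            rw [← Nat.card_eq_fintype_card, GaloisField.card 2 2 two_ne_zero]; rfl
          exact concl_even h hK.ge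
            (e.trans ((f.trans (S0253.result h5).some).trans (S0252.result hK).some.symm))
        · exact Or.inr (Or.inr (Or.inl ⟨F, i1, i2, Or.inl h7, ⟨f⟩⟩))
    · obtain ⟨F, i1, i2, hF, he⟩ := hL
      exact Or.inr (Or.inr (Or.inr (Or.inl ⟨F, i1, i2, hF, he⟩)))
    · exact concl_sz h hsz
  have hna : ∃ a b : M, a * b ≠ b * a := by
    by_contra hh
    push Not at hh
    exact hMns (Group.isSolvable_of_comm hh)
  rcases ihyp_all _ M rfl (hcQ.subgroup M) hM hna with ⟨K, hK⟩ | h4
  swap
  · exact (hX.not_sfour hc hX1 (h4.map M.subtype M.subtype_injective)).elim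
  have hMtop := CITStruct.ti_top hcQ hK
  let e : M ≃* G ⧸ Cfsg.pCore 2 G := (MulEquiv.subgroupCongr hMtop).trans Subgroup.topEquiv
  haveI : Nontrivial (G ⧸ Cfsg.pCore 2 G) := M.subtype_injective.nontrivial
  haveI : IsSimpleGroup (G ⧸ Cfsg.pCore 2 G) :=
    IsSimpleGroup.isSimpleGroup_of_surjective e.toMonoidHom e.surjective
  rcases SzRecog.tiHyp_main (hK.map e) with ⟨F, i1, i2, n, hn, ⟨f⟩⟩ | hsz
  · haveI := charTwo_of_card hn
    refine concl_even h (five_le_of_psl fun hs => hnsQ ?_) f
    haveI := hs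
    exact Group.isSolvable_of_surjective (f := f.symm.toMonoidHom) f.symm.surjective
  · exact absurd (suzuki_quot h hc hX hsz) hX1

end Cfsg.Agent.ThreeOrd
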