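import Cfsg.Agent.Lib.ThreeOrd.Shapes
import Cfsg.Agent.Lib.CNSimple.CNStructure

/-!
# No element of order `r` induces an automorphism of the Sylow subgroup

Then `C(S)` is a good subgroup of even order, hence a `2`-group.
-/

set_option autoImplicit false
set_option linter.style.haveILetI false
set_option linter.unusedSectionVars false

namespace Cfsg.Agent.ThreeOrd

open Cfsg.Agent.CNSimple (Ct mem_Ct)

universe u

variable {G : Type u} [Group G] [Finite G] {r : ℕ}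

namespace Big

variable {P : Sylow 2 G} (h : Big r P)
include h

/-- An element of exponent `2 * r` of the normaliser lies in the centraliser when its odd part does. -/
theorem mem_CP_of_pow {g : G} (hg : g ∈ NP P) (h2 : g ^ (2 * r) = 1)
    (hodd : g ^ (r + 1) ∈ CP P) : g ∈ CP P := by
  have hP : g ^ r ∈ (P : Subgroup G) := h.mem_of_sq (pow_mem hg r) (by rw [← pow_add, ← two_mul, h2])
  have e : g = (g ^ r)⁻¹ * g ^ (r + 1) := by rw [pow_succ]; group
  rw [e]
  exact mul_mem (inv_mem (h.le_CP hP)) hodd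

theorem odd_part_pow {g : G} (h2 : g ^ (2 * r) = 1) : (g ^ (r + 1)) ^ r = 1 := by
  obtain ⟨k, hk⟩ := h.spec.odd
  rw [← pow_mul, show (r + 1) * r = 2 * r * (k + 1) by rw [hk]; ring, pow_mul, h2, one_pow]

/-- An element of order `2 * r` gives a nontrivial core. -/
theorem W_ne_bot (hedge : ∃ g : G, orderOf g = 2 * r)
    (hC : ∀ a ∈ (P : Subgroup G), a ≠ 1 → Ct a ≤ CP P) : EightSylow.W P ≠ ⊥ := by
  intro hW
  haveI := Fact.mk h.spec.prime
  obtain ⟨g, hg⟩ := hedge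
  obtain ⟨a, ha, ha1⟩ := h.exists_ne
  have ht : orderOf (g ^ r) = 2 := by
    rw [orderOf_pow' g h.spec.prime.ne_zero, hg, Nat.gcd_eq_right (dvd_mul_left r 2),
      Nat.mul_div_cancel _ h.spec.prime.pos]
  obtain ⟨c, hc⟩ := isConj_iff.1 (Invol.se_isConj h.NP_se ht (h.order2 ha ha1))
  have hcom : c * g * c⁻¹ ∈ Ct a := by
    refine mem_Ct.2 ?_
    rw [← hc, ← _root_.conj_pow]
    exact ((Commute.refl (c * g * c⁻¹)).pow_right r).eq
  obtain ⟨p, hp, w, hw, e⟩ := h.CP_split (hC a ha ha1 hcom)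
  rw [hW, Subgroup.mem_bot] at hw
  rw [hw, mul_one] at e
  have h2 : orderOf (c * g * c⁻¹) ∣ 2 :=
    orderOf_dvd_of_pow_eq_one (by rw [pow_two, e]; exact h.sq hp)
  rw [Invol.order_conj, hg] at h2
  have h3 : r = 1 := by
    rcases Nat.le_of_dvd two_pos h2 |>.lt_or_eq with hlt | heq
    · have := h.spec.prime.two_le; omega
    · omega
  exact h.spec.prime.ne_one h3

/-- The first case is impossible. -/
theorem caseI (hedge : ∃ g : G, orderOf g = 2 * r)
    (hfree : ∀ n ∈ NP P, n ^ r = 1 → n ∈ CP P) : False := by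
  classical
  haveI := Fact.mk h.spec.prime
  haveI := h.simple
  have hCt : ∀ a ∈ (P : Subgroup G), a ≠ 1 → Ct a ≤ CP P := fun a ha ha1 g hg => by
    have h2 := h.spec.pow_comm_invol (h.order2 ha ha1) (mem_Ct.1 hg)
    have hgN := h.Ct_le_NP ha ha1 hg
    exact h.mem_CP_of_pow hgN h2 (hfree _ (pow_mem hgN _) (h.odd_part_pow h2))
  have hWne := h.W_ne_bot hedge hCt
  have hWr : ∀ w ∈ EightSylow.W P, w ≠ 1 → orderOf w = r := fun w hw hw1 =>
    orderOf_eq_prime (h.W_pow hw) hw1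
  have hCw : ∀ w ∈ EightSylow.W P, w ≠ 1 → Ct w ≤ CP P := by
    intro w hw hw1
    have hpow : ∀ g ∈ Ct w, g ^ (2 * r) = 1 := fun g hg =>
      h.spec.pow_two_r_of_comm_r (hWr w hw hw1) (mem_Ct.1 hg)
    have hle : Ct w ≤ NP P := h.solvable_NP_le (h.spec.solvable_of_pow _ hpow) fun p hp =>
      mem_Ct.2 (Subgroup.mem_centralizer_iff.1 (h.W_le_CP hw) p hp)
    intro g hg
    exact h.mem_CP_of_pow (hle hg) (hpow g hg) (hfree _ (pow_mem (hle hg) _) (h.odd_part_pow (hpow g hg)))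
  have hk : ∀ k ∈ CP P, k ≠ 1 → Ct k ≤ CP P := by
    intro k hk hk1 g hg
    obtain ⟨p, hp, w, hw, e⟩ := h.CP_split hk
    by_cases hp1 : p = 1
    · rw [hp1, one_mul] at e
      exact hCw k (e ▸ hw) hk1 hg
    · have hkr : k ^ r = p := by
        rw [e, Commute.mul_pow (Subgroup.mem_centralizer_iff.1 (h.W_le_CP hw) p hp), h.W_pow hw, mul_one]
        obtain ⟨j, hj⟩ := h.spec.odd
        rw [hj, pow_succ, pow_mul, pow_two, h.sq hp, one_pow, one_mul]
      refine hCt p hp hp1 (mem_Ct.2 ?_)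
      rw [← hkr]
      exact ((show Commute g k from mem_Ct.1 hg).pow_right r).eq
  have hnil : Group.IsNilpotent (CP P) := by
    haveI : Fact (Nat.Prime 2) := ⟨Nat.prime_two⟩
    haveI : Group.IsNilpotent (P : Subgroup G) := P.isPGroup'.isNilpotent
    haveI : Group.IsNilpotent (EightSylow.W P) := IsPGroup.isNilpotent (p := r)
      fun w => ⟨1, Subtype.ext (by simpa using h.W_pow w.2)⟩
    let i1 : (P : Subgroup G) →* CP P := Subgroup.inclusion h.le_CP
    let i2 : EightSylow.W P →* CP P := Subgroup.inclusion h.W_le_CP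
    refine Group.nilpotent_of_surjective (MonoidHom.noncommCoprod i1 i2 fun p w => Subtype.ext ?_) ?_
    · exact Subgroup.mem_centralizer_iff.1 (h.W_le_CP w.2) p p.2
    · rintro ⟨x, hx⟩
      obtain ⟨p, hp, w, hw, e⟩ := h.CP_split hx
      exact ⟨(⟨p, hp⟩, ⟨w, hw⟩), Subtype.ext e.symm⟩
  have hgood : CN.Good (CP P) := by
    refine ⟨hnil, ?_, fun t ht htd => ?_, hk⟩
    · obtain ⟨a, ha, ha1⟩ := h.exists_ne
      exact fun e => ha1 (Subgroup.mem_bot.1 (e ▸ h.le_CP ha))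
    intro
    obtain ⟨x, hx⟩ := exists_prime_orderOf_dvd_card' (G := CP P) t htd
    rw [← Subgroup.orderOf_coe] at hx
    obtain ⟨p, hp, w, hw, e⟩ := h.CP_split x.2
    have h2r : t ∣ 2 * r := by
      rw [← hx]
      refine orderOf_dvd_of_pow_eq_one ?_
      rw [e, Commute.mul_pow (Subgroup.mem_centralizer_iff.1 (h.W_le_CP hw) p hp), pow_mul,
        pow_two, h.sq hp, one_pow, one_mul, mul_comm, pow_mul, h.W_pow hw, one_pow]
    rcases ht.dvd_mul.1 h2r with e1 | e1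
    · obtain rfl := (Nat.prime_dvd_prime_iff_eq ht Nat.prime_two).1 e1
      exact ⟨P, h.le_CP⟩
    · obtain rfl := (Nat.prime_dvd_prime_iff_eq ht h.spec.prime).1 e1
      obtain ⟨R, hR⟩ := (show IsPGroup t (EightSylow.W P) from
        fun w => ⟨1, Subtype.ext (by simpa using h.W_pow w.2)⟩).exists_le_sylow
      obtain ⟨⟨w₀, hw₀⟩, hw₀1⟩ := Subgroup.ne_bot_iff_exists_ne_one.1 hWne
      have hw₀1' : w₀ ≠ 1 := fun e => hw₀1 (Subtype.ext e)
      haveI : Nontrivial (R : Subgroup G) :=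
        ⟨⟨⟨w₀, hR hw₀⟩, 1, fun e => hw₀1' (congrArg Subtype.val e)⟩⟩
      haveI := R.isPGroup'.center_nontrivial
      obtain ⟨⟨z, hz⟩, hz1⟩ := _root_.exists_ne (1 : Subgroup.center (R : Subgroup G))
      have hz1' : (z : G) ≠ 1 := fun e => hz1 (Subtype.ext (Subtype.ext e))
      have hzc : ∀ y ∈ (R : Subgroup G), y * z = z * y := fun y hy =>
        congrArg Subtype.val (Subgroup.mem_center_iff.1 hz ⟨y, hy⟩)
      have hzX : (z : G) ∈ CP P := hk w₀ (h.W_le_CP hw₀) hw₀1' (mem_Ct.2 (hzc w₀ (hR hw₀)).symm)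
      exact ⟨R, fun y hy => hk z hzX hz1' (mem_Ct.2 (hzc y hy))⟩
  have hti : CNSimple.TIHyp (CP P) := by
    obtain ⟨a, ha, ha1⟩ := h.exists_ne
    refine ⟨hgood, ?_, fun e => ?_⟩
    · exact (h.order2 ha ha1) ▸ Subgroup.orderOf_dvd_natCard _ (h.le_CP ha)
    · rcases (Subgroup.normalizer_eq_top_iff.1 e).eq_bot_or_eq_top with e1 | e1
      · exact ha1 (Subgroup.mem_bot.1 (e1 ▸ h.le_CP ha))
      · refine h.NP_se.1 (eq_top_iff.2 ?_)
        rw [← e1]
        exact Subgroup.centralizer_le_normalizer _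
  obtain ⟨⟨w, hw⟩, hw1⟩ := Subgroup.ne_bot_iff_exists_ne_one.1 hWne
  have hw1' : w ≠ 1 := fun e => hw1 (Subtype.ext e)
  obtain ⟨k, hk'⟩ := IsPGroup.iff_orderOf.1 hti.isPGroup ⟨w, h.W_le_CP hw⟩
  rw [Subgroup.orderOf_mk, hWr w hw hw1'] at hk'
  exact h.spec.ne_two ((Nat.prime_dvd_prime_iff_eq h.spec.prime Nat.prime_two).1
    (h.spec.prime.dvd_of_dvd_pow hk'.dvd))

end Big

end Cfsg.Agent.ThreeOrd
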