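import Mathlib.GroupTheory.Transfer
import Mathlib.GroupTheory.Sylow
import Mathlib.GroupTheory.Subgroup.Simple
import Mathlib.GroupTheory.Solvable

/-!
# Transfer to a Sylow subgroup of a simple group

A homomorphism from a Sylow subgroup to a commutative group which is invariant under fusion is
trivial. An element of the centre whose conjugates in the Sylow subgroup are isolated in a subgroup
`N` makes `N` control fusion.
-/

set_option autoImplicit false
set_option linter.style.haveILetI false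

namespace Cfsg.Agent.ThreeOrd

universe u v

variable {G : Type u} [Group G] [Finite G]

/-- A fusion invariant homomorphism to a commutative group is trivial in a simple group. -/
theorem focal_trivial [IsSimpleGroup G] (hns : ¬ Group.IsSolvable G) {p : ℕ} [hp : Fact p.Prime]
    (R : Sylow p G) {A : Type v} [CommGroup A] (φ : (R : Subgroup G) →* A)
    (hinv : ∀ (g u : G) (hu : u ∈ (R : Subgroup G)) (hv : g * u * g⁻¹ ∈ (R : Subgroup G)),
      φ ⟨g * u * g⁻¹, hv⟩ = φ ⟨u, hu⟩) (x : (R : Subgroup G)) : φ x = 1 := by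
  classical
  haveI : (R : Subgroup G).FiniteIndex := inferInstance
  have htriv : MonoidHom.transfer φ = 1 := by
    rcases (MonoidHom.transfer φ).normal_ker.eq_bot_or_eq_top with e | e
    · exfalso
      refine hns (Group.isSolvable_of_comm fun a b => (MonoidHom.ker_eq_bot_iff _).1 e ?_)
      rw [map_mul, map_mul, mul_comm]
    · exact MonoidHom.ext fun g => MonoidHom.mem_ker.1 (e ▸ Subgroup.mem_top g)
  letI := (R : Subgroup G).fintypeQuotientOfFiniteIndex
  have h1 := MonoidHom.transfer_eq_prod_quotient_orbitRel_zpowers_quot φ (x : G)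
  rw [htriv, MonoidHom.one_apply] at h1
  have hpow : φ x ^ (R : Subgroup G).index = 1 := by
    rw [h1, Subgroup.index_eq_sum_minimalPeriod (R : Subgroup G) (x : G), ← Finset.prod_pow_eq_pow_sum]
    refine Finset.prod_congr rfl fun q _ => ?_
    set k := Function.minimalPeriod ((x : G) • ·) q.out
    set c := q.out.out
    have hu : (x : G) ^ k ∈ (R : Subgroup G) := pow_mem x.2 k
    have hv : c⁻¹ * (x : G) ^ k * c⁻¹⁻¹ ∈ (R : Subgroup G) := by
      rw [inv_inv]
      exact QuotientGroup.out_conj_pow_minimalPeriod_mem (R : Subgroup G) (x : G) q.out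
    have e := hinv c⁻¹ _ hu hv
    rw [← map_pow]
    refine (Eq.trans (congrArg φ (Subtype.ext ?_)) e.symm).trans (congrArg φ (Subtype.ext ?_))
    · rw [SubmonoidClass.coe_pow]
    · simp only [inv_inv]; rfl
  obtain ⟨k, hk⟩ := IsPGroup.iff_orderOf.1 R.isPGroup' x
  refine orderOf_eq_one_iff.1 (Nat.eq_one_of_dvd_coprimes
    (((hp.out.coprime_iff_not_dvd).2 R.not_dvd_index).pow_left k) ?_ (orderOf_dvd_of_pow_eq_one hpow))
  rw [← hk]
  exact orderOf_map_dvd φ x

/-- Fusion is controlled by a subgroup in which the conjugates of a central element are isolated. -/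
theorem fusion_of_isolated {p : ℕ} [Fact p.Prime] (R : Sylow p G) {N : Subgroup G} {z : G}
    (hz : z ∈ (R : Subgroup G)) (hzc : ∀ x ∈ (R : Subgroup G), x * z = z * x)
    (hiso : ∀ g : G, g * z * g⁻¹ ∈ (R : Subgroup G) → g ∈ N) {g u : G} (hu : u ∈ (R : Subgroup G))
    (hv : g * u * g⁻¹ ∈ (R : Subgroup G)) : ∃ n ∈ N, n * u * n⁻¹ = g * u * g⁻¹ := by
  set v := g * u * g⁻¹ with hvdef
  set C := Subgroup.centralizer ({v} : Set G) with hC
  have hz1 : z ∈ C := Subgroup.mem_centralizer_singleton_iff.2 (hzc v hv).symm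
  have hz2 : g * z * g⁻¹ ∈ C := Subgroup.mem_centralizer_singleton_iff.2 (by
    rw [hvdef]
    calc g * z * g⁻¹ * (g * u * g⁻¹) = g * (z * u) * g⁻¹ := by group
      _ = g * (u * z) * g⁻¹ := by rw [hzc u hu]
      _ = g * u * g⁻¹ * (g * z * g⁻¹) := by group)
  have hsingle : ∀ (w : G) (hw : w ∈ C), (∃ h : G, h * w * h⁻¹ ∈ (R : Subgroup G)) →
      IsPGroup p (Subgroup.zpowers (⟨w, hw⟩ : C)) := by
    intro w hw ⟨h, hh⟩
    obtain ⟨k, hk⟩ := IsPGroup.iff_orderOf.1 R.isPGroup' ⟨_, hh⟩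
    refine IsPGroup.of_card (n := k) ?_
    rw [Nat.card_zpowers, Subgroup.orderOf_mk, ← hk, Subgroup.orderOf_mk]
    exact (orderOf_injective (MulAut.conj h).toMonoidHom (MulAut.conj h).injective w).symm
  obtain ⟨Q1, hQ1⟩ := (hsingle z hz1 ⟨1, by simpa using hz⟩).exists_le_sylow
  obtain ⟨Q2, hQ2⟩ := (hsingle _ hz2 ⟨g⁻¹, by simpa [mul_assoc] using hz⟩).exists_le_sylow
  obtain ⟨c, hc⟩ := MulAction.exists_smul_eq C Q2 Q1
  have hc2 : ((c : G) * g) * z * ((c : G) * g)⁻¹ ∈ (Q1 : Subgroup C).map C.subtype := by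
    refine ⟨c * ⟨_, hz2⟩ * c⁻¹, ?_, by simp [mul_assoc]⟩
    rw [← hc]
    exact Subgroup.smul_mem_pointwise_smul _ (MulAut.conj c) _ (hQ2 (Subgroup.mem_zpowers _))
  obtain ⟨R', hR'⟩ := (Q1.isPGroup'.map C.subtype).exists_le_sylow
  obtain ⟨k, hk⟩ := MulAction.exists_smul_eq G R' R
  have hmem : ∀ y ∈ (R' : Subgroup G), k * y * k⁻¹ ∈ (R : Subgroup G) := fun y hy => by
    rw [← hk]
    exact Subgroup.smul_mem_pointwise_smul _ (MulAut.conj k) _ hy
  have hkN : k ∈ N := hiso k (hmem z (hR' ⟨⟨z, hz1⟩, hQ1 (Subgroup.mem_zpowers _), rfl⟩))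
  have hkcg : k * ((c : G) * g) ∈ N := hiso _ (by
    have := hmem _ (hR' hc2)
    simpa [mul_assoc] using this)
  refine ⟨(c : G) * g, by simpa using mul_mem (inv_mem hkN) hkcg, ?_⟩
  have hcv : (c : G) * v = v * c := Subgroup.mem_centralizer_singleton_iff.1 c.2
  calc (c : G) * g * u * ((c : G) * g)⁻¹ = (c : G) * v * (c : G)⁻¹ := by rw [hvdef]; group
    _ = v := by rw [hcv, mul_inv_cancel_right]

/-- Invariance under an isolating subgroup suffices. -/
theorem isolated_trivial [IsSimpleGroup G] (hns : ¬ Group.IsSolvable G) {p : ℕ} [Fact p.Prime]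
    (R : Sylow p G) {N : Subgroup G} {z : G} (hz : z ∈ (R : Subgroup G))
    (hzc : ∀ x ∈ (R : Subgroup G), x * z = z * x)
    (hiso : ∀ g : G, g * z * g⁻¹ ∈ (R : Subgroup G) → g ∈ N)
    {A : Type v} [CommGroup A] (φ : (R : Subgroup G) →* A)
    (hinv : ∀ n ∈ N, ∀ (u : G) (hu : u ∈ (R : Subgroup G)) (hv : n * u * n⁻¹ ∈ (R : Subgroup G)),
      φ ⟨n * u * n⁻¹, hv⟩ = φ ⟨u, hu⟩) (x : (R : Subgroup G)) : φ x = 1 := by
  refine focal_trivial hns R φ (fun g u hu hv => ?_) x
  obtain ⟨n, hn, e⟩ := fusion_of_isolated R hz hzc hiso hu hv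
  have hv' : n * u * n⁻¹ ∈ (R : Subgroup G) := e ▸ hv
  exact (congrArg φ (Subtype.ext e.symm)).trans (hinv n hn u hu hv')

/-- The abelian case. -/
theorem abelian_trivial [IsSimpleGroup G] (hns : ¬ Group.IsSolvable G) {p : ℕ} [Fact p.Prime]
    (R : Sylow p G) (hR : ∀ a ∈ (R : Subgroup G), ∀ b ∈ (R : Subgroup G), a * b = b * a)
    {A : Type v} [CommGroup A] (φ : (R : Subgroup G) →* A)
    (hinv : ∀ n ∈ Subgroup.normalizer ((R : Subgroup G) : Set G), ∀ (u : G)
      (hu : u ∈ (R : Subgroup G)) (hv : n * u * n⁻¹ ∈ (R : Subgroup G)),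
      φ ⟨n * u * n⁻¹, hv⟩ = φ ⟨u, hu⟩) (x : (R : Subgroup G)) : φ x = 1 := by
  haveI : IsMulCommutative (R : Subgroup G) := ⟨⟨fun a b => Subtype.ext (hR a a.2 b b.2)⟩⟩
  refine focal_trivial hns R φ (fun g u hu hv => ?_) x
  obtain ⟨n, hn, e⟩ := R.conj_eq_normalizer_conj_of_mem u g⁻¹ hu (by rwa [inv_inv])
  rw [inv_inv] at e
  have e' : n⁻¹ * u * n⁻¹⁻¹ = g * u * g⁻¹ := by rw [inv_inv]; exact e.symm
  have hv' : n⁻¹ * u * n⁻¹⁻¹ ∈ (R : Subgroup G) := e' ▸ hv
  exact (congrArg φ (Subtype.ext e'.symm)).trans (hinv n⁻¹ (inv_mem hn) u hu hv')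

end Cfsg.Agent.ThreeOrd
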