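import Cfsg.Agent.Lib.ThreeOrd.CaseI
import Cfsg.Agent.Lib.ThreeOrd.Fusion
import Cfsg.Agent.Lib.Transfer.Fusion

/-!
# The automiser has order `r`

The core elements fix one coset each, so fusion in a Sylow `r`-subgroup is controlled by the
strongly embedded subgroup, and transfer gives a proper quotient.
-/

set_option autoImplicit false
set_option linter.style.haveILetI false
set_option linter.unusedSectionVars false

namespace Cfsg.Agent.ThreeOrd

open Cfsg.Agent.CNSimple (Ct mem_Ct)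

universe u

variable {G : Type u} [Group G] [Finite G] {r : ℕ}

namespace Big

variable {P : Sylow 2 G} (h : Big r P)
include h

theorem Ct_core_le {w : G} (hw : w ∈ EightSylow.W P) (hw1 : w ≠ 1) : Ct w ≤ NP P := by
  have hwo : orderOf w = r := by
    haveI := Fact.mk h.spec.prime
    exact orderOf_eq_prime (h.W_pow hw) hw1
  exact h.solvable_NP_le
    (h.spec.solvable_of_pow _ fun g hg => h.spec.pow_two_r_of_comm_r hwo (mem_Ct.1 hg))
    fun p hp => mem_Ct.2 (Subgroup.mem_centralizer_iff.1 (h.W_le_CP hw) p hp)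

theorem shapeTwo_Ct (hs : ShapeTwo r P) {a : G} (ha : a ∈ (P : Subgroup G)) (ha1 : a ≠ 1) :
    Ct a ≤ CP P := fun g hg => hs.free g (h.Ct_le_NP ha ha1 hg) a ha ha1 (mem_Ct.1 hg)

/-- A nontrivial core element lies in one conjugate of the normaliser only. -/
theorem core_isolated (hs : ShapeTwo r P) {z g : G} (hz : z ∈ EightSylow.W P) (hz1 : z ≠ 1)
    (hg : g⁻¹ * z * g ∈ NP P) : g ∈ NP P := by
  classical
  by_contra hgN
  obtain ⟨a, ha, ha1⟩ := h.exists_ne
  have hao := h.order2 ha ha1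
  have haN : a ∈ NP P := Subgroup.le_normalizer ha
  have hse := h.NP_se
  have hxy : ((1 : G) : G ⧸ NP P) ≠ (g : G ⧸ NP P) := fun e => hgN (by
    have := QuotientGroup.eq.1 e
    rwa [inv_one, one_mul] at this)
  have hfa : a • ((1 : G) : G ⧸ NP P) = ((1 : G) : G ⧸ NP P) := by
    rw [MulAction.Quotient.smul_mk, QuotientGroup.eq, smul_eq_mul]
    simpa using inv_mem haN
  have hfu : (g * a * g⁻¹) • (g : G ⧸ NP P) = (g : G ⧸ NP P) := by
    rw [MulAction.Quotient.smul_mk, QuotientGroup.eq, smul_eq_mul]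
    rw [show (g * a * g⁻¹ * g)⁻¹ * g = a⁻¹ by group]
    exact inv_mem haN
  obtain ⟨w, hwo, hwx, -⟩ := Invol.se_swap hse hao (by rw [Invol.order_conj, hao]) hfa hfu hxy
  have hwi : w⁻¹ = w := Invol.inv_self hwo
  have hww : w * w = 1 := Invol.mul_self hwo
  have hm : g⁻¹ * w ∈ NP P := by
    rw [MulAction.Quotient.smul_mk, QuotientGroup.eq, smul_eq_mul, mul_one] at hwx
    have := inv_mem hwx
    rwa [mul_inv_rev, inv_inv] at this
  have hwN : w ∉ NP P := fun e => hgN (by
    have := mul_mem e (inv_mem hm)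
    rwa [mul_inv_rev, inv_inv, hwi, ← mul_assoc, hww, one_mul] at this)
  have hzN : z ∈ NP P := Subgroup.centralizer_le_normalizer _ (h.W_le_CP hz)
  have hzw : w * z * w ∈ NP P := by
    have := mul_mem (mul_mem (inv_mem hm) hg) hm
    rwa [show (g⁻¹ * w)⁻¹ * (g⁻¹ * z * g) * (g⁻¹ * w) = w⁻¹ * z * w by group, hwi] at this
  have hodd : ∀ d ∈ NP P, w * d * w ∈ NP P → Odd (orderOf d) := by
    intro d hd hdw
    rw [← Nat.not_even_iff_odd, even_iff_two_dvd]
    intro h2
    have ht : orderOf (d ^ (orderOf d / 2)) = 2 := orderOf_pow_orderOf_div (orderOf_pos d).ne' h2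
    refine hwN (Invol.se_mem_of_conj hse ht (pow_mem hd _) ?_)
    rw [← _root_.conj_pow, hwi]
    exact pow_mem hdw _
  have hmeet : ∀ y ∈ EightSylow.W P, y ≠ 1 → w * y * w ∉ EightSylow.W P := by
    intro y hy hy1 hyw
    have hc : w * a * w ∈ Ct y := by
      refine mem_Ct.2 ?_
      have e := Subgroup.mem_centralizer_iff.1 (h.W_le_CP hyw) a ha
      calc w * a * w * y = w * a * w * y * (w * w) := by rw [hww, mul_one]
        _ = w * (a * (w * y * w)) * w := by group
        _ = w * (w * y * w * a) * w := by rw [e]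
        _ = (w * w) * y * w * a * w := by group
        _ = y * (w * a * w) := by rw [hww]; group
    refine hwN (Invol.se_mem_of_conj hse hao haN ?_)
    rw [hwi]
    exact h.Ct_core_le hy hy1 hc
  have hwconj : ∀ d e : G, w * d * w * (w * e * w) = w * (d * e) * w := fun d e => by
    calc w * d * w * (w * e * w) = w * d * (w * w) * e * w := by group
      _ = w * (d * e) * w := by rw [hww]; group
  have hwinv : ∀ d : G, (w * d * w)⁻¹ = w * d⁻¹ * w := fun d => by
    rw [mul_inv_rev, mul_inv_rev, hwi, mul_assoc]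
  -- the two point stabiliser is abelian
  have hcomm : ∀ d ∈ NP P, w * d * w ∈ NP P → ∀ e ∈ NP P, w * e * w ∈ NP P → d * e = e * d := by
    intro d hd hdw e he hew
    set c := d * e * d⁻¹ * e⁻¹ with hc
    have hcN : c ∈ NP P := mul_mem (mul_mem (mul_mem hd he) (inv_mem hd)) (inv_mem he)
    have hcw : w * c * w = (w * d * w) * (w * e * w) * (w * d * w)⁻¹ * (w * e * w)⁻¹ := by
      rw [hwinv, hwinv, hwconj, hwconj, hwconj, hc]
    have hcwN : w * c * w ∈ NP P := by
      rw [hcw]; exact mul_mem (mul_mem (mul_mem hdw hew) (inv_mem hdw)) (inv_mem hew)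
    have hcodd := hodd c hcN hcwN
    have hcW : c ∈ EightSylow.W P := h.mem_W (hs.comm d hd e he) (h.odd_CP (hs.comm d hd e he) hcodd)
    by_contra hne
    refine hmeet c hcW (fun e1 => hne ?_) ?_
    · rw [hc, mul_inv_eq_one, mul_inv_eq_iff_eq_mul] at e1
      exact e1
    · have hcwC : w * c * w ∈ CP P := hcw ▸ hs.comm _ hdw _ hew
      refine h.mem_W hcwC (h.odd_CP hcwC ?_)
      rw [show w * c * w = w * c * w⁻¹ by rw [hwi], Invol.order_conj]
      exact hcodd
  have hwwz : w * (w * z * w) * w = z := by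
    calc w * (w * z * w) * w = (w * w) * z * (w * w) := by group
      _ = z := by rw [hww, one_mul, mul_one]
  set u := z * (w * z * w) with hu
  have huN : u ∈ NP P := mul_mem hzN hzw
  have huw : w * u * w = u := by
    rw [hu, ← hwconj, hwwz]
    exact hcomm _ hzw (by rw [hwwz]; exact hzN) z hzN hzw
  have hu1 : u ≠ 1 := fun e => hmeet z hz hz1 (by
    rw [← inv_eq_of_mul_eq_one_right e]
    exact inv_mem hz)
  have hur : u ^ r = 1 := by
    refine h.spec.odd_comm_invol hwo ?_ (hodd u huN (huw.symm ▸ huN))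
    show u * w = w * u
    calc u * w = w * u * w * w := by rw [huw]
      _ = w * u := by rw [mul_assoc, hww, mul_one]
  obtain ⟨c, hc⟩ := isConj_iff.1 (Invol.se_isConj hse hwo hao)
  have hcu : c * u * c⁻¹ ∈ Ct a := by
    refine mem_Ct.2 ?_
    rw [← hc]
    have e : u * w = w * u := by
      calc u * w = w * u * w * w := by rw [huw]
        _ = w * u := by rw [mul_assoc, hww, mul_one]
    calc c * u * c⁻¹ * (c * w * c⁻¹) = c * (u * w) * c⁻¹ := by group
      _ = c * w * c⁻¹ * (c * u * c⁻¹) := by rw [e]; group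
  have hcuW : c * u * c⁻¹ ∈ EightSylow.W P :=
    h.mem_W (h.shapeTwo_Ct hs ha ha1 hcu) (by rw [_root_.conj_pow, hur, mul_one, mul_inv_cancel])
  have hcu1 : c * u * c⁻¹ ≠ 1 := fun e => hu1 (conj_eq_one_iff.1 e)
  have hcz : c * z * c⁻¹ ∈ NP P := h.Ct_core_le hcuW hcu1 (mem_Ct.2 (by
    have e := hcomm z hzN hzw u huN (huw.symm ▸ huN)
    calc c * z * c⁻¹ * (c * u * c⁻¹) = c * (z * u) * c⁻¹ := by group
      _ = c * u * c⁻¹ * (c * z * c⁻¹) := by rw [e]; group))
  -- the commutator with `w`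
  set k := z * (w * z⁻¹ * w) with hk
  have hkP : c * k * c⁻¹ ∈ (P : Subgroup G) := by
    have e : c * k * c⁻¹ = c * z * c⁻¹ * a * (c * z * c⁻¹)⁻¹ * a := by
      rw [← hc, hk]; group
    rw [e]
    exact mul_mem ((Subgroup.mem_normalizer_iff.1 hcz a).1 ha) ha
  have hkodd : Odd (orderOf k) := by
    refine hodd k (mul_mem hzN (by rw [← hwinv]; exact inv_mem hzw)) ?_
    rw [hk, ← hwconj, show w * (w * z⁻¹ * w) * w = (w * w) * z⁻¹ * (w * w) by group, hww,
      one_mul, mul_one]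
    exact mul_mem hzw (inv_mem hzN)
  have hk1 : k = 1 := by
    have h2 : orderOf (c * k * c⁻¹) ∣ 2 := orderOf_dvd_of_pow_eq_one (by rw [pow_two, h.sq hkP])
    rw [Invol.order_conj] at h2
    exact orderOf_eq_one_iff.1 (Nat.eq_one_of_dvd_coprimes (Nat.coprime_two_left.2 hkodd) h2 dvd_rfl)
  refine hmeet z hz hz1 ?_
  have e : w * z * w = z := by
    rw [hk, ← hwinv, mul_inv_eq_one] at hk1
    exact hk1.symm
  rw [e]
  exact hz

/-- The second case is impossible. -/
theorem caseII (hedge : ∃ g : G, orderOf g = 2 * r) (hs : ShapeTwo r P) : False := by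
  classical
  haveI := Fact.mk h.spec.prime
  haveI := h.simple
  set W := EightSylow.W P with hW
  have hWne : W ≠ ⊥ := h.W_ne_bot hedge fun a ha ha1 => h.shapeTwo_Ct hs ha ha1
  have hWle : W ≤ NP P := h.W_le_CP.trans (Subgroup.centralizer_le_normalizer _)
  have hWr : IsPGroup r W := fun w => ⟨1, Subtype.ext (by simpa using h.W_pow w.2)⟩
  obtain ⟨H₀, hH₀⟩ := (hWr.comap_of_injective (NP P).subtype (NP P).subtype_injective :
    IsPGroup r (W.comap (NP P).subtype)).exists_le_sylow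
  set H := (H₀ : Subgroup (NP P)).map (NP P).subtype with hH
  have hHN : H ≤ NP P := Subgroup.map_subtype_le _
  have hWH : W ≤ H := fun w hw => ⟨⟨w, hWle hw⟩, hH₀ hw, rfl⟩
  have hHp : IsPGroup r H := H₀.isPGroup'.map _
  have hHmax : ∀ Q : Subgroup G, IsPGroup r Q → H ≤ Q → Q ⊓ NP P ≤ H := by
    intro Q hQ hle y hy
    have e := H₀.is_maximal' (Q := Q.comap (NP P).subtype)
      (hQ.comap_of_injective _ (NP P).subtype_injective) fun x hx => hle ⟨x, hx, rfl⟩
    refine ⟨⟨y, hy.2⟩, ?_, rfl⟩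
    rw [← e]
    exact hy.1
  -- a central core element
  obtain ⟨z, hzW, hz1, hzc⟩ : ∃ z ∈ W, z ≠ 1 ∧ ∀ x ∈ H, x * z = z * x := by
    haveI : Group.IsNilpotent H := hHp.isNilpotent
    have hn : (W.subgroupOf H).Normal := ⟨fun n hn g =>
      (Subgroup.mem_normalizer_iff.1 (h.NP_le_NW (hHN g.2)) n).1 hn⟩
    haveI := hn
    have hne : W.subgroupOf H ≠ ⊥ := by
      obtain ⟨⟨w, hw⟩, hw1⟩ := Subgroup.ne_bot_iff_exists_ne_one.1 hWne
      refine fun e => hw1 (Subtype.ext ?_)
      have : (⟨w, hWH hw⟩ : H) ∈ W.subgroupOf H := hw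
      rw [e, Subgroup.mem_bot] at this
      exact congrArg (fun x : H => (x : G)) this
    obtain ⟨⟨z, hz, hzc⟩, hz1⟩ := Subgroup.ne_bot_iff_exists_ne_one.1
      (SolvStruct.inf_center_ne_bot (G := H) (N := W.subgroupOf H) hne)
    exact ⟨z, hz, fun e => hz1 (Subtype.ext (Subtype.ext e)), fun x hx =>
      congrArg Subtype.val (Subgroup.mem_center_iff.1 hzc ⟨x, hx⟩)⟩
  have hiso : ∀ g : G, g * z * g⁻¹ ∈ NP P → g ∈ NP P := fun g hg => by
    have := h.core_isolated hs hzW hz1 (g := g⁻¹) (by rwa [inv_inv])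
    simpa using inv_mem this
  -- a Sylow subgroup of the group
  obtain ⟨R, hR⟩ := hHp.exists_le_sylow
  have hRH : (R : Subgroup G) = H := by
    rcases eq_or_lt_of_le hR with e | hlt
    · exact e.symm
    exfalso
    have hlt' := Cfsg.Agent.Fusion.lt_inf_normalizer R.isPGroup'.isNilpotent hlt
    obtain ⟨g, ⟨hgR, hgN⟩, hgH⟩ := SetLike.exists_of_lt hlt'
    exact hgH (hHmax _ R.isPGroup' hR
      ⟨hgR, hiso g (hHN ((Subgroup.mem_normalizer_iff.1 hgN z).1 (hWH hzW)))⟩)
  letI : CommGroup (autL P) := { (inferInstance : Group (autL P)) with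
    mul_comm := fun l m => by
      obtain ⟨a, rfl⟩ := cls_surjective P l
      obtain ⟨b, rfl⟩ := cls_surjective P m
      have e := (cls_eq_one P (a * b * a⁻¹ * b⁻¹)).2 (hs.comm a a.2 b b.2)
      rw [map_mul, map_mul, map_mul, map_inv, map_inv, mul_inv_eq_one, mul_inv_eq_iff_eq_mul] at e
      exact e }
  have hRN : (R : Subgroup G) ≤ NP P := hRH.le.trans hHN
  let φ : (R : Subgroup G) →* autL P := (cls P).comp (Subgroup.inclusion hRN)
  have htriv := isolated_trivial h.nonsolv R (N := NP P) (z := z) (hR (hWH hzW))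
    (fun x hx => hzc x (hRH.le hx)) (fun g hg => hiso g (hRN hg)) φ (fun n hn u hu hv => by
      show cls P ⟨n * u * n⁻¹, _⟩ = cls P ⟨u, _⟩
      rw [show (⟨n * u * n⁻¹, hRN hv⟩ : NP P) = ⟨n, hn⟩ * ⟨u, hRN hu⟩ * ⟨n, hn⟩⁻¹ from rfl,
        map_mul, map_mul, map_inv, mul_comm (cls P ⟨n, hn⟩), mul_assoc, mul_inv_cancel, mul_one])
  -- an element of order `r` outside
  obtain ⟨y, p, hp, hp2, hyo, hy, hfree⟩ := h.exists_fpf
  obtain ⟨a, ha, ha1⟩ := h.exists_ne
  have hyC : y ∉ CP P := fun hyC => ha1 (hfree 1 one_pos hp.one_lt a ha (by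
    rw [pow_one]; exact Subgroup.mem_centralizer_iff.1 hyC a ha))
  have hyodd : Odd (orderOf y) := hyo ▸ hp.odd_of_ne_two hp2
  have hy2 := h.odd_CP (hs.pow y hy) (hyodd.of_dvd_nat (orderOf_pow_dvd r))
  rw [← pow_mul] at hy2
  have hyr : IsPGroup r (Subgroup.zpowers (⟨y, hy⟩ : NP P)) := by
    refine IsPGroup.of_card_dvd_pow (n := 2) ?_
    rw [Nat.card_zpowers, Subgroup.orderOf_mk, pow_two]
    exact orderOf_dvd_of_pow_eq_one hy2
  obtain ⟨Q, hQ⟩ := hyr.exists_le_sylow
  obtain ⟨m, hm⟩ := MulAction.exists_smul_eq (NP P) Q H₀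
  have hmy : MulAut.conj m (⟨y, hy⟩ : NP P) ∈ (H₀ : Subgroup (NP P)) := by
    rw [← hm]
    exact Subgroup.smul_mem_pointwise_smul _ _ _ (hQ (Subgroup.mem_zpowers _))
  have h1 : cls P (MulAut.conj m (⟨y, hy⟩ : NP P)) = 1 :=
    htriv ⟨_, hRH.ge ⟨_, hmy, rfl⟩⟩
  rw [MulAut.conj_apply, map_mul, map_mul, map_inv, mul_comm (cls P m), mul_assoc, mul_inv_cancel,
    mul_one] at h1
  exact hyC ((cls_eq_one P _).1 h1)

end Big

end Cfsg.Agent.ThreeOrd
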