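import Cfsg.Agent.Lib.ThreeOrd.Shapes
import Cfsg.Agent.Lib.Involutions.SwapCount
import Cfsg.Agent.Lib.Involutions.Isolated
import Cfsg.Agent.Lib.Solvable.SchurZassenhaus

/-!
# The automiser has a regular normal part

The centraliser of the element `x` of order `r` of the automiser has a core `O` of order `r` or `9`:
the cosets fixed by `x` correspond to complements in the two-point stabilisers, of which there are
at most two.
-/

set_option autoImplicit false
set_option linter.style.haveILetI false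
set_option linter.unusedSectionVars false

open scoped Pointwise

namespace Cfsg.Agent.ThreeOrd

open Cfsg.Agent.CNSimple (Ct mem_Ct)

universe u

variable {G : Type u} [Group G] [Finite G] {r : ℕ}

/-- The core of the centraliser of an element. -/
abbrev coreCt (x : G) : Subgroup G := EightSylow.core' 2 (Ct x)

namespace ShapeThree

variable {P : Sylow 2 G} {s : ℕ} {A B : Subgroup G} {x a : G}
  (hs : ShapeThree r P s A B x a) (h : Big r P)
include hs h

theorem xr : x ^ r = 1 := hs.x_order ▸ pow_orderOf_eq_one x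

theorem xodd : Odd (orderOf x) := hs.x_order.symm ▸ h.spec.odd

theorem a_order : orderOf a = 2 := h.order2 hs.a_mem hs.a_ne

theorem a_sq : a * a = 1 := h.sq hs.a_mem

theorem a_inv : a⁻¹ = a := h.inv_eq hs.a_mem

theorem a_NP : a ∈ NP P := Subgroup.le_normalizer hs.a_mem

theorem comm_xa : x * a = a * x := (hs.fix a hs.a_mem).2 (Or.inr rfl)

theorem eq_one_of_odd {u : G} (hu : u ∈ (P : Subgroup G)) (ho : Odd (orderOf u)) : u = 1 :=
  orderOf_eq_one_iff.1 (Nat.eq_one_of_dvd_coprimes (Nat.coprime_two_left.2 ho)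
    (orderOf_dvd_of_pow_eq_one (by rw [pow_two]; exact h.sq hu)) dvd_rfl)

theorem xpow_a (i : ℕ) : x ^ i * a = a * x ^ i :=
  ((show Commute x a from hs.comm_xa h).pow_left i).eq

theorem cent_NP {n : G} (hn : n ∈ NP P) (hc : n * x = x * n) :
    ∃ i : ℕ, n = x ^ i ∨ n = x ^ i * a := by
  have hb : n * a * n⁻¹ = 1 ∨ n * a * n⁻¹ = a := by
    refine (hs.fix _ ((Subgroup.mem_normalizer_iff.1 hn a).1 hs.a_mem)).1 ?_
    calc x * (n * a * n⁻¹) = n * (x * a) * n⁻¹ := by
          rw [← mul_assoc, ← mul_assoc, ← hc]; group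
      _ = n * (a * x) * n⁻¹ := by rw [hs.comm_xa h]
      _ = n * a * n⁻¹ * x := by
          calc n * (a * x) * n⁻¹ = n * a * (x * n⁻¹) := by group
            _ = n * a * (n⁻¹ * x) := by rw [(show Commute n x from hc).inv_left.eq]
            _ = _ := by group
  rcases hb with e | e
  · exact absurd (conj_eq_one_iff.1 e) hs.a_ne
  obtain ⟨i, hi⟩ := hs.stab n hn (mul_inv_eq_iff_eq_mul.1 e)
  refine ⟨i, ?_⟩
  have hpc : x * ((x ^ i)⁻¹ * n) = (x ^ i)⁻¹ * n * x := by
    rw [← mul_assoc, ((Commute.refl x).pow_right i).inv_right.eq, mul_assoc, ← hc, mul_assoc]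
  rcases (hs.fix _ hi).1 hpc with e1 | e1
  · exact Or.inl (inv_mul_eq_one.1 e1).symm
  · exact Or.inr (inv_mul_eq_iff_eq_mul.1 e1)

theorem pow_Ct {g : G} (hg : g ∈ Ct x) : g ^ (2 * r) = 1 :=
  h.spec.pow_two_r_of_comm_r hs.x_order (mem_Ct.1 hg)

theorem solvable_Ctx : Group.IsSolvable (Ct x) :=
  h.spec.solvable_of_pow _ fun _ hg => hs.pow_Ct h hg

theorem a_Ctx : a ∈ Ct x := mem_Ct.2 (hs.comm_xa h).symm

theorem O_le : coreCt x ≤ Ct x := EightSylow.core'_le _

theorem O_odd {u : G} (hu : u ∈ coreCt x) : Odd (orderOf u) := by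
  haveI : Fact (Nat.Prime 2) := ⟨Nat.prime_two⟩
  rw [← Nat.not_even_iff_odd, even_iff_two_dvd]
  exact fun e => EightSylow.not_dvd_core' (q := 2) (Ct x) (e.trans (Subgroup.orderOf_dvd_natCard _ hu))

theorem O_pow {u : G} (hu : u ∈ coreCt x) : u ^ r = 1 :=
  h.spec.pow_of_comm_r hs.x_order (mem_Ct.1 (hs.O_le h hu)) (hs.O_odd h hu)

theorem a_not_O : a ∉ coreCt x := fun e => by
  have := hs.O_odd h e
  rw [hs.a_order h] at this
  exact absurd this (by decide)

theorem x_O : x ∈ coreCt x := by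
  haveI : Fact (Nat.Prime 2) := ⟨Nat.prime_two⟩
  have hx : x ∈ Ct x := mem_Ct.2 rfl
  refine ⟨⟨x, hx⟩, ?_, rfl⟩
  set Z := Subgroup.zpowers (⟨x, hx⟩ : Ct x) with hZ
  have hn : Z.Normal := by
    refine ⟨fun n hn g => ?_⟩
    obtain ⟨i, rfl⟩ := Subgroup.mem_zpowers_iff.1 hn
    refine Subgroup.mem_zpowers_iff.2 ⟨i, ?_⟩
    have hc : Commute g (⟨x, hx⟩ : Ct x) := Subtype.ext (mem_Ct.1 g.2)
    rw [(hc.zpow_right i).eq, mul_inv_cancel_right]
  refine FittingCores.le_pPrimeCore hn ?_ (Subgroup.mem_zpowers _)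
  rw [hZ, Nat.card_zpowers, Subgroup.orderOf_mk, hs.x_order]
  exact (Nat.coprime_primes h.spec.prime Nat.prime_two).2 h.spec.ne_two

theorem xpow_O (i : ℕ) : x ^ i ∈ coreCt x := pow_mem (hs.x_O h) i

theorem cent_x {g : G} (hg : g ∈ Ct x) : g ∈ coreCt x ∨ g * a ∈ coreCt x := by
  classical
  haveI : Fact (Nat.Prime 2) := ⟨Nat.prime_two⟩
  haveI := hs.solvable_Ctx h
  have haX := hs.a_Ctx h
  set a' : Ct x := ⟨a, haX⟩ with ha'
  let T : Sylow 2 (Ct x) :=
    { toSubgroup := Subgroup.zpowers a'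
      isPGroup' := IsPGroup.of_card (n := 1) (by
        rw [Nat.card_zpowers, Subgroup.orderOf_mk, hs.a_order h, pow_one])
      is_maximal' := fun {Q} hQ hle => by
        refine le_antisymm (fun v hv => ?_) hle
        have haQ : a' ∈ Q := hle (Subgroup.mem_zpowers _)
        have hva : (v : G) * a = a * v := h.spec.comm_of_pgroup (hQ.map (Ct x).subtype)
          ⟨v, hv, rfl⟩ ⟨a', haQ, rfl⟩
        have hv2 : (v : G) * v = 1 := h.spec.sq_of_pgroup (hQ.map (Ct x).subtype) ⟨v, hv, rfl⟩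
        obtain ⟨i, hi⟩ := hs.cent_NP h (h.Ct_le_NP hs.a_mem hs.a_ne (mem_Ct.2 hva)) (mem_Ct.1 v.2)
        have key : x ^ i * x ^ i = 1 → x ^ i = 1 := fun e =>
          orderOf_eq_one_iff.1 (Nat.eq_one_of_dvd_coprimes
            (Nat.coprime_two_left.2 ((hs.xodd h).of_dvd_nat (orderOf_pow_dvd i)))
            (orderOf_dvd_of_pow_eq_one (by rw [pow_two, e])) dvd_rfl)
        rcases hi with e | e
        · have h1 : v = 1 := Subtype.ext (e.trans (key (e ▸ hv2)))
          exact h1 ▸ one_mem _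
        · have h1 : v = a' := by
            refine Subtype.ext (e.trans ?_)
            rw [key ?_, one_mul]
            rw [e] at hv2
            calc x ^ i * x ^ i = x ^ i * x ^ i * (a * a) := by rw [hs.a_sq h, mul_one]
              _ = x ^ i * (x ^ i * a) * a := by group
              _ = x ^ i * (a * x ^ i) * a := by rw [hs.xpow_a h]
              _ = x ^ i * a * (x ^ i * a) := by group
              _ = 1 := hv2
          exact h1 ▸ Subgroup.mem_zpowers a' }
  have hT : IsMulCommutative (T : Subgroup (Ct x)) :=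
    inferInstanceAs (IsMulCommutative (Subgroup.zpowers a'))
  obtain ⟨c, hc, n, hn, e⟩ := frattini_decomp T hT (⟨g, hg⟩ : Ct x)
  have hcO : (c : G) ∈ coreCt x := ⟨c, hc, rfl⟩
  have hna : (n : G) * a = a * n := by
    have h1 := (Subgroup.mem_normalizer_iff.1 hn a').1 (Subgroup.mem_zpowers a')
    have h2 : (⟨(n : G) * a * (n : G)⁻¹, mul_mem (mul_mem n.2 haX) (inv_mem n.2)⟩ : Ct x) ∈
        Subgroup.zpowers a' := h1
    obtain ⟨j, hj⟩ := (IsOfFinOrder.mem_powers_iff_mem_zpowers (isOfFinOrder_of_finite a')).2 h2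
    have hj' : a ^ j = n * a * (n : G)⁻¹ := congrArg Subtype.val hj
    refine mul_inv_eq_iff_eq_mul.1 ?_
    rw [← hj']
    rcases Nat.even_or_odd j with ⟨k, hk⟩ | ⟨k, hk⟩
    · exfalso
      rw [hk, ← two_mul, pow_mul, pow_two, hs.a_sq h, one_pow] at hj'
      exact hs.a_ne (conj_eq_one_iff.1 hj'.symm)
    · rw [hk, pow_succ, pow_mul, pow_two, hs.a_sq h, one_pow, one_mul]
  obtain ⟨i, hi⟩ := hs.cent_NP h (h.Ct_le_NP hs.a_mem hs.a_ne (mem_Ct.2 hna)) (mem_Ct.1 n.2)
  have e' : g = (c : G) * n := congrArg Subtype.val e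
  rcases hi with hi | hi
  · exact Or.inl (e' ▸ hi ▸ mul_mem hcO (hs.xpow_O h i))
  · refine Or.inr ?_
    rw [e', hi, mul_assoc, mul_assoc, hs.a_sq h, mul_one]
    exact mul_mem hcO (hs.xpow_O h i)

theorem invol_a {t : G} (ht : t ∈ Ct x) (ho : orderOf t = 2) : t * a ∈ coreCt x := by
  refine (hs.cent_x h ht).resolve_left fun e => ?_
  have := hs.O_odd h e
  rw [ho] at this
  exact absurd this (by decide)

theorem O_NP {u : G} (hu : u ∈ coreCt x) (hun : u ∈ NP P) : u ∈ Subgroup.zpowers x := by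
  obtain ⟨i, hi⟩ := hs.cent_NP h hun (mem_Ct.1 (hs.O_le h hu))
  rcases hi with e | e
  · exact e ▸ Subgroup.npow_mem_zpowers x i
  · exfalso
    refine hs.a_not_O h ?_
    have := mul_mem (inv_mem (hs.xpow_O h i)) hu
    rwa [e, inv_mul_cancel_left] at this

theorem O_a {u : G} (hu : u ∈ coreCt x) (hc : u * a = a * u) : u ∈ Subgroup.zpowers x :=
  hs.O_NP h hu (h.Ct_le_NP hs.a_mem hs.a_ne (mem_Ct.2 hc))

/-- An element normalising `⟨x⟩` centralises it. -/
theorem norm_x {g : G} {i : ℕ} (hg : g * x * g⁻¹ = x ^ i) : g ∈ Ct x := by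
  haveI := Fact.mk h.spec.prime
  obtain ⟨m, hm⟩ : ∃ m, (x ^ i) ^ m = x := by
    refine exists_pow_eq_self_of_coprime ?_
    rw [hs.x_order]
    refine (h.spec.prime.coprime_iff_not_dvd.2 fun hd => ?_).symm
    obtain ⟨k, rfl⟩ := hd
    rw [pow_mul, hs.xr h, one_pow, conj_eq_one_iff] at hg
    have := hs.x_order
    rw [hg, orderOf_one] at this
    exact h.spec.prime.one_lt.ne this
  set t := g * a * g⁻¹ with ht
  have hto : orderOf t = 2 := by rw [ht, Invol.order_conj, hs.a_order h]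
  have htx : t ∈ Ct x := by
    refine mem_Ct.2 ?_
    have h1 : Commute t (x ^ i) := by
      show t * x ^ i = x ^ i * t
      rw [← hg, ht]
      calc g * a * g⁻¹ * (g * x * g⁻¹) = g * (a * x) * g⁻¹ := by group
        _ = g * (x * a) * g⁻¹ := by rw [hs.comm_xa h]
        _ = _ := by group
    exact hm ▸ (h1.pow_right m).eq
  set u := t * a with hu
  have huO : u ∈ coreCt x := hs.invol_a h htx hto
  obtain ⟨k, hk⟩ := h.spec.odd
  set e := u ^ (k + 1) with he
  have heO : e ∈ coreCt x := pow_mem huO _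
  have hee : e * e = u := by
    rw [he, ← pow_add, show k + 1 + (k + 1) = r + 1 by omega, pow_succ, hs.O_pow h huO, one_mul]
  have hinv : a * e * a⁻¹ = e⁻¹ := by
    have h1 : a * u * a⁻¹ = u⁻¹ := by
      rw [hu, mul_inv_rev, hs.a_inv h, Invol.inv_self hto]
      calc a * (t * a) * a = a * t * (a * a) := by group
        _ = a * t := by rw [hs.a_sq h, mul_one]
    rw [he, ← _root_.conj_pow, h1, inv_pow]
  have hea : e * a * e⁻¹ = t := by
    rw [Invol.inverted_conj (hs.a_order h) hinv, pow_two, hee, hu, mul_assoc, hs.a_sq h, mul_one]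
  have hga : e⁻¹ * g ∈ Ct a := by
    refine mem_Ct.2 ?_
    calc e⁻¹ * g * a = e⁻¹ * t * g := by rw [ht]; group
      _ = e⁻¹ * (e * a * e⁻¹) * g := by rw [hea]
      _ = a * (e⁻¹ * g) := by group
  have hgN := h.Ct_le_NP hs.a_mem hs.a_ne hga
  have hex : e * x = x * e := mem_Ct.1 (hs.O_le h heO)
  have hconj : e⁻¹ * g * x * (e⁻¹ * g)⁻¹ = x ^ i := by
    calc e⁻¹ * g * x * (e⁻¹ * g)⁻¹ = e⁻¹ * (g * x * g⁻¹) * e := by group
      _ = e⁻¹ * (e * x ^ i) := by
        rw [hg, mul_assoc, ((show Commute e x from hex).pow_right i).eq]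
      _ = x ^ i := inv_mul_cancel_left _ _
  obtain ⟨j, hj⟩ := hs.stab _ hgN (mem_Ct.1 hga)
  set p := (x ^ j)⁻¹ * (e⁻¹ * g) with hp
  have hpx : p * x * p⁻¹ = x ^ i := by
    rw [hp, show (x ^ j)⁻¹ * (e⁻¹ * g) * x * ((x ^ j)⁻¹ * (e⁻¹ * g))⁻¹ =
      (x ^ j)⁻¹ * (e⁻¹ * g * x * (e⁻¹ * g)⁻¹) * x ^ j by group, hconj, mul_assoc,
      ← pow_mul_comm, inv_mul_cancel_left]
  have hcom : p * x * p⁻¹ * x⁻¹ = 1 := by
    refine hs.eq_one_of_odd h ?_ ?_
    · rw [show p * x * p⁻¹ * x⁻¹ = p * (x * p⁻¹ * x⁻¹) by group]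
      exact mul_mem hj ((Subgroup.mem_normalizer_iff.1 hs.x_mem _).1 (inv_mem hj))
    · rw [hpx, ← zpow_natCast, ← zpow_neg_one, ← zpow_add]
      exact (hs.xodd h).of_dvd_nat (orderOf_dvd_of_mem_zpowers (Subgroup.zpow_mem_zpowers x _))
  rw [mul_inv_eq_one, hpx] at hcom
  rw [hcom] at hg
  exact mem_Ct.2 (mul_inv_eq_iff_eq_mul.1 hg)

/-- The elements of order `r` of the normaliser are conjugate to powers of `x`. -/
theorem conj_x {u : G} (hu : u ∈ NP P) (ho : orderOf u = r) :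
    ∃ n ∈ NP P, ∃ i : ℕ, u = n * x ^ i * n⁻¹ := by
  classical
  haveI := Fact.mk h.spec.prime
  have hBr : ¬ r ∣ Nat.card B := fun hd => by
    obtain ⟨v, hv⟩ := exists_prime_orderOf_dvd_card' (G := B) r hd
    rw [← Subgroup.orderOf_coe] at hv
    exact ((hs.mem_B _).1 v.2).2 hv.symm.dvd
  have hsyl : ∀ (v : G) (hv : v ∈ NP P), orderOf v = r →
      ∃ Q : Sylow r (NP P), (Q : Subgroup (NP P)) = Subgroup.zpowers ⟨v, hv⟩ := by
    intro v hv hvo
    have hcard : Nat.card (Subgroup.zpowers (⟨v, hv⟩ : NP P)) = r := by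
      rw [Nat.card_zpowers, Subgroup.orderOf_mk, hvo]
    refine ⟨Sylow.ofCard (Subgroup.zpowers (⟨v, hv⟩ : NP P)) ?_, rfl⟩
    rw [hcard, hs.card_N, Nat.factorization_mul Nat.card_pos.ne' h.spec.prime.ne_zero,
      Finsupp.add_apply, h.spec.prime.factorization_self, Nat.factorization_eq_zero_of_not_dvd hBr,
      zero_add, pow_one]
  obtain ⟨Q₁, hQ₁⟩ := hsyl x hs.x_mem hs.x_order
  obtain ⟨Q₂, hQ₂⟩ := hsyl u hu ho
  obtain ⟨n, hn⟩ := MulAction.exists_smul_eq (NP P) Q₁ Q₂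
  have hmem : (⟨u, hu⟩ : NP P) ∈ MulAut.conj n • (Q₁ : Subgroup (NP P)) := by
    have : (⟨u, hu⟩ : NP P) ∈ (Q₂ : Subgroup (NP P)) := hQ₂ ▸ Subgroup.mem_zpowers _
    rwa [← hn] at this
  rw [SolvBasic.mem_conjSmul, hQ₁] at hmem
  obtain ⟨i, hi⟩ := (IsOfFinOrder.mem_powers_iff_mem_zpowers (isOfFinOrder_of_finite _)).2 hmem
  refine ⟨n, n.2, i, ?_⟩
  have hi' : x ^ i = (n : G)⁻¹ * u * n := congrArg Subtype.val hi
  rw [hi']; group

theorem A_le : A ≤ NP P := fun _ hn => ((hs.mem_A _).1 hn).1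

theorem P_le_A : (P : Subgroup G) ≤ A := fun p hp =>
  (hs.mem_A p).2 ⟨Subgroup.le_normalizer hp, pow_mem hp s⟩

theorem A_conj {n e : G} (hn : n ∈ NP P) (he : e ∈ A) : n * e * n⁻¹ ∈ A := by
  obtain ⟨he1, he2⟩ := (hs.mem_A e).1 he
  refine (hs.mem_A _).2 ⟨mul_mem (mul_mem hn he1) (inv_mem hn), ?_⟩
  rw [_root_.conj_pow]
  exact (Subgroup.mem_normalizer_iff.1 hn _).1 he2

/-- A complement of `P` in `A` determines the other ones normalised by `x` up to `a`. -/
theorem cand_pair {Q Q' : Subgroup G} (hQc : Nat.card Q = s) (hQA : Q ≤ A)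
    (hQx : x ∈ Subgroup.normalizer (Q : Set G)) (hQc' : Nat.card Q' = s) (hQA' : Q' ≤ A)
    (hQx' : x ∈ Subgroup.normalizer (Q' : Set G)) : Q' = Q ∨ Q' = MulAut.conj a • Q := by
  classical
  haveI := Fact.mk hs.s_prime
  have hQord : ∀ e ∈ Q, e ≠ 1 → orderOf e = s := fun e he he1 =>
    orderOf_eq_prime (orderOf_dvd_iff_pow_eq_one.1 (hQc ▸ Subgroup.orderOf_dvd_natCard Q he)) he1
  have hQn : Q ≤ Subgroup.normalizer ((P : Subgroup G) : Set G) := hQA.trans (hs.A_le h)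
  have hcop : (Nat.card Q).Coprime (Nat.card (P : Subgroup G)) := by
    obtain ⟨n, hn⟩ := IsPGroup.iff_card.1 P.isPGroup'
    rw [hQc, hn]
    exact ((Nat.coprime_primes hs.s_prime Nat.prime_two).2 hs.s_two).pow_right n
  have hinf : (P : Subgroup G) ⊓ Q = ⊥ := by
    rw [inf_comm]; exact disjoint_iff.1 (Subgroup.disjoint_of_coprime_natCard hcop)
  have hsup : (P : Subgroup G) ⊔ Q = A := by
    refine Subgroup.eq_of_le_of_card_ge (sup_le (hs.P_le_A h) hQA) (le_of_eq ?_)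
    rw [SolvBasic.card_sup_of_inf_eq_bot hQn hinf, hQc, hs.card_A]
  obtain ⟨k, hk, hkQ⟩ := SchurZ.conj_in hQn hcop
    (Or.inr (Group.isSolvable_of_comm fun u v => Subtype.ext (h.comm u.2 v.2)))
    (hsup ▸ hQA') (hQc'.trans hQc.symm)
  set m := k⁻¹ * (x * k * x⁻¹) with hm
  have hmP : m ∈ (P : Subgroup G) :=
    mul_mem (inv_mem hk) ((Subgroup.mem_normalizer_iff.1 hs.x_mem k).1 hk)
  have hmQ : ∀ e ∈ Q, m * e * m⁻¹ ∈ Q := by
    intro e he
    have h1 : k * (x⁻¹ * e * x) * k⁻¹ ∈ Q' := by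
      rw [← hkQ, SolvBasic.mem_conjSmul]
      have := (Subgroup.mem_normalizer_iff.1 (inv_mem hQx) e).1 he
      rw [inv_inv] at this
      simpa [mul_assoc] using this
    have h2 := (Subgroup.mem_normalizer_iff.1 hQx' _).1 h1
    rw [← hkQ, SolvBasic.mem_conjSmul] at h2
    rwa [show k⁻¹ * (x * (k * (x⁻¹ * e * x) * k⁻¹) * x⁻¹) * k = m * e * m⁻¹ by rw [hm]; group] at h2
  have hm1 : m = 1 := by
    by_contra hm1
    obtain ⟨e, he⟩ := exists_prime_orderOf_dvd_card' (G := Q) s hQc.symm.dvd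
    rw [← Subgroup.orderOf_coe] at he
    have h1 : m * e * m⁻¹ * (e : G)⁻¹ ∈ (P : Subgroup G) ⊓ Q := by
      refine ⟨?_, Q.mul_mem (hmQ e e.2) (Q.inv_mem e.2)⟩
      rw [show m * e * m⁻¹ * (e : G)⁻¹ = m * ((e : G) * m⁻¹ * (e : G)⁻¹) by group]
      exact mul_mem hmP ((Subgroup.mem_normalizer_iff.1 (hQn e.2) _).1 (inv_mem hmP))
    rw [hinf, Subgroup.mem_bot, mul_inv_eq_one, mul_inv_eq_iff_eq_mul] at h1
    have ho := h.spec.order_of_comm_invol (h.order2 hmP hm1)
      (show Commute (e : G) m from h1.symm) (he ▸ hs.s_prime.odd_of_ne_two hs.s_two)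
      (fun e1 => hs.s_prime.one_lt.ne (by rw [← he, e1, orderOf_one]))
    exact hs.s_ne (he ▸ ho)
  have hkx : x * k = k * x := by
    rw [hm, inv_mul_eq_one] at hm1
    exact mul_inv_eq_iff_eq_mul.1 hm1.symm
  rcases (hs.fix k hk).1 hkx with e | e
  · left; rw [← hkQ, e, map_one, one_smul]
  · right; rw [← hkQ, e]

/-- The two-point data of a swapping involution centralising `x`. -/
theorem complement {w : G} (hwo : orderOf w = 2) (hwN : w ∉ NP P) (hwx : w ∈ Ct x) :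
    let Q := A ⊓ (NP P).comap (MulAut.conj w).toMonoidHom
    Nat.card Q = s ∧ x ∈ Subgroup.normalizer (Q : Set G) ∧ w ∈ Subgroup.normalizer (Q : Set G) := by
  classical
  intro Q
  haveI := Fact.mk hs.s_prime
  haveI := Fact.mk h.spec.prime
  have hwi : w⁻¹ = w := Invol.inv_self hwo
  have hww : w * w = 1 := Invol.mul_self hwo
  have hmem : ∀ q, q ∈ Q ↔ q ∈ A ∧ w * q * w ∈ NP P := fun q => by
    simp only [Q, Subgroup.mem_inf, Subgroup.mem_comap, MulEquiv.coe_toMonoidHom, MulAut.conj_apply, hwi]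
  have hodd : ∀ d ∈ NP P, w * d * w ∈ NP P → Odd (orderOf d) := by
    intro d hd hdw
    rw [← Nat.not_even_iff_odd, even_iff_two_dvd]
    intro h2
    have ht : orderOf (d ^ (orderOf d / 2)) = 2 := orderOf_pow_orderOf_div (orderOf_pos d).ne' h2
    refine hwN (Invol.se_mem_of_conj h.NP_se ht (pow_mem hd _) ?_)
    rw [← _root_.conj_pow, hwi]
    exact pow_mem hdw _
  have hwconj : ∀ d e : G, w * d * w * (w * e * w) = w * (d * e) * w := fun d e => by
    calc w * d * w * (w * e * w) = w * d * (w * w) * e * w := by group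
      _ = w * (d * e) * w := by rw [hww]; group
  have hwpow : ∀ (q : G) (n : ℕ), (w * q * w) ^ n = w * q ^ n * w := fun q n => by
    have := _root_.conj_pow (a := w) (b := q) (i := n)
    rwa [hwi] at this
  have hwtwo : ∀ q, w * (w * q * w) * w = q := fun q => by
    calc w * (w * q * w) * w = (w * w) * q * (w * w) := by group
      _ = q := by rw [hww, one_mul, mul_one]
  have hDP : ∀ d ∈ (P : Subgroup G), w * d * w ∈ NP P → d = 1 := fun d hd hdw =>
    hs.eq_one_of_odd h hd (hodd d (Subgroup.le_normalizer hd) hdw)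
  have hQs : ∀ q ∈ Q, q ^ s = 1 := by
    intro q hq
    obtain ⟨hqA, hqw⟩ := (hmem q).1 hq
    obtain ⟨hqN, hqs⟩ := (hs.mem_A q).1 hqA
    refine hDP _ hqs ?_
    rw [← hwpow]
    exact pow_mem hqw s
  have hQle : Nat.card Q ≤ s := by
    let f : Q → A ⧸ (P : Subgroup G).subgroupOf A := fun q =>
      ((⟨q, ((hmem q).1 q.2).1⟩ : A) : A ⧸ (P : Subgroup G).subgroupOf A)
    have hf : Function.Injective f := fun q q' e => by
      have e' : (q : G)⁻¹ * q' ∈ (P : Subgroup G) := by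
        have e'' := QuotientGroup.eq.1 e
        exact e''
      refine Subtype.ext (inv_mul_eq_one.1 (hDP _ e' ?_))
      have := ((hmem _).1 (Q.mul_mem (Q.inv_mem q.2) q'.2)).2
      exact this
    refine (Nat.card_le_card_of_injective f hf).trans (le_of_eq ?_)
    have h1 := Subgroup.card_mul_index ((P : Subgroup G).subgroupOf A)
    rw [Nat.card_congr (Subgroup.subgroupOfEquivOfLe (hs.P_le_A h)).toEquiv, hs.card_A] at h1
    exact Nat.eq_of_mul_eq_mul_left Nat.card_pos h1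
  -- the swapping involutions give all cosets of `P` in `B`
  set x₀ : G ⧸ NP P := ((1 : G) : G ⧸ NP P) with hx₀
  set b : G ⧸ NP P := w • x₀ with hb
  have hfix₀ : ∀ n : G, n • x₀ = x₀ ↔ n ∈ NP P := fun n => by
    rw [hx₀, MulAction.Quotient.smul_mk, QuotientGroup.eq, smul_eq_mul, mul_one, mul_one,
      inv_mem_iff]
  have hxy : x₀ ≠ b := fun e => hwN ((hfix₀ w).1 e.symm)
  have hPB : (P : Subgroup G) ≤ B := fun p hp => (hs.mem_B p).2 ⟨Subgroup.le_normalizer hp, fun hd => by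
    have h2 : orderOf p ∣ 2 := orderOf_dvd_of_pow_eq_one (by rw [pow_two]; exact h.sq hp)
    exact h.spec.ne_two ((Nat.prime_dvd_prime_iff_eq h.spec.prime Nat.prime_two).1 (hd.trans h2))⟩
  have hswap : ∀ w' : Invol.SwapInv x₀ b, w * w'.1 ∈ B ∧ w * (w * w'.1) * w ∈ NP P := by
    intro w'
    obtain ⟨w', hw'o, hw'b⟩ := w'
    have h1 : w * w' ∈ NP P := (hfix₀ _).1 (by
      rw [mul_smul, hw'b, hb, ← mul_smul, hww, one_smul])
    have hinv : w * (w * w') * w = (w * w')⁻¹ := by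
      rw [mul_inv_rev, hwi, Invol.inv_self hw'o, ← mul_assoc, hww, one_mul]
    refine ⟨(hs.mem_B _).2 ⟨h1, fun hd => ?_⟩, hinv ▸ inv_mem h1⟩
    set u := (w * w') ^ (orderOf (w * w') / r) with hu
    have huo : orderOf u = r := orderOf_pow_orderOf_div (orderOf_pos _).ne' hd
    obtain ⟨n, hn, i, hi⟩ := hs.conj_x h (show u ∈ NP P from pow_mem h1 _) huo
    have hwu : w * u * w = u⁻¹ := by rw [hu, ← hwpow, hinv, inv_pow]
    set g := n⁻¹ * w * n with hg
    have hgi : g * x ^ i * g⁻¹ = (x ^ i)⁻¹ := by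
      rw [hg, show n⁻¹ * w * n * x ^ i * (n⁻¹ * w * n)⁻¹ = n⁻¹ * (w * (n * x ^ i * n⁻¹) * w⁻¹) * n by group,
        ← hi, hwi, hwu, hi]
      group
    have hir : ¬ r ∣ i := by
      rintro ⟨j, rfl⟩
      rw [pow_mul, hs.xr h, one_pow, mul_one, mul_inv_cancel] at hi
      rw [hi, orderOf_one] at huo
      exact h.spec.prime.one_lt.ne huo
    obtain ⟨m, hm⟩ := exists_pow_eq_self_of_coprime (x := x) (n := i) (by
      rw [hs.x_order]; exact (h.spec.prime.coprime_iff_not_dvd.2 hir).symm)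
    have hgx : g * x * g⁻¹ = x⁻¹ := by
      conv_lhs => rw [← hm, ← _root_.conj_pow, hgi, inv_pow, hm]
    have hgc : g ∈ Ct x := hs.norm_x h (i := r - 1) (by
      rw [hgx, eq_comm, eq_inv_iff_mul_eq_one, ← pow_succ,
        Nat.sub_add_cancel h.spec.prime.one_lt.le, hs.xr h])
    rw [mem_Ct.1 hgc, mul_inv_cancel_right] at hgx
    have h2 : orderOf x ∣ 2 := orderOf_dvd_of_pow_eq_one (by
      rw [pow_two]; exact eq_inv_iff_mul_eq_one.1 hgx)
    rw [hs.x_order] at h2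
    exact h.spec.ne_two ((Nat.prime_dvd_prime_iff_eq h.spec.prime Nat.prime_two).1 h2)
  let F : Invol.SwapInv x₀ b → B ⧸ (P : Subgroup G).subgroupOf B := fun w' =>
    ((⟨w * w'.1, (hswap w').1⟩ : B) : B ⧸ (P : Subgroup G).subgroupOf B)
  have hFi : Function.Injective F := by
    intro w₁ w₂ e
    have e' : (w * w₁.1)⁻¹ * (w * w₂.1) ∈ (P : Subgroup G) := by
      have e'' := QuotientGroup.eq.1 e
      exact e''
    have h1 : w * ((w * w₁.1)⁻¹ * (w * w₂.1)) * w ∈ NP P := by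
      rw [← hwconj, show w * (w * w₁.1)⁻¹ * w = (w * (w * w₁.1) * w)⁻¹ by
        simp only [mul_inv_rev, hwi, mul_assoc]]
      exact mul_mem (inv_mem (hswap w₁).2) (hswap w₂).2
    exact Subtype.ext (mul_left_cancel (inv_mul_eq_one.1 (hDP _ e' h1)))
  have hcardS : Nat.card (Invol.SwapInv x₀ b) = Nat.card (P : Subgroup G) - 1 := by
    rw [Invol.card_swapInv h.NP_se hxy]
    have e : Nat.card {t : G // orderOf t = 2 ∧ t ∈ NP P} =
        Nat.card {v : (P : Subgroup G) // v ≠ 1} := by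
      refine Nat.card_congr ⟨fun t => ⟨⟨t.1, h.invol_mem t.2.2 t.2.1⟩, fun e => ?_⟩,
        fun v => ⟨v.1.1, h.order2 v.1.2 (fun e => v.2 (Subtype.ext e)), Subgroup.le_normalizer v.1.2⟩,
        fun t => rfl, fun v => rfl⟩
      have e' : t.1 = 1 := congrArg Subtype.val e
      have := t.2.1
      rw [e', orderOf_one] at this
      omega
    rw [e, ← Nat.card_congr (Equiv.optionSubtypeNe (1 : (P : Subgroup G))), Finite.card_option]
    omega
  have hcardB : Nat.card (B ⧸ (P : Subgroup G).subgroupOf B) = Nat.card (P : Subgroup G) - 1 := by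
    have h1 := Subgroup.card_mul_index ((P : Subgroup G).subgroupOf B)
    rw [Nat.card_congr (Subgroup.subgroupOfEquivOfLe hPB).toEquiv, hs.card_B] at h1
    exact Nat.eq_of_mul_eq_mul_left Nat.card_pos h1
  have hFs : Function.Surjective F :=
    ((Nat.bijective_iff_injective_and_card F).2 ⟨hFi, hcardS.trans hcardB.symm⟩).2
  obtain ⟨e, heA, heP⟩ : ∃ e ∈ A, e ∉ (P : Subgroup G) := by
    by_contra hcon
    push Not at hcon
    have h1 := Subgroup.card_le_of_le (show A ≤ (P : Subgroup G) from hcon)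
    rw [hs.card_A] at h1
    have := hs.s_prime.two_le
    have hp0 := Nat.card_pos (α := (P : Subgroup G))
    nlinarith
  obtain ⟨heN, hes⟩ := (hs.mem_A e).1 heA
  have heB : e ∈ B := (hs.mem_B e).2 ⟨heN, fun hd => by
    have h2 : orderOf e ∣ s * 2 := orderOf_dvd_of_pow_eq_one (by
      rw [pow_mul, pow_two]; exact h.sq hes)
    rcases h.spec.prime.dvd_mul.1 (hd.trans h2) with e1 | e1
    · exact hs.s_ne ((Nat.prime_dvd_prime_iff_eq h.spec.prime hs.s_prime).1 e1).symm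
    · exact h.spec.ne_two ((Nat.prime_dvd_prime_iff_eq h.spec.prime Nat.prime_two).1 e1)⟩
  obtain ⟨w', hw'⟩ := hFs ((⟨e, heB⟩ : B) : B ⧸ (P : Subgroup G).subgroupOf B)
  have hke : (w * w'.1)⁻¹ * e ∈ (P : Subgroup G) := by
    have e'' := QuotientGroup.eq.1 hw'
    exact e''
  have hkA : w * w'.1 ∈ A := by
    have := mul_mem heA (hs.P_le_A h (inv_mem hke))
    rwa [mul_inv_rev, inv_inv, mul_inv_cancel_left] at this
  have hkQ : w * w'.1 ∈ Q := (hmem _).2 ⟨hkA, (hswap w').2⟩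
  have hkne : w * w'.1 ≠ 1 := fun e1 => heP (by rwa [e1, inv_one, one_mul] at hke)
  have hQcard : Nat.card Q = s := by
    refine le_antisymm hQle (Nat.le_of_dvd Nat.card_pos ?_)
    rw [← orderOf_eq_prime (hQs _ hkQ) hkne]
    exact Subgroup.orderOf_dvd_natCard Q hkQ
  refine ⟨hQcard, Subgroup.mem_normalizer_fintype fun q hq => ?_,
    Subgroup.mem_normalizer_fintype fun q hq => ?_⟩
  · obtain ⟨hqA, hqw⟩ := (hmem q).1 hq
    refine (hmem _).2 ⟨hs.A_conj h hs.x_mem hqA, ?_⟩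
    have hc : w * x = x * w := mem_Ct.1 hwx
    rw [show w * (x * q * x⁻¹) * w = x * (w * q * w) * x⁻¹ by
      calc w * (x * q * x⁻¹) * w = (w * x) * q * (x⁻¹ * w) := by group
        _ = (x * w) * q * (w * x⁻¹) := by rw [hc, (show Commute w x from hc).inv_right.eq]
        _ = x * (w * q * w) * x⁻¹ := by group]
    exact mul_mem (mul_mem hs.x_mem hqw) (inv_mem hs.x_mem)
  · obtain ⟨hqA, hqw⟩ := (hmem q).1 hq
    rw [hwi]
    refine (hmem _).2 ⟨(hs.mem_A _).2 ⟨hqw, ?_⟩, ?_⟩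
    · rw [hwpow, hQs q hq, mul_one, hww]; exact one_mem _
    · rw [hwtwo]; exact hs.A_le h hqA

/-- Two involutions centralising `x` and normalising a subgroup of order `s` are equal. -/
theorem invol_unique {Q : Subgroup G} (hQ : Nat.card Q = s) {w w' : G} (hw : orderOf w = 2)
    (hw' : orderOf w' = 2) (hwx : w ∈ Ct x) (hwx' : w' ∈ Ct x)
    (hwQ : w ∈ Subgroup.normalizer (Q : Set G)) (hwQ' : w' ∈ Subgroup.normalizer (Q : Set G)) :
    w = w' := by
  haveI := Fact.mk hs.s_prime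
  obtain ⟨⟨e, he⟩, heo⟩ := exists_prime_orderOf_dvd_card' (G := Q) s hQ.symm.dvd
  rw [Subgroup.orderOf_mk] at heo
  have hgen : Subgroup.zpowers e = Q := Subgroup.eq_of_le_of_card_ge (Subgroup.zpowers_le.2 he)
    (by rw [hQ, Nat.card_zpowers, heo])
  have hpow : ∀ v ∈ Subgroup.normalizer (Q : Set G), ∃ i : ℕ, v * e * v⁻¹ = e ^ i := by
    intro v hv
    have h1 : v * e * v⁻¹ ∈ Subgroup.zpowers e := by
      rw [hgen]; exact (Subgroup.mem_normalizer_iff.1 hv e).1 he
    obtain ⟨i, hi⟩ := (IsOfFinOrder.mem_powers_iff_mem_zpowers (isOfFinOrder_of_finite e)).2 h1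
    exact ⟨i, hi.symm⟩
  obtain ⟨i, hi⟩ := hpow w hwQ
  obtain ⟨j, hj⟩ := hpow w' hwQ'
  set d := w * w' with hd
  have hdO : d ∈ coreCt x := by
    have := mul_mem (hs.invol_a h hwx hw) (inv_mem (hs.invol_a h hwx' hw'))
    rwa [mul_inv_rev, mul_assoc, mul_inv_cancel_left, Invol.inv_self hw'] at this
  have h1 : d * e * d⁻¹ = e ^ (i * j) := by
    rw [hd, show w * w' * e * (w * w')⁻¹ = w * (w' * e * w'⁻¹) * w⁻¹ by group, hj, ← _root_.conj_pow,
      hi, ← pow_mul]
  have h2 : w' * w * e * (w' * w)⁻¹ = e ^ (i * j) := by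
    rw [show w' * w * e * (w' * w)⁻¹ = w' * (w * e * w⁻¹) * w'⁻¹ by group, hi, ← _root_.conj_pow,
      hj, ← pow_mul, mul_comm]
  have hdi : d⁻¹ = w' * w := by rw [hd, mul_inv_rev, Invol.inv_self hw, Invol.inv_self hw']
  rw [← hdi, inv_inv] at h2
  have h3 : d * d * e = e * (d * d) := by
    calc d * d * e = d * (d * e * d⁻¹) * d := by group
      _ = d * (d⁻¹ * e * d) * d := by rw [h1, ← h2]
      _ = e * (d * d) := by group
  have hdd : d * d = 1 := by
    by_contra hne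
    haveI := Fact.mk h.spec.prime
    have hddo : orderOf (d * d) = r := orderOf_eq_prime (hs.O_pow h (mul_mem hdO hdO)) hne
    have ho : orderOf (d * d * e) = r * s := by
      rw [(show Commute (d * d) e from h3).orderOf_mul_eq_mul_orderOf_of_coprime (by
        rw [hddo, heo]; exact (Nat.coprime_primes h.spec.prime hs.s_prime).2 hs.s_ne.symm), hddo, heo]
    rcases h.spec.rdiv (d * d * e) (ho ▸ dvd_mul_right r s) with e1 | e1
    · rw [ho] at e1
      exact hs.s_prime.one_lt.ne' (mul_right_eq_self₀.1 e1 |>.resolve_right h.spec.prime.ne_zero)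
    · rw [ho, mul_comm 2 r] at e1
      exact hs.s_two (Nat.eq_of_mul_eq_mul_left h.spec.prime.pos e1)
  have hd1 : d = 1 := orderOf_eq_one_iff.1 (Nat.eq_one_of_dvd_coprimes
    (Nat.coprime_two_left.2 (hs.O_odd h hdO)) (orderOf_dvd_of_pow_eq_one (by rw [pow_two, hdd])) dvd_rfl)
  rw [hd, mul_eq_one_iff_eq_inv, Invol.inv_self hw'] at hd1
  exact hd1

/-- The core has order `r`, or `r = 3` and it has order `9`. -/
theorem card_O : Nat.card (coreCt x) = r ∨ (r = 3 ∧ Nat.card (coreCt x) = 9) := by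
  classical
  haveI := Fact.mk h.spec.prime
  set O := coreCt x with hO
  set x₀ : G ⧸ NP P := ((1 : G) : G ⧸ NP P) with hx₀
  have hfix₀ : ∀ n : G, n • x₀ = x₀ ↔ n ∈ NP P := fun n => by
    rw [hx₀, MulAction.Quotient.smul_mk, QuotientGroup.eq, smul_eq_mul, mul_one, mul_one,
      inv_mem_iff]
  set X : Set (G ⧸ NP P) := MulAction.orbit O x₀ with hX
  have hcard : Nat.card O = r * X.ncard := by
    have h1 := Subgroup.card_mul_index (MulAction.stabilizer O x₀)
    rw [MulAction.index_stabilizer] at h1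
    have h2 : Nat.card (MulAction.stabilizer O x₀) = r := by
      rw [← hs.x_order, ← Nat.card_zpowers]
      refine Nat.card_congr ⟨fun n => ⟨(n.1 : G), hs.O_NP h n.1.2 ((hfix₀ _).1 n.2)⟩,
        fun c => ⟨⟨c.1, ?_⟩, ?_⟩, fun n => rfl, fun c => rfl⟩
      · obtain ⟨i, hi⟩ := Subgroup.mem_zpowers_iff.1 c.2
        exact hi ▸ zpow_mem (hs.x_O h) i
      · obtain ⟨i, hi⟩ := Subgroup.mem_zpowers_iff.1 c.2
        show (c : G) • x₀ = x₀
        exact (hfix₀ _).2 (hi ▸ zpow_mem hs.x_mem i)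
    rw [← h1, h2]
  -- the swappers
  have hfa : a • x₀ = x₀ := (hfix₀ a).2 (hs.a_NP h)
  have hsw : ∀ b ∈ X \ {x₀}, ∃ w : G, orderOf w = 2 ∧ w ∉ NP P ∧ w ∈ Ct x ∧ w • x₀ = b := by
    rintro b ⟨⟨⟨u, hu⟩, rfl⟩, hne⟩
    have hxy : x₀ ≠ u • x₀ := fun e => hne e.symm
    have hto : orderOf (u * a * u⁻¹) = 2 := by rw [Invol.order_conj, hs.a_order h]
    have hfu : (u * a * u⁻¹) • (u • x₀) = u • x₀ := by
      rw [mul_smul, mul_smul, inv_smul_smul, hfa]
    obtain ⟨w, hwo, hwx, hwc⟩ := Invol.se_swap h.NP_se (hs.a_order h) hto hfa hfu hxy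
    have hux : u * x = x * u := mem_Ct.1 (hs.O_le h hu)
    have hxfix : x • x₀ = x₀ := (hfix₀ x).2 hs.x_mem
    have hxu : x • (u • x₀) = u • x₀ := by rw [← mul_smul, ← hux, mul_smul, hxfix]
    have hxw : x * w * x⁻¹ = w := by
      have hinj := (Invol.swap_conj_bijective h.NP_se hxy ⟨a, hs.a_order h, hfa⟩).1
      have hw1 : orderOf (x * w * x⁻¹) = 2 := by rw [Invol.order_conj, hwo]
      have hw2 : (x * w * x⁻¹) • x₀ = u • x₀ := by
        rw [mul_smul, mul_smul, inv_smul_eq_iff.2 hxfix.symm, hwx, hxu]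
      refine congrArg Subtype.val (hinj (a₁ := ⟨x * w * x⁻¹, hw1, hw2⟩) (a₂ := ⟨w, hwo, hwx⟩)
        (Subtype.ext ?_))
      show x * w * x⁻¹ * a * (x * w * x⁻¹)⁻¹ = w * a * w⁻¹
      have hax : x⁻¹ * a * x = a := by rw [mul_assoc, ← hs.comm_xa h, inv_mul_cancel_left]
      rw [show x * w * x⁻¹ * a * (x * w * x⁻¹)⁻¹ = x * (w * (x⁻¹ * a * x) * w⁻¹) * x⁻¹ by group, hax, hwc]
      calc x * (u * a * u⁻¹) * x⁻¹ = (x * u) * a * (x * u)⁻¹ := by group
        _ = u * (x * a * x⁻¹) * u⁻¹ := by rw [← hux]; group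
        _ = u * a * u⁻¹ := by rw [hs.comm_xa h, mul_inv_cancel_right]
    refine ⟨w, hwo, fun e => hne ?_, mem_Ct.2 (mul_inv_eq_iff_eq_mul.1 hxw).symm, hwx⟩
    show u • x₀ = x₀
    rw [← hwx]
    exact (hfix₀ w).2 e
  choose! wf hwo hwN hwC hwb using hsw
  let f : G ⧸ NP P → Subgroup G := fun b => A ⊓ (NP P).comap (MulAut.conj (wf b)).toMonoidHom
  have hf : ∀ b ∈ X \ {x₀}, Nat.card (f b) = s ∧ x ∈ Subgroup.normalizer (f b : Set G) ∧
      wf b ∈ Subgroup.normalizer (f b : Set G) := fun b hb =>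
    hs.complement h (hwo b hb) (hwN b hb) (hwC b hb)
  have hinj : Set.InjOn f (X \ {x₀}) := by
    intro b hb b' hb' e
    rw [← hwb b hb, ← hwb b' hb', hs.invol_unique h (hf b hb).1 (hwo b hb) (hwo b' hb') (hwC b hb)
      (hwC b' hb') (hf b hb).2.2 (e ▸ (hf b' hb').2.2)]
  have hle : X.ncard ≤ 3 := by
    have h0 : x₀ ∈ X := MulAction.mem_orbit_self x₀
    have h1 : (X \ {x₀}).ncard + 1 = X.ncard := Set.ncard_sdiff_singleton_add_one h0 (Set.toFinite _)
    by_cases hne : (X \ {x₀}).Nonempty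
    · obtain ⟨b₀, hb₀⟩ := hne
      have h2 : (X \ {x₀}).ncard ≤ ({f b₀, MulAut.conj a • f b₀} : Set (Subgroup G)).ncard := by
        refine Set.ncard_le_ncard_of_injOn f (fun b hb => ?_) hinj (Set.toFinite _)
        rcases hs.cand_pair h (hf b₀ hb₀).1 inf_le_left (hf b₀ hb₀).2.1 (hf b hb).1 inf_le_left
          (hf b hb).2.1 with e | e
        · exact Or.inl e
        · exact Or.inr e
      have h3 := Set.ncard_insert_le (f b₀) {MulAut.conj a • f b₀}
      rw [Set.ncard_singleton] at h3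
      omega
    · rw [Set.not_nonempty_iff_eq_empty] at hne
      rw [hne, Set.ncard_empty] at h1
      omega
  obtain ⟨k, hk⟩ := IsPGroup.iff_card.1 (show IsPGroup r O from
    fun u => ⟨1, Subtype.ext (by rw [pow_one, Subgroup.coe_pow, hs.O_pow h u.2, Subgroup.coe_one])⟩)
  rw [hk] at hcard ⊢
  have h3r : 3 ≤ r := by
    have := h.spec.prime.two_le
    have := h.spec.ne_two
    omega
  rcases k with _ | _ | k
  · rw [pow_zero] at hcard
    have := Nat.eq_one_of_mul_eq_one_right hcard.symm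
    omega
  · exact Or.inl (pow_one r)
  · right
    have hX0 : X.ncard = r ^ (k + 1) := by
      rw [pow_succ'] at hcard
      exact (Nat.eq_of_mul_eq_mul_left h.spec.prime.pos hcard).symm
    have hk0 : k = 0 := by
      by_contra hk0
      have h9 : r ^ 2 ≤ r ^ (k + 1) := Nat.pow_le_pow_right (by omega) (by omega)
      nlinarith
    subst hk0
    rw [zero_add, pow_one] at hX0
    have hr3 : r = 3 := by omega
    exact ⟨hr3, by rw [hr3]; rfl⟩

end ShapeThree

end Cfsg.Agent.ThreeOrd
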