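import Cfsg.Agent.Lib.ThreeOrd.CaseIII
import Cfsg.Agent.Lib.ThreeOrd.Fusion
import Cfsg.Agent.Lib.Transfer.Fusion
import Mathlib.GroupTheory.IndexNormal

/-!
# The end of the case of a regular normal part

A Sylow `r`-subgroup over the core of `C(x)` has order `r`, `9` or `27`, and in each case transfer
gives a proper quotient.
-/

set_option autoImplicit false
set_option linter.style.haveILetI false
set_option linter.unusedSectionVars false

namespace Cfsg.Agent.ThreeOrd

open Cfsg.Agent.CNSimple (Ct mem_Ct)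

universe u

variable {G : Type u} [Group G] [Finite G] {r : ℕ}

/-- In a group of exponent three every element commutes with its conjugates. -/
theorem commute_conj_of_cube {H : Type*} [Group H] (hH : ∀ h : H, h ^ 3 = 1) (x g : H) :
    x * (g * x * g⁻¹) = g * x * g⁻¹ * x := by
  have h3 : ∀ u : H, u * u * u = 1 := fun u => by rw [← pow_three', hH]
  have hinv : ∀ u : H, u⁻¹ = u * u := fun u => inv_eq_of_mul_eq_one_right (by rw [← mul_assoc, h3])
  have h1 : x * g * x * g * x * g = 1 := by rw [← h3 (x * g)]; group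
  have h2 : x * g⁻¹ * x * g⁻¹ * x * g⁻¹ = 1 := by rw [← h3 (x * g⁻¹)]; group
  have e1 : g * x * g = x⁻¹ * g⁻¹ * x⁻¹ := by
    calc g * x * g = x⁻¹ * (x * g * x * g * x * g) * g⁻¹ * x⁻¹ := by group
      _ = x⁻¹ * g⁻¹ * x⁻¹ := by rw [h1]; group
  have e2 : x * g⁻¹ * x = g * x⁻¹ * g := by
    calc x * g⁻¹ * x = (x * g⁻¹ * x * g⁻¹ * x * g⁻¹) * (g * x⁻¹ * g) := by group
      _ = g * x⁻¹ * g := by rw [h2, one_mul]
  have l : g * x * g⁻¹ = x⁻¹ * g⁻¹ * x⁻¹ * g := by
    rw [hinv g, ← mul_assoc, e1, ← hinv g]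
  calc x * (g * x * g⁻¹) = g⁻¹ * x⁻¹ * g := by rw [l]; group
    _ = g * g * x⁻¹ * g := by rw [hinv g]
    _ = g * (g * x⁻¹ * g) := by group
    _ = g * (x * g⁻¹ * x) := by rw [e2]
    _ = g * x * g⁻¹ * x := by group

namespace ShapeThree

variable {P : Sylow 2 G} {s : ℕ} {A B : Subgroup G} {x a : G}
  (hs : ShapeThree r P s A B x a) (h : Big r P)
include hs h

theorem mem_O_of_pow {g : G} (hg : g ∈ Ct x) (hr : g ^ r = 1) : g ∈ coreCt x := by
  rcases hs.cent_x h hg with e | e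
  · exact e
  have h2 : g * g ∈ coreCt x := by
    have h1 : a * g ∈ coreCt x := by
      have := (Subgroup.mem_normalizer_iff.1 (EightSylow.le_normalizer_core' (q := 2) (Ct x) (hs.a_Ctx h)) _).1 e
      rwa [mul_assoc, mul_assoc, mul_inv_cancel, mul_one] at this
    have := mul_mem e h1
    rwa [mul_assoc, ← mul_assoc a a, hs.a_sq h, one_mul] at this
  obtain ⟨k, hk⟩ := h.spec.odd
  have := pow_mem h2 (k + 1)
  rwa [← pow_two, ← pow_mul, show 2 * (k + 1) = r + 1 by omega, pow_succ, hr, one_mul] at this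

theorem Ctx_eq : coreCt x ⊔ Subgroup.zpowers a = Ct x := by
  refine le_antisymm (sup_le (hs.O_le h) (Subgroup.zpowers_le.2 (hs.a_Ctx h))) fun g hg => ?_
  rcases hs.cent_x h hg with e | e
  · exact Subgroup.mem_sup_left e
  · rw [show g = g * a * a by rw [mul_assoc, hs.a_sq h, mul_one]]
    exact mul_mem (Subgroup.mem_sup_left e) (Subgroup.mem_sup_right (Subgroup.mem_zpowers a))

theorem card_Ctx : Nat.card (Ct x) = 2 * Nat.card (coreCt x) := by
  rw [← hs.Ctx_eq h, SolvBasic.card_sup_of_inf_eq_bot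
    (Subgroup.zpowers_le.2 (EightSylow.le_normalizer_core' (q := 2) (Ct x) (hs.a_Ctx h))) ?_,
    Nat.card_zpowers, hs.a_order h, mul_comm]
  rw [eq_bot_iff]
  intro z hz
  rw [Subgroup.mem_bot]
  exact orderOf_eq_one_iff.1 (Nat.eq_one_of_dvd_coprimes (Nat.coprime_two_left.2 (hs.O_odd h hz.1))
    (by
      have hd := Subgroup.orderOf_dvd_natCard _ hz.2
      rwa [Nat.card_zpowers, hs.a_order h] at hd) dvd_rfl)

theorem x_pow_two_ne : x * x ≠ 1 := fun e => by
  have h2 : orderOf x ∣ 2 := orderOf_dvd_of_pow_eq_one (by rw [pow_two, e])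
  rw [hs.x_order] at h2
  exact h.spec.ne_two ((Nat.prime_dvd_prime_iff_eq h.spec.prime Nat.prime_two).1 h2)

/-- The case that the core is a Sylow subgroup with normaliser in `C(x)`. -/
theorem abelian_end [Fact r.Prime] (R : Sylow r G) (hR : (R : Subgroup G) = coreCt x)
    (hab : ∀ u ∈ coreCt x, ∀ v ∈ coreCt x, u * v = v * u)
    (hN : Subgroup.normalizer (coreCt x : Set G) ≤ Ct x) : False := by
  haveI := h.simple
  letI : CommGroup (R : Subgroup G) := { (inferInstance : Group (R : Subgroup G)) with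
    mul_comm := fun u v => Subtype.ext (hab u (hR.le u.2) v (hR.le v.2)) }
  have hconj : ∀ u ∈ (R : Subgroup G), a * u * a ∈ (R : Subgroup G) := fun u hu => by
    rw [hR] at hu ⊢
    have := (Subgroup.mem_normalizer_iff.1 (EightSylow.le_normalizer_core' (q := 2) (Ct x) (hs.a_Ctx h)) u).1 hu
    rwa [hs.a_inv h] at this
  let φ : (R : Subgroup G) →* (R : Subgroup G) :=
    { toFun := fun u => u * ⟨a * u * a, hconj u u.2⟩
      map_one' := Subtype.ext (by simp [hs.a_sq h])
      map_mul' := fun u v => by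
        rw [mul_mul_mul_comm u ⟨a * u * a, hconj u u.2⟩ v ⟨a * v * a, hconj v v.2⟩]
        refine congrArg (u * v * ·) (Subtype.ext ?_)
        show a * ((u : G) * v) * a = a * u * a * (a * v * a)
        calc a * ((u : G) * v) * a = a * u * (a * a) * v * a := by rw [hs.a_sq h]; group
          _ = _ := by group }
  have hφ : ∀ u : (R : Subgroup G), ((φ u : (R : Subgroup G)) : G) = u * (a * u * a) := fun u => rfl
  have hconjO : ∀ o ∈ coreCt x, ∀ u ∈ (R : Subgroup G), o * u * o⁻¹ = u := fun o ho u hu => by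
    rw [hab o ho u (hR.le hu), mul_inv_cancel_right]
  have htriv := abelian_trivial h.nonsolv R (fun u hu v hv => hab u (hR.le hu) v (hR.le hv)) φ
    (fun n hn u hu hv => by
      refine Subtype.ext ?_
      rw [hφ, hφ]
      show n * u * n⁻¹ * (a * (n * u * n⁻¹) * a) = u * (a * u * a)
      have hn' : n ∈ Ct x := hN (by rwa [← hR])
      rcases hs.cent_x h hn' with e | e
      · rw [hconjO n e u hu]
      · have e1 : n * u * n⁻¹ = a * u * a := by
          have h1 := hconjO (n * a) e (a * u * a) (hconj u hu)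
          rw [show n * a * (a * u * a) * (n * a)⁻¹ = n * (a * a) * u * (a * a⁻¹) * n⁻¹ by group,
            hs.a_sq h, mul_one, mul_inv_cancel, mul_one] at h1
          exact h1
        rw [e1, show a * (a * u * a) * a = (a * a) * u * (a * a) by group, hs.a_sq h, one_mul, mul_one]
        exact hab _ (hR.le (hconj u hu)) _ (hR.le hu)) ⟨x, hR.ge (hs.x_O h)⟩
  have h1 : x * (a * x * a) = 1 := by
    have := congrArg Subtype.val htriv
    rwa [hφ] at this
  rw [← hs.comm_xa h, mul_assoc x a a, hs.a_sq h, mul_one] at h1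
  exact hs.x_pow_two_ne h h1

/-- The core of order `r`. -/
theorem small_end (hO : Nat.card (coreCt x) = r) : False := by
  haveI := Fact.mk h.spec.prime
  have hOx : coreCt x = Subgroup.zpowers x :=
    (Subgroup.eq_of_le_of_card_ge (Subgroup.zpowers_le.2 (hs.x_O h))
      (by rw [hO, Nat.card_zpowers, hs.x_order])).symm
  obtain ⟨R, hR⟩ := (show IsPGroup r (coreCt x) from IsPGroup.of_card (n := 1) (by rw [hO, pow_one]))
    |>.exists_le_sylow
  have hRr : ∀ u ∈ (R : Subgroup G), u ^ r = 1 := fun u hu => by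
    obtain ⟨k, hk⟩ := IsPGroup.iff_orderOf.1 R.isPGroup' ⟨u, hu⟩
    rw [Subgroup.orderOf_mk] at hk
    rcases Nat.eq_zero_or_pos k with rfl | hk0
    · rw [orderOf_eq_one_iff.1 (hk.trans (pow_zero r)), one_pow]
    · exact h.spec.odd_pow_of_dvd (hk ▸ dvd_pow_self r hk0.ne') (hk ▸ h.spec.odd.pow)
  have hxR := hR (hs.x_O h)
  haveI : Nontrivial (R : Subgroup G) :=
    ⟨⟨⟨x, hxR⟩, 1, fun e => hs.x_pow_two_ne h (by rw [show x = 1 from congrArg Subtype.val e, one_mul])⟩⟩
  haveI := R.isPGroup'.center_nontrivial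
  obtain ⟨⟨z, hz⟩, hz1⟩ := _root_.exists_ne (1 : Subgroup.center (R : Subgroup G))
  have hzc : ∀ u ∈ (R : Subgroup G), u * z = z * u := fun u hu =>
    congrArg Subtype.val (Subgroup.mem_center_iff.1 hz ⟨u, hu⟩)
  have hzO : (z : G) ∈ Subgroup.zpowers x :=
    hOx ▸ hs.mem_O_of_pow h (mem_Ct.2 (hzc x hxR).symm) (hRr z z.2)
  have hgen : Subgroup.zpowers (z : G) = Subgroup.zpowers x := by
    refine Subgroup.eq_of_le_of_card_ge (Subgroup.zpowers_le.2 hzO) (le_of_eq ?_)
    rw [Nat.card_zpowers, Nat.card_zpowers, hs.x_order,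
      orderOf_eq_prime (hRr z z.2) fun e => hz1 (Subtype.ext (Subtype.ext e))]
  have hRO : (R : Subgroup G) = coreCt x := by
    refine le_antisymm (fun u hu => hs.mem_O_of_pow h (mem_Ct.2 ?_) (hRr u hu)) hR
    obtain ⟨i, hi⟩ := Subgroup.mem_zpowers_iff.1 (hgen ▸ Subgroup.mem_zpowers x :
      x ∈ Subgroup.zpowers (z : G))
    rw [← hi]
    exact (Commute.zpow_right (hzc u hu) i).eq
  refine hs.abelian_end h R hRO (fun u hu v hv => ?_) fun g hg => ?_
  · rw [hOx] at hu hv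
    obtain ⟨i, rfl⟩ := Subgroup.mem_zpowers_iff.1 hu
    obtain ⟨j, rfl⟩ := Subgroup.mem_zpowers_iff.1 hv
    exact zpow_mul_comm x i j
  · have h1 : g * x * g⁻¹ ∈ Subgroup.zpowers x :=
      hOx ▸ (Subgroup.mem_normalizer_iff.1 hg x).1 (hs.x_O h)
    obtain ⟨i, hi⟩ := (IsOfFinOrder.mem_powers_iff_mem_zpowers (isOfFinOrder_of_finite x)).2 h1
    exact hs.norm_x h hi.symm

/-- The core of order nine. -/
theorem nine_end (hr3 : r = 3) (hO : Nat.card (coreCt x) = 9) : False := by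
  classical
  subst hr3
  haveI : Fact (Nat.Prime 3) := ⟨Nat.prime_three⟩
  haveI : Fact (Nat.Prime 2) := ⟨Nat.prime_two⟩
  haveI := h.simple
  set O := coreCt x with hOdef
  set N := Subgroup.normalizer (O : Set G) with hN
  have hCN : Ct x ≤ N := EightSylow.le_normalizer_core' _
  have hC18 : Nat.card (Ct x) = 18 := by rw [hs.card_Ctx h, hO]
  have hOab : ∀ u ∈ O, ∀ v ∈ O, u * v = v * u := by
    have : IsMulCommutative O := IsPGroup.isMulCommutative_of_card_eq_prime_sq (p := 3) (by rw [hO]; rfl)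
    intro u hu v hv
    exact congrArg Subtype.val (this.is_comm.comm ⟨u, hu⟩ ⟨v, hv⟩)
  have hOx : ∀ g ∈ N, g * x * g⁻¹ ∈ O := fun g hg =>
    (Subgroup.mem_normalizer_iff.1 hg x).1 (hs.x_O h)
  have hnoinv : ∀ g : G, g * x * g⁻¹ ≠ x⁻¹ := by
    intro g e
    have hgc : g ∈ Ct x := hs.norm_x h (i := 2) (by
      rw [e, eq_comm, eq_inv_iff_mul_eq_one, ← pow_succ, hs.xr h])
    rw [mem_Ct.1 hgc, mul_inv_cancel_right] at e
    exact hs.x_pow_two_ne h (eq_inv_iff_mul_eq_one.1 e)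
  -- the orbit of `x` in the normaliser of the core
  set Ω : Set G := {v | ∃ g ∈ N, g * x * g⁻¹ = v} with hΩ
  have horb : Ω.ncard * 18 = Nat.card N := by
    have := EightSylow.card_conj N x
    rw [inf_eq_right.2 (show EightSylow.C x ≤ N from hCN)] at this
    rw [← Nat.card_coe_set_eq, ← hC18]
    exact this
  have hΩsub : Ω ⊆ (O : Set G) \ {1} := by
    rintro _ ⟨g, hg, rfl⟩
    exact ⟨hOx g hg, fun e => hs.x_pow_two_ne h (by rw [conj_eq_one_iff.1 e, one_mul])⟩
  have hΩ4 : Ω.ncard ≤ 4 := by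
    set Ω' := (fun v : G => v⁻¹) '' Ω with hΩ'
    have hdis : Disjoint Ω Ω' := by
      rw [Set.disjoint_left]
      rintro _ ⟨g, hg, rfl⟩ ⟨_, ⟨g', -, rfl⟩, e⟩
      refine hnoinv (g⁻¹ * g') ?_
      have e' : (g' * x * g'⁻¹)⁻¹ = g * x * g⁻¹ := e
      calc g⁻¹ * g' * x * (g⁻¹ * g')⁻¹ = g⁻¹ * (g' * x * g'⁻¹) * g := by group
        _ = g⁻¹ * (g * x * g⁻¹)⁻¹ * g := by rw [← e', inv_inv]
        _ = x⁻¹ := by group
    have hsub : Ω ∪ Ω' ⊆ (O : Set G) \ {1} := by
      refine Set.union_subset hΩsub ?_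
      rintro _ ⟨v, hv, rfl⟩
      exact ⟨inv_mem (hΩsub hv).1, fun e => (hΩsub hv).2 (inv_eq_one.1 e)⟩
    have h1 := Set.ncard_le_ncard hsub (Set.toFinite _)
    rw [Set.ncard_union_eq hdis (Set.toFinite _) (Set.toFinite _),
      Set.ncard_image_of_injective _ inv_injective] at h1
    have h2 := Set.ncard_sdiff_singleton_add_one (show (1 : G) ∈ (O : Set G) from O.one_mem) (Set.toFinite _)
    rw [← Nat.card_coe_set_eq (O : Set G), SetLike.coe_sort_coe, hO] at h2
    omega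
  have hΩodd : ¬ 2 ∣ Ω.ncard := by
    intro hd
    have h4 : 2 ^ 2 ∣ Nat.card N := by
      rw [← horb]
      obtain ⟨c, hc⟩ := hd
      exact ⟨9 * c, by rw [hc]; ring⟩
    have haN : a ∈ N := hCN (hs.a_Ctx h)
    obtain ⟨V, hV, haV⟩ := Sylow.exists_subgroup_card_pow_prime_le 2 h4
      (Subgroup.zpowers (⟨a, haN⟩ : N)) (n := 1)
      (by rw [Nat.card_zpowers, Subgroup.orderOf_mk, hs.a_order h, pow_one]) (by norm_num)
    have hV2 : IsPGroup 2 (V.map N.subtype) := (IsPGroup.of_card hV).map _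
    have hsub : ∀ v ∈ V.map N.subtype, v = 1 ∨ v = a := by
      intro v hv
      have ha' : a ∈ V.map N.subtype := ⟨⟨a, haN⟩, haV (Subgroup.mem_zpowers _), rfl⟩
      have hva := h.spec.comm_of_pgroup hV2 hv ha'
      have hv2 := h.spec.sq_of_pgroup hV2 hv
      by_cases hv1 : v = 1
      · exact Or.inl hv1
      right
      obtain ⟨v', -, rfl⟩ := hv
      have hc : (v' : G) * x * (v' : G)⁻¹ * a = a * ((v' : G) * x * (v' : G)⁻¹) := by
        have e1 : (v' : G)⁻¹ * a = a * (v' : G)⁻¹ := (show Commute (v' : G) a from hva).inv_left.eq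
        calc (v' : G) * x * (v' : G)⁻¹ * a = (v' : G) * (x * a) * (v' : G)⁻¹ := by
              rw [mul_assoc _ _ a, e1]; group
          _ = ((v' : G) * a) * x * (v' : G)⁻¹ := by rw [hs.comm_xa h]; group
          _ = _ := by rw [show (v' : G) * a = a * v' from hva]; group
      obtain ⟨i, hi⟩ := (IsOfFinOrder.mem_powers_iff_mem_zpowers (isOfFinOrder_of_finite x)).2
        (hs.O_a h (hOx _ v'.2) hc)
      have hvC : (v' : G) ∈ Ct x := hs.norm_x h hi.symm
      have hu := hs.invol_a h hvC (Invol.order_two_of_sq hv2 hv1)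
      have hu2 : ((v' : G) * a) * ((v' : G) * a) = 1 := by
        have e1 : (v' : G) * a = a * v' := hva
        calc (v' : G) * a * ((v' : G) * a) = (v' : G) * a * (a * v') := by rw [← e1]
          _ = (v' : G) * (a * a) * v' := by group
          _ = 1 := by rw [hs.a_sq h, mul_one]; exact hv2
      have h1 : (v' : G) * a = 1 := orderOf_eq_one_iff.1 (Nat.eq_one_of_dvd_coprimes
        (Nat.coprime_two_left.2 (hs.O_odd h hu))
        (orderOf_dvd_of_pow_eq_one (by rw [pow_two, hu2])) dvd_rfl)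
      exact (mul_eq_one_iff_eq_inv.1 h1).trans (hs.a_inv h)
    have h1 : (V.map N.subtype : Set G) ⊆ {1, a} := fun v hv => hsub v hv
    have h2 := Set.ncard_le_ncard h1 (Set.toFinite _)
    rw [← Nat.card_coe_set_eq, SetLike.coe_sort_coe,
      Subgroup.card_map_of_injective N.subtype_injective, hV] at h2
    have h3 := Set.ncard_insert_le (1 : G) {a}
    rw [Set.ncard_singleton] at h3
    omega
  -- a Sylow subgroup
  obtain ⟨R, hR⟩ := (show IsPGroup 3 O from IsPGroup.of_card (n := 2) (by rw [hO]; rfl)).exists_le_sylow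
  have hR3 : ∀ u ∈ (R : Subgroup G), u ^ 3 = 1 := fun u hu => by
    obtain ⟨k, hk⟩ := IsPGroup.iff_orderOf.1 R.isPGroup' ⟨u, hu⟩
    rw [Subgroup.orderOf_mk] at hk
    rcases Nat.eq_zero_or_pos k with rfl | hk0
    · rw [orderOf_eq_one_iff.1 (hk.trans (pow_zero 3)), one_pow]
    · exact h.spec.odd_pow_of_dvd (hk ▸ dvd_pow_self 3 hk0.ne') (hk ▸ h.spec.odd.pow)
  have hxR := hR (hs.x_O h)
  have hRN : (R : Subgroup G) ≤ N := by
    intro g hg
    set y := g * x * g⁻¹ with hy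
    have hyR : y ∈ (R : Subgroup G) := mul_mem (mul_mem hg hxR) (inv_mem hg)
    have hxy : x * y = y * x := congrArg Subtype.val (commute_conj_of_cube
      (fun u : (R : Subgroup G) => Subtype.ext (hR3 u u.2)) ⟨x, hxR⟩ ⟨g, hg⟩)
    have hyO : y ∈ O := hs.mem_O_of_pow h (mem_Ct.2 hxy.symm) (hR3 y hyR)
    by_cases hyx : y ∈ Subgroup.zpowers x
    · obtain ⟨i, hi⟩ := (IsOfFinOrder.mem_powers_iff_mem_zpowers (isOfFinOrder_of_finite x)).2 hyx
      exact hCN (hs.norm_x h hi.symm)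
    have hyord : orderOf y = 3 := by rw [hy, Invol.order_conj, hs.x_order]
    have hle : Subgroup.zpowers x ≤ Subgroup.normalizer (Subgroup.zpowers y : Set G) := by
      refine le_trans ?_ (Subgroup.centralizer_le_normalizer _)
      refine Subgroup.zpowers_le.2 (Subgroup.mem_centralizer_iff.2 fun u hu => ?_)
      obtain ⟨i, rfl⟩ := Subgroup.mem_zpowers_iff.1 hu
      exact (Commute.zpow_left (show Commute y x from hxy.symm) i).eq
    have hsup : Subgroup.zpowers y ⊔ Subgroup.zpowers x = O := by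
      refine Subgroup.eq_of_le_of_card_ge
        (sup_le (Subgroup.zpowers_le.2 hyO) (Subgroup.zpowers_le.2 (hs.x_O h))) (le_of_eq ?_)
      rw [hO, SolvBasic.card_sup_of_inf_eq_bot hle ?_, Nat.card_zpowers, Nat.card_zpowers, hyord,
        hs.x_order]
      rw [eq_bot_iff]
      intro u hu
      rw [Subgroup.mem_bot]
      by_contra hu1
      have hu3 : orderOf u = 3 := orderOf_eq_prime (hR3 u (hR ((Subgroup.zpowers_le.2 hyO) hu.1))) hu1
      have e : Subgroup.zpowers u = Subgroup.zpowers y := Subgroup.eq_of_le_of_card_ge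
        (Subgroup.zpowers_le.2 hu.1) (by rw [Nat.card_zpowers, Nat.card_zpowers, hu3, hyord])
      exact hyx ((Subgroup.zpowers_le.2 hu.2) (e ▸ Subgroup.mem_zpowers y))
    have hginv : g⁻¹ ∈ N := by
      refine Subgroup.mem_normalizer_fintype fun u hu => ?_
      have key : O ≤ O.comap (MulAut.conj g⁻¹).toMonoidHom := by
        rw [← hsup]
        refine sup_le (Subgroup.zpowers_le.2 ?_) (Subgroup.zpowers_le.2 ?_) <;>
          rw [Subgroup.mem_comap, MulEquiv.coe_toMonoidHom, MulAut.conj_apply, inv_inv, hsup]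
        · rw [hy, show g⁻¹ * (g * x * g⁻¹) * g = x by group]
          exact hs.x_O h
        · refine hs.mem_O_of_pow h (mem_Ct.2 ?_) (hR3 _ (mul_mem (mul_mem (inv_mem hg) hxR) hg))
          calc g⁻¹ * x * g * x = g⁻¹ * (x * y) * g := by rw [hy]; group
            _ = g⁻¹ * (y * x) * g := by rw [hxy]
            _ = x * (g⁻¹ * x * g) := by rw [hy]; group
      exact key hu
    simpa using inv_mem hginv
  obtain ⟨j, hj⟩ := IsPGroup.iff_card.1 R.isPGroup'
  have hjd : 3 ^ j ∣ Ω.ncard * 18 := by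
    rw [horb, ← hj]; exact Subgroup.card_dvd_of_le hRN
  have hmax : ∀ m, 3 ^ m ∣ Nat.card N → 3 ^ m ∣ 3 ^ j := fun m hm => by
    rw [← hj]
    exact R.pow_dvd_card_of_pow_dvd_card (hm.trans (Subgroup.card_subgroup_dvd_card N))
  have hk : Ω.ncard = 1 ∨ Ω.ncard = 3 := by
    have hpos : 0 < Ω.ncard := (Set.ncard_pos (Set.toFinite _)).2 ⟨x, 1, one_mem _, by simp⟩
    omega
  rcases hk with hk | hk
  · -- the core is a Sylow subgroup
    rw [hk, one_mul] at hjd horb
    have hj2 : j ≤ 2 := by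
      by_contra hlt
      have := (pow_dvd_pow 3 (show 3 ≤ j by omega)).trans hjd
      norm_num at this
    have hRO : (R : Subgroup G) = O := (Subgroup.eq_of_le_of_card_ge hR (by
      rw [hj, hO]
      calc 3 ^ j ≤ 3 ^ 2 := Nat.pow_le_pow_right (by norm_num) hj2
        _ = 9 := rfl)).symm
    refine hs.abelian_end h R hRO hOab ?_
    exact (Subgroup.eq_of_le_of_card_ge hCN (by rw [hC18, ← horb])).ge
  -- a Sylow subgroup of order `27`
  rw [hk] at hjd horb
  have hcardR : Nat.card (R : Subgroup G) = 27 := by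
    have h1 : j ≤ 3 := by
      by_contra hlt
      have := (pow_dvd_pow 3 (show 4 ≤ j by omega)).trans hjd
      norm_num at this
    have h2 := Nat.le_of_dvd (pow_pos (by norm_num) _) (hmax 3 (by rw [← horb]; norm_num))
    have h3 : 3 ≤ j := (Nat.pow_le_pow_iff_right (by norm_num)).1 h2
    rw [hj, show j = 3 by omega]
    rfl
  have haR : ∀ u ∈ (R : Subgroup G), a * u * a ∈ (R : Subgroup G) := by
    have hidx : ((R : Subgroup G).subgroupOf N).index = 2 := by
      have h1 := Subgroup.card_mul_index ((R : Subgroup G).subgroupOf N)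
      rw [Nat.card_congr (Subgroup.subgroupOfEquivOfLe hRN).toEquiv, hcardR, ← horb] at h1
      omega
    haveI := Subgroup.normal_of_index_eq_two hidx
    intro u hu
    have := ‹((R : Subgroup G).subgroupOf N).Normal›.conj_mem ⟨u, hRN hu⟩ hu ⟨a, hCN (hs.a_Ctx h)⟩
    rw [Subgroup.mem_subgroupOf] at this
    simpa [hs.a_inv h] using this
  -- `x` is not central
  have hxnc : ¬ ∀ u ∈ (R : Subgroup G), u * x = x * u := fun hc => by
    have hle : (R : Subgroup G) ≤ O := fun u hu => hs.mem_O_of_pow h (mem_Ct.2 (hc u hu)) (hR3 u hu)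
    have := Subgroup.card_le_of_le hle
    rw [hcardR, hO] at this
    omega
  -- a central element of the core
  obtain ⟨z, hzO, hz1, hzc⟩ : ∃ z ∈ O, z ≠ 1 ∧ ∀ u ∈ (R : Subgroup G), u * z = z * u := by
    haveI : Group.IsNilpotent (R : Subgroup G) := R.isPGroup'.isNilpotent
    haveI : (O.subgroupOf (R : Subgroup G)).Normal :=
      ⟨fun n hn g => (Subgroup.mem_normalizer_iff.1 (hRN g.2) n).1 hn⟩
    have hne : O.subgroupOf (R : Subgroup G) ≠ ⊥ := by
      intro e
      have : (⟨x, hxR⟩ : (R : Subgroup G)) ∈ O.subgroupOf (R : Subgroup G) := hs.x_O h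
      rw [e, Subgroup.mem_bot] at this
      have hx1 : x = 1 := congrArg (fun u : (R : Subgroup G) => (u : G)) this
      exact hs.x_pow_two_ne h (by rw [hx1, one_mul])
    obtain ⟨⟨z, hz, hzc⟩, hz1⟩ := Subgroup.ne_bot_iff_exists_ne_one.1
      (SolvStruct.inf_center_ne_bot (G := (R : Subgroup G)) (N := O.subgroupOf (R : Subgroup G)) hne)
    exact ⟨z, hz, fun e => hz1 (Subtype.ext (Subtype.ext e)), fun u hu =>
      congrArg Subtype.val (Subgroup.mem_center_iff.1 hzc ⟨u, hu⟩)⟩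
  have hzR : z ∈ (R : Subgroup G) := hR hzO
  have hzo : orderOf z = 3 := orderOf_eq_prime (hR3 z hzR) hz1
  have hgenx : ∀ u ∈ Subgroup.zpowers x, u ≠ 1 → ∃ i : ℤ, u ^ i = x := by
    intro u hu hu1
    have e : Subgroup.zpowers u = Subgroup.zpowers x := Subgroup.eq_of_le_of_card_ge
      (Subgroup.zpowers_le.2 hu) (by
        rw [Nat.card_zpowers, Nat.card_zpowers, hs.x_order,
          orderOf_eq_prime (by
            obtain ⟨i, rfl⟩ := Subgroup.mem_zpowers_iff.1 hu
            rw [← zpow_natCast, ← zpow_mul, mul_comm, zpow_mul, zpow_natCast, hs.xr h, one_zpow]) hu1])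
    exact Subgroup.mem_zpowers_iff.1 (e ▸ Subgroup.mem_zpowers x)
  have hzx : ∀ u ∈ Subgroup.zpowers x, (∀ v ∈ (R : Subgroup G), v * u = u * v) → u = 1 := by
    intro u hu hc
    by_contra hu1
    obtain ⟨i, hi⟩ := hgenx u hu hu1
    exact hxnc fun v hv => hi ▸ (Commute.zpow_right (hc v hv) i).eq
  have hazc : ∀ v ∈ (R : Subgroup G), v * (a * z * a) = a * z * a * v := by
    intro v hv
    calc v * (a * z * a) = (a * a) * v * (a * z * a) := by rw [hs.a_sq h, one_mul]
      _ = a * ((a * v * a) * z) * a := by group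
      _ = a * (z * (a * v * a)) * a := by rw [hzc _ (haR v hv)]
      _ = a * z * a * v * (a * a) := by group
      _ = _ := by rw [hs.a_sq h, mul_one]
  have haz : a * z * a = z⁻¹ := by
    have hazO : a * z * a ∈ O := by
      have := (Subgroup.mem_normalizer_iff.1 (hCN (hs.a_Ctx h)) z).1 hzO
      rwa [hs.a_inv h] at this
    have hu : z * (a * z * a) ∈ Subgroup.zpowers x := by
      refine hs.O_a h (mul_mem hzO hazO) ?_
      calc z * (a * z * a) * a = z * a * z * (a * a) := by group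
        _ = z * a * z := by rw [hs.a_sq h, mul_one]
        _ = (a * a) * (z * a * z) := by rw [hs.a_sq h, one_mul]
        _ = a * ((a * z * a) * z) := by group
        _ = a * (z * (a * z * a)) := by rw [hOab _ hazO z hzO]
    have h1 := hzx _ hu fun v hv => by
      rw [← mul_assoc, hzc v hv, mul_assoc, hazc v hv, ← mul_assoc]
    exact (inv_eq_of_mul_eq_one_right h1).symm
  set Z := Subgroup.zpowers z with hZ
  have hcentral : ∀ c ∈ (R : Subgroup G), (∀ v ∈ (R : Subgroup G), v * c = c * v) → c ∈ Z := by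
    intro c hc hcc
    have hcO : c ∈ O := hs.mem_O_of_pow h (mem_Ct.2 (hcc x hxR).symm) (hR3 c hc)
    by_contra hcZ
    refine hxnc fun v hv => ?_
    have hle : Z ≤ Subgroup.normalizer (Subgroup.zpowers c : Set G) := by
      refine le_trans ?_ (Subgroup.centralizer_le_normalizer _)
      refine Subgroup.zpowers_le.2 (Subgroup.mem_centralizer_iff.2 fun u hu => ?_)
      obtain ⟨i, rfl⟩ := Subgroup.mem_zpowers_iff.1 hu
      exact (Commute.zpow_left (show Commute c z from hzc c hc) i).eq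
    have hsup : Subgroup.zpowers c ⊔ Z = O := by
      refine Subgroup.eq_of_le_of_card_ge
        (sup_le (Subgroup.zpowers_le.2 hcO) (Subgroup.zpowers_le.2 hzO)) (le_of_eq ?_)
      rw [hO, SolvBasic.card_sup_of_inf_eq_bot hle ?_, hZ, Nat.card_zpowers, Nat.card_zpowers, hzo,
        orderOf_eq_prime (hR3 c hc) (fun e => hcZ (e ▸ Z.one_mem))]
      rw [eq_bot_iff]
      intro u hu
      rw [Subgroup.mem_bot]
      by_contra hu1
      have hu3 : orderOf u = 3 :=
        orderOf_eq_prime (hR3 u ((Subgroup.zpowers_le.2 hzR : Z ≤ (R : Subgroup G)) hu.2)) hu1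
      have e : Subgroup.zpowers u = Subgroup.zpowers c := Subgroup.eq_of_le_of_card_ge
        (Subgroup.zpowers_le.2 hu.1) (by
          rw [Nat.card_zpowers, Nat.card_zpowers, hu3,
            orderOf_eq_prime (hR3 c hc) (fun e => hcZ (e ▸ Z.one_mem))])
      exact hcZ ((Subgroup.zpowers_le.2 hu.2) (e ▸ Subgroup.mem_zpowers c))
    have hxs : x ∈ Subgroup.zpowers c ⊔ Z := hsup.ge (hs.x_O h)
    have hall : Subgroup.zpowers c ⊔ Z ≤ Ct v := by
      refine sup_le (Subgroup.zpowers_le.2 (mem_Ct.2 (hcc v hv).symm))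
        (Subgroup.zpowers_le.2 (mem_Ct.2 (hzc v hv).symm))
    exact (mem_Ct.1 (hall hxs)).symm
  -- the centraliser of `z`
  have hRz : (R : Subgroup G) ≤ Ct z := fun u hu => mem_Ct.2 (hzc u hu)
  have hCzodd : ∀ t ∈ Ct z, orderOf t ≠ 2 := by
    intro t ht hto
    obtain ⟨c, hc⟩ := isConj_iff.1 (Invol.se_isConj h.NP_se hto (hs.a_order h))
    have hzt : c * z * c⁻¹ * a = a * (c * z * c⁻¹) := by
      rw [← hc]
      calc c * z * c⁻¹ * (c * t * c⁻¹) = c * (z * t) * c⁻¹ := by group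
        _ = c * (t * z) * c⁻¹ := by rw [mem_Ct.1 ht]
        _ = _ := by group
    obtain ⟨n, hn, i, hi⟩ := hs.conj_x h (h.Ct_le_NP hs.a_mem hs.a_ne (mem_Ct.2 hzt))
      (by rw [Invol.order_conj, hzo])
    set k := n⁻¹ * c with hkdef
    have hkz : k * z * k⁻¹ = x ^ i := by
      rw [hkdef, show n⁻¹ * c * z * (n⁻¹ * c)⁻¹ = n⁻¹ * (c * z * c⁻¹) * n by group, hi]; group
    obtain ⟨m, hm⟩ : ∃ m, (x ^ i) ^ m = x := by
      refine exists_pow_eq_self_of_coprime ?_
      rw [hs.x_order]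
      refine (Nat.prime_three.coprime_iff_not_dvd.2 fun hd => ?_).symm
      obtain ⟨l, rfl⟩ := hd
      rw [pow_mul, hs.xr h, one_pow, conj_eq_one_iff] at hkz
      exact hz1 hkz
    have hmap : (R : Subgroup G).map (MulAut.conj k).toMonoidHom ≤ Ct x := by
      rintro _ ⟨u, hu, rfl⟩
      refine mem_Ct.2 ?_
      have h1 : Commute (MulAut.conj k u) (x ^ i) := by
        rw [← hkz]
        exact (show Commute u z from hzc u hu).map (MulAut.conj k).toMonoidHom
      exact hm ▸ (h1.pow_right m).eq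
    have h2 := Subgroup.card_le_of_le hmap
    rw [Subgroup.card_map_of_injective (MulAut.conj k).injective, hcardR, hC18] at h2
    omega
  have hCz : Ct z = (R : Subgroup G) := by
    refine R.is_maximal' (fun g => ⟨1, Subtype.ext ?_⟩) hRz
    rw [pow_one, Subgroup.coe_pow, Subgroup.coe_one]
    refine h.spec.pow_of_comm_r hzo (mem_Ct.1 g.2) ?_
    rw [← Nat.not_even_iff_odd, even_iff_two_dvd]
    intro h2
    exact hCzodd _ (pow_mem g.2 _) (orderOf_pow_orderOf_div (orderOf_pos (g : G)).ne' h2)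
  -- commutators and transvections
  have hZR : Z ≤ (R : Subgroup G) := Subgroup.zpowers_le.2 hzR
  haveI hZn : (Z.subgroupOf (R : Subgroup G)).Normal := ⟨fun n hn g => by
    have hn' : (n : G) ∈ Z := hn
    obtain ⟨i, hi⟩ := Subgroup.mem_zpowers_iff.1 hn'
    show (g : G) * n * (g : G)⁻¹ ∈ Z
    rw [← hi, (Commute.zpow_right (show Commute (g : G) z from hzc g g.2) i).eq, mul_inv_cancel_right]
    exact Subgroup.zpow_mem_zpowers z i⟩
  have hquot : Nat.card ((R : Subgroup G) ⧸ Z.subgroupOf (R : Subgroup G)) = 3 ^ 2 := by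
    have h1 := Subgroup.card_mul_index (Z.subgroupOf (R : Subgroup G))
    rw [Nat.card_congr (Subgroup.subgroupOfEquivOfLe hZR).toEquiv, hcardR,
      show Nat.card Z = 3 from (Nat.card_zpowers z).trans hzo] at h1
    show (Z.subgroupOf (R : Subgroup G)).index = 3 ^ 2
    norm_num
    omega
  letI : CommGroup ((R : Subgroup G) ⧸ Z.subgroupOf (R : Subgroup G)) :=
    IsPGroup.commGroupOfCardEqPrimeSq hquot
  have hcomm : ∀ u ∈ (R : Subgroup G), ∀ g ∈ (R : Subgroup G), g * u * g⁻¹ * u⁻¹ ∈ Z := by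
    intro u hu g hg
    have : QuotientGroup.mk' (Z.subgroupOf (R : Subgroup G))
        (⟨g, hg⟩ * ⟨u, hu⟩ * ⟨g, hg⟩⁻¹ * ⟨u, hu⟩⁻¹ : (R : Subgroup G)) = 1 := by
      rw [map_mul, map_mul, map_mul, map_inv, map_inv,
        mul_comm (QuotientGroup.mk' (Z.subgroupOf (R : Subgroup G)) ⟨g, hg⟩), mul_inv_cancel_right,
        mul_inv_cancel]
    exact (QuotientGroup.eq_one_iff (N := Z.subgroupOf (R : Subgroup G)) _).1 this
  have hmove : ∀ u ∈ (R : Subgroup G), u ∉ Z → ∀ e ∈ Z,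
      ∃ g ∈ (R : Subgroup G), g * u * g⁻¹ = u * e := by
    intro u hu huZ e he
    obtain ⟨g, hg, hgu⟩ : ∃ g ∈ (R : Subgroup G), g * u ≠ u * g := by
      by_contra hcon
      push Not at hcon
      exact huZ (hcentral u hu hcon)
    set c := g * u * g⁻¹ * u⁻¹ with hc
    have hcZ : c ∈ Z := hcomm u hu g hg
    have hc1 : c ≠ 1 := fun e1 => hgu (mul_inv_eq_iff_eq_mul.1 (mul_inv_eq_one.1 e1))
    have hgen : Subgroup.zpowers c = Z := Subgroup.eq_of_le_of_card_ge (Subgroup.zpowers_le.2 hcZ) (by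
      rw [hZ, Nat.card_zpowers, Nat.card_zpowers, hzo, orderOf_eq_prime (hR3 c (hZR hcZ)) hc1])
    rw [← hgen] at he
    obtain ⟨m, hm⟩ := (IsOfFinOrder.mem_powers_iff_mem_zpowers (isOfFinOrder_of_finite c)).2 he
    refine ⟨g ^ m, pow_mem hg m, ?_⟩
    have hcc : ∀ v ∈ (R : Subgroup G), Commute v c := fun v hv => by
      obtain ⟨i, hi⟩ := Subgroup.mem_zpowers_iff.1 hcZ
      rw [← hi]
      exact Commute.zpow_right (hzc v hv) i
    have hgu' : g * u * g⁻¹ = u * c := by
      rw [(hcc u hu).eq, hc, inv_mul_cancel_right]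
    have key : ∀ m : ℕ, g ^ m * u * (g ^ m)⁻¹ = u * c ^ m := by
      intro m
      induction m with
      | zero => simp
      | succ m ih =>
        rw [pow_succ', show g * g ^ m * u * (g * g ^ m)⁻¹ = g * (g ^ m * u * (g ^ m)⁻¹) * g⁻¹ by group,
          ih, show g * (u * c ^ m) * g⁻¹ = g * u * g⁻¹ * (g * c ^ m * g⁻¹) by group, hgu',
          ((hcc g hg).pow_right m).eq, mul_inv_cancel_right, mul_assoc, ← pow_succ']
    rw [key]
    exact congrArg (u * ·) hm
  have hz2 : z ≠ z⁻¹ := fun e => by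
    have h2 : orderOf z ∣ 2 := orderOf_dvd_of_pow_eq_one (by
      rw [pow_two]; exact eq_inv_iff_mul_eq_one.1 e)
    rw [hzo] at h2
    norm_num at h2
  -- isolation
  have hiso : ∀ g : G, g * z * g⁻¹ ∈ (R : Subgroup G) → g ∈ Subgroup.normalizer (Z : Set G) := by
    intro g hg
    by_cases hgZ : g * z * g⁻¹ ∈ Z
    · refine Subgroup.mem_normalizer_fintype fun v hv => ?_
      obtain ⟨i, rfl⟩ := Subgroup.mem_zpowers_iff.1 hv
      rw [← conj_zpow]
      exact Z.zpow_mem hgZ i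
    exfalso
    set z' := g * z * g⁻¹ with hz'
    obtain ⟨r₁, hr₁, hr₁z⟩ := hmove z' hg hgZ z (Subgroup.mem_zpowers z)
    have hvR : g⁻¹ * z * g ∈ (R : Subgroup G) := hCz.le (mem_Ct.2 (by
      calc g⁻¹ * z * g * z = g⁻¹ * (z * z') * g := by rw [hz']; group
        _ = g⁻¹ * (z' * z) * g := by rw [hzc z' hg]
        _ = z * (g⁻¹ * z * g) := by rw [hz']; group))
    have hvZ : g⁻¹ * z * g ∉ Z := by
      intro hv
      have hv1 : g⁻¹ * z * g ≠ 1 := fun e => hz1 (by
        have := congrArg (fun u => g * u * g⁻¹) e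
        simpa [mul_assoc] using this)
      have e : Subgroup.zpowers (g⁻¹ * z * g) = Z := Subgroup.eq_of_le_of_card_ge
        (Subgroup.zpowers_le.2 hv) (by
          rw [hZ, Nat.card_zpowers, Nat.card_zpowers, hzo, orderOf_eq_prime (hR3 _ hvR) hv1])
      have hzmem : z ∈ Subgroup.zpowers (g⁻¹ * z * g) := by rw [e]; exact Subgroup.mem_zpowers z
      obtain ⟨i, hi⟩ := Subgroup.mem_zpowers_iff.1 hzmem
      refine hgZ (Subgroup.mem_zpowers_iff.2 ⟨i, ?_⟩)
      calc z ^ i = (g * (g⁻¹ * z * g) * g⁻¹) ^ i := by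
            rw [show g * (g⁻¹ * z * g) * g⁻¹ = z by group]
        _ = g * (g⁻¹ * z * g) ^ i * g⁻¹ := conj_zpow
        _ = z' := by rw [hi, hz']
    obtain ⟨q, hq, hqv⟩ := hmove _ hvR hvZ z (Subgroup.mem_zpowers z)
    set r₂ := g * q * g⁻¹ with hr₂
    have hr₁' : r₁ * z * r₁⁻¹ = z := by rw [hzc r₁ hr₁, mul_inv_cancel_right]
    have hr₂' : r₂⁻¹ * z' * r₂ = z' := by
      rw [hr₂, hz', show (g * q * g⁻¹)⁻¹ * (g * z * g⁻¹) * (g * q * g⁻¹) = g * (q⁻¹ * (z * q)) * g⁻¹ by group,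
        ← hzc q hq, inv_mul_cancel_left]
    have hr₂z : r₂⁻¹ * z * r₂ = z * z'⁻¹ := by
      have e1 : r₂ * z * r₂⁻¹ = z * z' := by
        rw [hr₂, show g * q * g⁻¹ * z * (g * q * g⁻¹)⁻¹ = g * (q * (g⁻¹ * z * g) * q⁻¹) * g⁻¹ by group,
          hqv, hz']
        group
      have e2 : z = (r₂⁻¹ * z * r₂) * z' := by
        conv_lhs => rw [show z = r₂⁻¹ * (r₂ * z * r₂⁻¹) * r₂ by group, e1]
        rw [show r₂⁻¹ * (z * z') * r₂ = r₂⁻¹ * z * r₂ * (r₂⁻¹ * z' * r₂) by group, hr₂']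
      exact eq_mul_inv_of_mul_eq e2.symm
    set g₀ := r₁ * r₂⁻¹ * r₁ with hg₀
    have hcz : Commute z z' := (hzc z' hg).symm
    have e1 : g₀ * z * g₀⁻¹ = z'⁻¹ := by
      rw [hg₀, show r₁ * r₂⁻¹ * r₁ * z * (r₁ * r₂⁻¹ * r₁)⁻¹ =
        r₁ * (r₂⁻¹ * (r₁ * z * r₁⁻¹) * r₂) * r₁⁻¹ by group, hr₁', hr₂z,
        show r₁ * (z * z'⁻¹) * r₁⁻¹ = r₁ * z * r₁⁻¹ * (r₁ * z' * r₁⁻¹)⁻¹ by group, hr₁', hr₁z,
        mul_inv_rev, ← mul_assoc, mul_inv_cancel, one_mul]
    have e2 : g₀ * z' * g₀⁻¹ = z := by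
      rw [hg₀, show r₁ * r₂⁻¹ * r₁ * z' * (r₁ * r₂⁻¹ * r₁)⁻¹ =
        r₁ * (r₂⁻¹ * (r₁ * z' * r₁⁻¹) * r₂) * r₁⁻¹ by group, hr₁z,
        show r₂⁻¹ * (z' * z) * r₂ = r₂⁻¹ * z' * r₂ * (r₂⁻¹ * z * r₂) by group, hr₂', hr₂z,
        show z' * (z * z'⁻¹) = z by rw [← mul_assoc, ← hcz.eq, mul_inv_cancel_right], hr₁']
    set d := g₀ * g₀ with hd
    have hd1 : d * z * d⁻¹ = z⁻¹ := by
      rw [hd, show g₀ * g₀ * z * (g₀ * g₀)⁻¹ = g₀ * (g₀ * z * g₀⁻¹) * g₀⁻¹ by group, e1, ← conj_inv, e2]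
    have hd2 : Commute (d * d) z := by
      refine mul_inv_eq_iff_eq_mul.1 ?_
      rw [show d * d * z * (d * d)⁻¹ = d * (d * z * d⁻¹) * d⁻¹ by group, hd1, ← conj_inv, hd1, inv_inv]
    obtain ⟨m, hm⟩ : ∃ m, d ^ (2 * m + 1) = 1 := by
      by_cases he : 2 ∣ orderOf g₀
      · refine ⟨1, ?_⟩
        have h6 : g₀ ^ (2 * 3) = 1 := by
          rcases h.spec.even g₀ he with e | e
          · rw [pow_mul, ← e, pow_orderOf_eq_one, one_pow]
          · rw [← e, pow_orderOf_eq_one]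
        rw [hd, ← pow_two, ← pow_mul]
        exact h6
      · obtain ⟨m, hm⟩ := Nat.odd_iff.2 (Nat.two_dvd_ne_zero.1 he)
        refine ⟨m, ?_⟩
        rw [hd, ← pow_two, ← pow_mul, mul_comm, pow_mul, ← hm, pow_orderOf_eq_one, one_pow]
    rw [pow_succ, pow_mul, pow_two] at hm
    refine hz2 ?_
    have hfix : (d * d) ^ m * d * z * ((d * d) ^ m * d)⁻¹ = z⁻¹ := by
      rw [show (d * d) ^ m * d * z * ((d * d) ^ m * d)⁻¹ =
        (d * d) ^ m * (d * z * d⁻¹) * ((d * d) ^ m)⁻¹ by group, hd1,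
        ((hd2.pow_left m).inv_right).eq, mul_inv_cancel_right]
    rw [hm, one_mul, inv_one, mul_one] at hfix
    exact hfix
  -- the transfer
  let π : (R : Subgroup G) →* (R : Subgroup G) ⧸ Z.subgroupOf (R : Subgroup G) := QuotientGroup.mk' _
  let α : (R : Subgroup G) →* (R : Subgroup G) :=
    { toFun := fun u => ⟨a * u * a, haR u u.2⟩
      map_one' := Subtype.ext (by simp [hs.a_sq h])
      map_mul' := fun u v => Subtype.ext (by
        show a * ((u : G) * v) * a = a * u * a * (a * v * a)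
        calc a * ((u : G) * v) * a = a * u * (a * a) * v * a := by rw [hs.a_sq h]; group
          _ = _ := by group) }
  let φ : (R : Subgroup G) →* (R : Subgroup G) ⧸ Z.subgroupOf (R : Subgroup G) := π * π.comp α
  have hφ : ∀ u, φ u = π u * π (α u) := fun u => rfl
  have hφα : ∀ u, φ (α u) = φ u := fun u => by
    rw [hφ, hφ, mul_comm, show α (α u) = u from Subtype.ext (by
      show a * (a * (u : G) * a) * a = u
      rw [show a * (a * (u : G) * a) * a = (a * a) * u * (a * a) by group, hs.a_sq h, one_mul, mul_one])]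
  have hin : ∀ m u : (R : Subgroup G), φ (m * u * m⁻¹) = φ u := fun m u => by
    rw [map_mul, map_mul, map_inv, mul_comm (φ m), mul_assoc, mul_inv_cancel, mul_one]
  have htriv := isolated_trivial h.nonsolv R hzR hzc hiso φ (fun n hn u hu hv => by
    have hnz : n * z * n⁻¹ ∈ Z := (Subgroup.mem_normalizer_iff.1 hn z).1 (Subgroup.mem_zpowers z)
    obtain ⟨i, hi⟩ := (IsOfFinOrder.mem_powers_iff_mem_zpowers (isOfFinOrder_of_finite z)).2 hnz
    have hi3 : z ^ i = z ^ (i % 3) := by rw [← hzo, pow_mod_orderOf]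
    have hlt : i % 3 < 3 := Nat.mod_lt _ (by norm_num)
    have hcases : n * z * n⁻¹ = z ∨ n * z * n⁻¹ = z⁻¹ := by
      rw [← hi]
      show z ^ i = z ∨ z ^ i = z⁻¹
      rw [hi3]
      interval_cases hi4 : i % 3
      · exfalso
        rw [pow_zero] at hi3
        refine hz1 (conj_eq_one_iff.1 (hi.symm.trans hi3))
      · exact Or.inl (pow_one z)
      · exact Or.inr (eq_inv_of_mul_eq_one_left (by
          rw [← pow_succ]
          exact (orderOf_dvd_iff_pow_eq_one.1 (by rw [hzo]) : z ^ 3 = 1)))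
    rcases hcases with e | e
    · have hnR : n ∈ (R : Subgroup G) := hCz.le (mem_Ct.2 (mul_inv_eq_iff_eq_mul.1 e))
      exact hin ⟨n, hnR⟩ ⟨u, hu⟩
    · have hanR : a * n ∈ (R : Subgroup G) := hCz.le (mem_Ct.2 (mul_inv_eq_iff_eq_mul.1 (by
        rw [show a * n * z * (a * n)⁻¹ = a * (n * z * n⁻¹) * a⁻¹ by group, e, hs.a_inv h,
          show a * z⁻¹ * a = (a⁻¹ * z * a⁻¹)⁻¹ by group, hs.a_inv h, haz, inv_inv])))
      have e2 : (⟨n * u * n⁻¹, hv⟩ : (R : Subgroup G)) =
          α (⟨a * n, hanR⟩ * ⟨u, hu⟩ * ⟨a * n, hanR⟩⁻¹) := Subtype.ext (by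
        show n * u * n⁻¹ = a * (a * n * u * (a * n)⁻¹) * a
        rw [show a * (a * n * u * (a * n)⁻¹) * a = (a * a) * n * u * n⁻¹ * (a⁻¹ * a) by group,
          hs.a_sq h, one_mul, inv_mul_cancel, mul_one])
      rw [e2, hφα, hin]) ⟨x, hxR⟩
  have hαx : α ⟨x, hxR⟩ = ⟨x, hxR⟩ := Subtype.ext (by
    show a * x * a = x
    rw [← hs.comm_xa h, mul_assoc, hs.a_sq h, mul_one])
  rw [hφ, hαx, ← map_mul] at htriv
  have hxx : x * x ∈ Z := (QuotientGroup.eq_one_iff (N := Z.subgroupOf (R : Subgroup G)) _).1 htriv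
  refine hxnc fun v hv => ?_
  obtain ⟨i, hi⟩ := Subgroup.mem_zpowers_iff.1 hxx
  have hc : Commute v (x * x) := hi ▸ Commute.zpow_right (hzc v hv) i
  have h4 : (x * x) * (x * x) = x := by
    calc (x * x) * (x * x) = x ^ 3 * x := by rw [pow_three]; group
      _ = x := by rw [hs.xr h, one_mul]
  exact h4 ▸ (hc.mul_right hc).eq

/-- The third case is impossible. -/
theorem caseIII : False := by
  rcases hs.card_O h with hO | ⟨hr, hO⟩
  · exact hs.small_end h hO
  · exact hs.nine_end h hr hO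

end ShapeThree

end Cfsg.Agent.ThreeOrd
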