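import Cfsg.Agent.Lib.ThreeOrd.Norm
import Cfsg.Agent.Lib.ThreeOrd.Basic
import Cfsg.Agent.Lib.CITStruct.Socle
import Cfsg.Agent.Lib.CN.Quotient
import Cfsg.Agent.Lib.Char.Burnside
import Mathlib.GroupTheory.Transfer

/-!
# Non-solvable groups of the second kind have a simple socle

There is no non-trivial normal `p`-subgroup.
-/

set_option autoImplicit false
set_option linter.style.haveILetI false
set_option linter.unusedSectionVars false

namespace Cfsg.Agent.ThreeOrd

open Cfsg.Agent.CNSimple Cfsg.Agent.Invol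

universe u

variable {G : Type u} [Group G] [Finite G]

theorem exists_center_part {N : Subgroup G} [N.Normal] {p : ℕ} [Fact p.Prime] (hN : IsPGroup p N)
    (hN1 : N ≠ ⊥) : ∃ Z : Subgroup G, Z.Normal ∧ Z ≠ ⊥ ∧ IsPGroup p Z ∧
      ∀ a ∈ Z, ∀ b ∈ Z, a * b = b * a := by
  refine ⟨N ⊓ Subgroup.centralizer (N : Set G), inferInstance, CN.exists_center_inf hN hN1,
    hN.to_le inf_le_left, fun a ha b hb => ?_⟩
  exact Subgroup.mem_centralizer_iff.1 hb.2 a ha.1

namespace Spec

variable {r : ℕ} (S : Spec G r)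
include S

/-- A group of exponent dividing `2 * r` is soluble. -/
theorem solvable_of_pow (K : Subgroup G) (hK : ∀ x ∈ K, x ^ (2 * r) = 1) : Group.IsSolvable K := by
  haveI := Fact.mk S.prime
  refine Char.isSolvable_of_card_pq 2 r Nat.prime_two S.prime _ K rfl
    ⟨(Nat.card K).factorization 2, (Nat.card K).factorization r, ?_⟩
  have hK0 : Nat.card K ≠ 0 := Nat.card_pos.ne'
  refine Nat.eq_of_factorization_eq hK0
    (mul_ne_zero (pow_ne_zero _ two_ne_zero) (pow_ne_zero _ S.prime.ne_zero)) fun p => ?_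
  rw [Nat.factorization_mul (pow_ne_zero _ two_ne_zero) (pow_ne_zero _ S.prime.ne_zero),
    Nat.Prime.factorization_pow Nat.prime_two, Nat.Prime.factorization_pow S.prime, Finsupp.add_apply]
  by_cases hp : p ∣ Nat.card K ∧ p.Prime
  · haveI := Fact.mk hp.2
    obtain ⟨x, hx⟩ := exists_prime_orderOf_dvd_card' p hp.1
    have hd : p ∣ 2 * r := by
      rw [← hx, ← Subgroup.orderOf_coe]
      exact orderOf_dvd_of_pow_eq_one (hK _ x.2)
    rcases hp.2.dvd_mul.1 hd with e | e
    · rw [(Nat.prime_dvd_prime_iff_eq hp.2 Nat.prime_two).1 e]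
      simp [Finsupp.single_apply, S.ne_two, S.ne_two.symm]
    · rw [(Nat.prime_dvd_prime_iff_eq hp.2 S.prime).1 e]
      simp [Finsupp.single_apply, S.ne_two, S.ne_two.symm]
  · have h0 : (Nat.card K).factorization p = 0 := by
      rw [not_and_or] at hp
      rcases hp with hp | hp
      · exact Nat.factorization_eq_zero_of_not_dvd hp
      · exact Nat.factorization_eq_zero_of_not_prime _ hp
    rw [h0]
    have h2 : p ≠ 2 ∨ (Nat.card K).factorization 2 = 0 := by
      by_cases e : p = 2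
      · subst e; exact Or.inr h0
      · exact Or.inl e
    have h3 : p ≠ r ∨ (Nat.card K).factorization r = 0 := by
      by_cases e : p = r
      · subst e; exact Or.inr h0
      · exact Or.inl e
    rcases h2 with e | e <;> rcases h3 with e' | e' <;>
      simp [Finsupp.single_apply, e, e', Ne.symm]

/-- The centraliser of an involution is soluble. -/
theorem solvable_centralizer {t : G} (ht : orderOf t = 2) :
    Group.IsSolvable (Subgroup.centralizer ({t} : Set G)) := by
  refine S.solvable_of_pow _ fun x hx => ?_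
  have hc : Commute x t := Subgroup.mem_centralizer_singleton_iff.1 hx
  by_cases he : 2 ∣ orderOf x
  · rcases S.even x he with e | e
    · rw [pow_mul, ← e, pow_orderOf_eq_one, one_pow]
    · rw [← e, pow_orderOf_eq_one]
  · by_cases hx1 : x = 1
    · rw [hx1, one_pow]
    rw [mul_comm, pow_mul, ← S.order_of_comm_invol ht hc (Nat.odd_iff.2 (Nat.two_dvd_ne_zero.1 he)) hx1,
      pow_orderOf_eq_one, one_pow]

/-- Sylow `2`-subgroups are elementary abelian. -/
theorem sq_of_pgroup {P : Subgroup G} (hP : IsPGroup 2 P) {x : G} (hx : x ∈ P) : x * x = 1 := by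
  obtain ⟨k, hk⟩ := hP ⟨x, hx⟩
  exact S.sq_eq_one (congrArg Subtype.val hk)

theorem comm_of_pgroup {P : Subgroup G} (hP : IsPGroup 2 P) {x y : G} (hx : x ∈ P) (hy : y ∈ P) :
    x * y = y * x := by
  have h1 := S.sq_of_pgroup hP (P.mul_mem hx hy)
  calc x * y = x * (x * y * (x * y)) * y := by rw [h1, mul_one]
    _ = x * x * (y * x) * (y * y) := by group
    _ = y * x := by rw [S.sq_of_pgroup hP hx, S.sq_of_pgroup hP hy, one_mul, mul_one]

/-- Normal subgroups of odd order prime to `r` are trivial. -/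
theorem odd_normal (hns : ¬ Group.IsSolvable G) {N : Subgroup G} [N.Normal] {p : ℕ} (hp : p.Prime)
    (hp2 : p ≠ 2) (hpr : p ≠ r) (hN : IsPGroup p N) : N = ⊥ := by
  by_contra hN1
  haveI := Fact.mk hp
  have hNodd : Odd (Nat.card N) := by
    obtain ⟨n, hn⟩ := IsPGroup.iff_card.1 hN
    exact hn ▸ (hp.odd_of_ne_two hp2).pow
  have hinv : ∀ a : G, orderOf a = 2 → ∀ x ∈ N, a * x * a⁻¹ = x⁻¹ := by
    intro a ha x hx
    let φ : N →* N := (MulAut.conjNormal (H := N) a).toMonoidHom
    have hφ : ∀ y : N, ((φ y : N) : G) = a * y * a⁻¹ := fun y => MulAut.conjNormal_apply a y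
    have hfp : MonoidHom.FixedPointFree φ := fun y hy => by
      have e : a * (y : G) * a⁻¹ = y := (hφ y).symm.trans (congrArg Subtype.val hy)
      by_contra hy1
      have ho := S.order_of_comm_invol ha (mul_inv_eq_iff_eq_mul.1 e).symm
        (hNodd.of_dvd_nat (Subgroup.orderOf_dvd_natCard N y.2)) fun e1 => hy1 (Subtype.ext e1)
      obtain ⟨k, hk⟩ := IsPGroup.iff_orderOf.1 hN y
      rw [Subgroup.orderOf_coe] at ho
      exact hpr ((Nat.prime_dvd_prime_iff_eq S.prime hp).1
        (S.prime.dvd_of_dvd_pow (show r ∣ p ^ k by rw [← hk, ho]))).symm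
    have hii : Function.Involutive φ := fun y => Subtype.ext (by
      rw [hφ, hφ, show a * (a * (y : G) * a⁻¹) * a⁻¹ = (a * a) * y * (a * a)⁻¹ by group, mul_self ha,
        one_mul, inv_one, mul_one])
    exact (hφ ⟨x, hx⟩).symm.trans
      (congrArg Subtype.val (congrFun (hfp.coe_eq_inv_of_involutive hii) ⟨x, hx⟩))
  obtain ⟨⟨x₀, hx₀⟩, hx₀1⟩ := Subgroup.ne_bot_iff_exists_ne_one.1 hN1
  set D : Subgroup G := Subgroup.centralizer (N : Set G) with hD
  have hDodd : Odd (Nat.card D) := by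
    rw [← Nat.not_even_iff_odd]
    intro he
    obtain ⟨z, hzD, hz⟩ := exists_invol he
    have e := hinv z hz x₀ hx₀
    rw [← Subgroup.mem_centralizer_iff.1 hzD x₀ hx₀, mul_inv_cancel_right] at e
    refine hx₀1 (Subtype.ext (orderOf_eq_one_iff.1 (Nat.eq_one_of_dvd_coprimes
      (Nat.coprime_two_left.2 (hNodd.of_dvd_nat (Subgroup.orderOf_dvd_natCard N hx₀))) ?_ dvd_rfl)))
    refine orderOf_dvd_of_pow_eq_one ?_
    rw [pow_two]
    exact mul_eq_one_iff_eq_inv.2 e
  by_cases hev : Even (Nat.card G)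
  swap
  · exact hns (OddChar.oddSolvable G (Nat.not_even_iff_odd.1 hev))
  obtain ⟨t, -, ht⟩ := exists_invol (K := (⊤ : Subgroup G)) (by rwa [Subgroup.card_top])
  have hcov : ∀ g : G, ∃ d ∈ D, d * g ∈ Ct t := by
    intro g
    set s := g * t * g⁻¹ with hs
    have hso : orderOf s = 2 := (order_conj g t).trans ht
    have hw : t * s ∈ D := by
      refine Subgroup.mem_centralizer_iff.2 fun x hx => ?_
      have e : t * s * x * (t * s)⁻¹ = x := by
        rw [show t * s * x * (t * s)⁻¹ = t * (s * x * s⁻¹) * t⁻¹ by group, hinv s hso x hx,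
          hinv t ht _ (inv_mem hx), inv_inv]
      exact (mul_inv_eq_iff_eq_mul.1 e).symm
    obtain ⟨k, hk⟩ := hDodd.of_dvd_nat (Subgroup.orderOf_dvd_natCard D hw)
    set w := t * s with hwdef
    set d := w ^ (k + 1) with hd
    have hdd : d * d = w := by
      rw [hd, ← pow_add, show k + 1 + (k + 1) = orderOf w + 1 by omega, pow_succ, pow_orderOf_eq_one,
        one_mul]
    have hst : s = t * w := by rw [hwdef, ← mul_assoc, mul_self ht, one_mul]
    have hwt : t * w * t⁻¹ = w⁻¹ := conj_mul ht hso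
    have hdt : t * d * t⁻¹ = d⁻¹ := Invol.conj_pow hwt _
    refine ⟨d, pow_mem hw _, mem_Ct.2 ?_⟩
    have e : d⁻¹ * t * d = s := by
      rw [← hdt, hst, ← hdd, show t * d * t⁻¹ * t * d = t * (d * d) by group]
    rw [hs] at e
    calc d * g * t = d * (g * t * g⁻¹) * g := by group
      _ = t * (d * g) := by rw [← e]; group
  let f : Ct t →* G ⧸ D := (QuotientGroup.mk' D).comp (Ct t).subtype
  have hf : Function.Surjective f := fun q => by
    obtain ⟨g, rfl⟩ := QuotientGroup.mk_surjective q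
    obtain ⟨d, hd, hdg⟩ := hcov g
    refine ⟨⟨d * g, hdg⟩, ?_⟩
    show ((d * g : G) : G ⧸ D) = g
    rw [QuotientGroup.mk_mul, (QuotientGroup.eq_one_iff d).2 hd, one_mul]
  haveI : Group.IsSolvable (Ct t) := S.solvable_centralizer ht
  haveI : Group.IsSolvable (G ⧸ D) := Group.isSolvable_of_surjective hf
  haveI : Group.IsSolvable D := OddChar.oddSolvable D hDodd
  exact hns ((Group.isSolvable_iff_subgroup_quotient D).2 ⟨inferInstance, inferInstance⟩)

/-- Normal `2`-subgroups are trivial. -/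
theorem two_normal (hns : ¬ Group.IsSolvable G) {N : Subgroup G} [N.Normal] (hN : IsPGroup 2 N) :
    N = ⊥ := by
  by_contra hN1
  haveI : Fact (Nat.Prime 2) := ⟨Nat.prime_two⟩
  obtain ⟨z, hzN, hz⟩ : ∃ z ∈ N, orderOf z = 2 := by
    obtain ⟨⟨x, hx⟩, hx1⟩ := Subgroup.ne_bot_iff_exists_ne_one.1 hN1
    exact ⟨x, hx, order_two_of_sq (S.sq_of_pgroup hN hx) fun e => hx1 (Subtype.ext e)⟩
  set C := Subgroup.centralizer (N : Set G) with hC
  haveI : Group.IsSolvable C := by
    haveI := S.solvable_centralizer hz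
    exact Group.isSolvable_of_isSolvable_injective
      (f := Subgroup.inclusion (Subgroup.centralizer_le (Set.singleton_subset_iff.2 hzN) :
        C ≤ Subgroup.centralizer ({z} : Set G))) (Subgroup.inclusion_injective _)
  obtain ⟨P⟩ : Nonempty (Sylow 2 G) := inferInstance
  have hPC : (P : Subgroup G) ≤ C := fun x hx => Subgroup.mem_centralizer_iff.2 fun y hy =>
    S.comm_of_pgroup P.isPGroup' (IsPGroup.le_sylow_of_normal hN P hy) hx
  have hodd : Odd (Nat.card (G ⧸ C)) := by
    rw [← Nat.not_even_iff_odd, even_iff_two_dvd]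
    exact fun h2 => P.not_dvd_index (h2.trans (Subgroup.index_dvd_of_le hPC))
  haveI := OddChar.oddSolvable (G ⧸ C) hodd
  exact hns ((Group.isSolvable_iff_subgroup_quotient C).2 ⟨inferInstance, inferInstance⟩)

omit S in
/-- A Sylow `2`-subgroup which is abelian and central in its normaliser forces solubility. -/
theorem solvable_of_central (P : Sylow 2 G)
    (hP : Subgroup.normalizer ((P : Subgroup G) : Set G) ≤ Subgroup.centralizer ((P : Subgroup G) : Set G)) :
    Group.IsSolvable G := by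
  haveI : Fact (Nat.Prime 2) := ⟨Nat.prime_two⟩
  have hc := MonoidHom.ker_transferSylow_isComplement' P hP
  set K := (MonoidHom.transferSylow P hP).ker
  have hodd : Odd (Nat.card K) := by
    rw [← Nat.not_even_iff_odd, even_iff_two_dvd]
    intro h2
    rw [← hc.index_eq_card] at h2
    exact P.not_dvd_index h2
  haveI : Group.IsSolvable K := OddChar.oddSolvable K hodd
  haveI : Group.IsNilpotent (P : Subgroup G) := P.isPGroup'.isNilpotent
  haveI : Group.IsSolvable (G ⧸ K) := by
    refine Group.isSolvable_of_surjective (f := (QuotientGroup.mk' K).comp (P : Subgroup G).subtype) ?_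
    intro q
    obtain ⟨g, rfl⟩ := QuotientGroup.mk_surjective q
    obtain ⟨⟨k, x⟩, hkx, -⟩ := hc.existsUnique g
    refine ⟨x, ?_⟩
    show ((x : G) : G ⧸ K) = g
    rw [← hkx, QuotientGroup.mk_mul, (QuotientGroup.eq_one_iff _).2 k.2, one_mul]
  exact (Group.isSolvable_iff_subgroup_quotient K).2 ⟨inferInstance, inferInstance⟩

/-- Normal `r`-subgroups are trivial. -/
theorem r_normal (hns : ¬ Group.IsSolvable G) {N₀ : Subgroup G} [N₀.Normal] (hN₀ : IsPGroup r N₀) :
    N₀ = ⊥ := by
  by_contra hN₀1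
  classical
  haveI := Fact.mk S.prime
  haveI : Fact (Nat.Prime 2) := ⟨Nat.prime_two⟩
  obtain ⟨N, hNn, hN1, hN, hNc⟩ := exists_center_part hN₀ hN₀1
  haveI := hNn
  have hNr : ∀ v ∈ N, v ≠ 1 → orderOf v = r := by
    intro v hv hv1
    obtain ⟨k, hk⟩ := IsPGroup.iff_orderOf.1 hN ⟨v, hv⟩
    rw [Subgroup.orderOf_mk] at hk
    rcases Nat.eq_zero_or_pos k with rfl | hk0
    · exact absurd (orderOf_eq_one_iff.1 (by rw [hk, pow_zero])) hv1
    rcases S.rdiv v (hk ▸ dvd_pow_self r hk0.ne') with e | e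
    · exact e
    · exact absurd ((Nat.prime_dvd_prime_iff_eq Nat.prime_two S.prime).1
        (Nat.prime_two.dvd_of_dvd_pow (show 2 ∣ r ^ k by rw [← hk, e]; exact dvd_mul_right 2 r))).symm
        S.ne_two
  obtain ⟨⟨v₀, hv₀⟩, hv₀1'⟩ := Subgroup.ne_bot_iff_exists_ne_one.1 hN1
  have hv₀1 : v₀ ≠ 1 := fun e => hv₀1' (Subtype.ext e)
  have hv₀r := hNr v₀ hv₀ hv₀1
  set C := Subgroup.centralizer (N : Set G) with hC
  haveI : Group.IsSolvable C := S.solvable_of_pow C fun x hx =>
    S.pow_two_r_of_comm_r hv₀r (Subgroup.mem_centralizer_iff.1 hx v₀ hv₀).symm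
  set Q := G ⧸ C
  have hnsQ : ¬ Group.IsSolvable Q := fun h =>
    hns ((Group.isSolvable_iff_subgroup_quotient C).2 ⟨inferInstance, h⟩)
  have SQ : Spec Q r := S.quotient C
  obtain ⟨P⟩ : Nonempty (Sylow 2 Q) := inferInstance
  set SP : Subgroup Q := (P : Subgroup Q) with hSP
  set NP : Subgroup Q := Subgroup.normalizer (SP : Set Q) with hNP
  obtain ⟨g, hgN, hgC⟩ := SetLike.not_le_iff_exists.1 fun hle => hnsQ (Spec.solvable_of_central P hle)
  -- an element of odd prime order in the normaliser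
  obtain ⟨x, p, hp, hp2, hxo, hxN, hxC⟩ : ∃ (x : Q) (p : ℕ), p.Prime ∧ p ≠ 2 ∧ orderOf x = p ∧
      x ∈ NP ∧ x ∉ Subgroup.centralizer (SP : Set Q) := by
    let M : Subgroup NP := (Subgroup.centralizer (SP : Set Q)).subgroupOf NP
    have hM1 : M ≠ ⊤ := fun e => hgC (show (⟨g, hgN⟩ : NP) ∈ M from e ▸ Subgroup.mem_top _)
    obtain ⟨p, hp, hpd⟩ := Nat.exists_prime_and_dvd (n := M.index) fun e => hM1 (Subgroup.index_eq_one.1 e)
    haveI := Fact.mk hp
    haveI : M.Normal := Subgroup.normal_subgroupOf_centralizer_normalizer _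
    obtain ⟨q, hq⟩ := exists_prime_orderOf_dvd_card' (G := NP ⧸ M) p hpd
    obtain ⟨y, rfl⟩ := QuotientGroup.mk_surjective q
    -- the `p`-part
    obtain ⟨j, l, hl, e⟩ : ∃ j l, ¬ p ∣ l ∧ orderOf y = p ^ j * l :=
      ⟨_, _, Nat.not_dvd_ordCompl hp (orderOf_pos y).ne', (Nat.ordProj_mul_ordCompl_eq_self _ p).symm⟩
    have hnot : ∀ i, ¬ p ∣ i → y ^ i ∉ M := fun i hi h => hi (by
      rw [← hq]
      exact orderOf_dvd_of_pow_eq_one ((QuotientGroup.eq_one_iff _).2 h))
    set x : NP := y ^ l with hxdef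
    have hxM : x ∉ M := hnot l hl
    have hxp : x ^ p ^ j = 1 := by rw [hxdef, ← pow_mul, mul_comm, ← e, pow_orderOf_eq_one]
    have hxpM : x ^ p ∈ M := by
      refine (QuotientGroup.eq_one_iff _).1 ?_
      rw [hxdef, ← pow_mul, QuotientGroup.mk_pow]
      exact orderOf_dvd_iff_pow_eq_one.1 (hq ▸ dvd_mul_left p l)
    have hp2 : p ≠ 2 := by
      rintro rfl
      refine hxM ?_
      show (x : Q) ∈ Subgroup.centralizer (SP : Set Q)
      have hxS : (x : Q) ∈ SP := by
        have hz : IsPGroup 2 (Subgroup.zpowers (x : Q)) := by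
          refine IsPGroup.of_card_dvd_pow (n := j) ?_
          rw [Nat.card_zpowers, Subgroup.orderOf_coe]
          exact orderOf_dvd_of_pow_eq_one hxp
        have hle := (IsPGroup.to_sup_of_normal_right' hz P.isPGroup'
          ((Subgroup.zpowers_le.2 x.2)))
        exact (P.is_maximal' hle le_sup_right).le (Subgroup.mem_sup_left (Subgroup.mem_zpowers _))
      exact Subgroup.mem_centralizer_iff.2 fun s hs => SQ.comm_of_pgroup P.isPGroup' hs hxS
    refine ⟨x, p, hp, hp2, ?_, x.2, fun h => hxM h⟩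
    rw [Subgroup.orderOf_coe]
    obtain ⟨k, -, hk⟩ := (Nat.dvd_prime_pow hp).1 (orderOf_dvd_of_pow_eq_one hxp)
    rcases Nat.lt_or_ge k 2 with hk2 | hk2
    · interval_cases k
      · exact absurd (orderOf_eq_one_iff.1 (by rw [hk, pow_zero]) ▸ M.one_mem) hxM
      · rw [hk, pow_one]
    exfalso
    set w : NP := x ^ p ^ (k - 1) with hw
    have hwo : orderOf w = p := by
      have h1 : orderOf x / p ^ (k - 1) = p := by
        rw [hk, Nat.pow_div (by omega) hp.pos, show k - (k - 1) = 1 by omega, pow_one]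
      rw [hw, orderOf_pow' x (pow_ne_zero _ hp.ne_zero),
        Nat.gcd_eq_right (hk ▸ pow_dvd_pow p (by omega)), h1]
    have hwM : w ∈ M := by
      rw [hw, show k - 1 = 1 + (k - 2) by omega, pow_add, pow_one, pow_mul]
      exact M.pow_mem hxpM _
    obtain ⟨s, hsS, hs⟩ := exists_invol (K := SP) (by
      rw [even_iff_two_dvd]
      by_contra h2
      obtain ⟨n, hn⟩ := IsPGroup.iff_card.1 P.isPGroup'
      rcases Nat.eq_zero_or_pos n with rfl | hn0
      · have hbot : SP = ⊥ := Subgroup.card_eq_one.1 hn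
        refine hgC (Subgroup.mem_centralizer_iff.2 fun s hs => ?_)
        rw [Subgroup.mem_bot.1 (hbot ▸ hs : s ∈ (⊥ : Subgroup Q)), one_mul, mul_one]
      · exact h2 (hn ▸ dvd_pow_self 2 hn0.ne'))
    have hor : orderOf ((w : NP) : Q) = r := SQ.order_of_comm_invol hs
      (Subgroup.mem_centralizer_iff.1 (hwM : ((w : NP) : Q) ∈ Subgroup.centralizer (SP : Set Q)) s hsS).symm
      (by rw [Subgroup.orderOf_coe, hwo]; exact hp.odd_of_ne_two hp2)
      (fun e1 => hp.ne_one (by rw [← hwo, ← Subgroup.orderOf_coe, e1, orderOf_one]))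
    rw [Subgroup.orderOf_coe, hwo] at hor
    subst hor
    rcases SQ.rdiv ((x : NP) : Q) (by rw [Subgroup.orderOf_coe, hk]; exact dvd_pow_self p (by omega))
      with e1 | e1 <;> rw [Subgroup.orderOf_coe, hk] at e1
    · exact (Nat.pow_right_injective hp.two_le (e1.trans (pow_one p).symm) |> fun h => by omega)
    · exact hp2 ((Nat.prime_dvd_prime_iff_eq Nat.prime_two hp).1
        (Nat.prime_two.dvd_of_dvd_pow (e1 ▸ dvd_mul_right 2 p))).symm
  -- the part of the Sylow subgroup where it acts without fixed points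
  have hcomm : ∀ a b : SP, a * b = b * a := fun a b =>
    Subtype.ext (SQ.comm_of_pgroup P.isPGroup' a.2 b.2)
  letI : CommGroup SP := { (inferInstance : Group SP) with mul_comm := hcomm }
  let φ : MulAut SP := (Subgroup.normalizerMonoidHom SP) ⟨x, hxN⟩
  have hφ : ∀ (i : ℕ) (s : SP), (((φ ^ i) s : SP) : Q) = x ^ i * s * (x ^ i)⁻¹ := fun i s => by
    show ((((Subgroup.normalizerMonoidHom SP) ⟨x, hxN⟩ ^ i) s : SP) : Q) = _
    rw [← map_pow]
    rfl
  let Nm : SP →* SP :=
    { toFun := fun s => ∏ i ∈ Finset.range p, (φ ^ i) s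
      map_one' := by simp
      map_mul' := fun a b => by simp only [map_mul, Finset.prod_mul_distrib] }
  set T : Subgroup Q := Nm.ker.map SP.subtype with hT
  have hφp : φ ^ p = 1 := by
    refine MulEquiv.ext fun s => Subtype.ext ?_
    rw [hφ, ← hxo, pow_orderOf_eq_one]
    simp
  have hNmφ : ∀ s, Nm (φ s) = Nm s := fun s => by
    show ∏ i ∈ Finset.range p, (φ ^ i) (φ s) = ∏ i ∈ Finset.range p, (φ ^ i) s
    simp only [← MulAut.mul_apply, ← pow_succ]
    have h1 := Finset.prod_range_succ' (fun i => (φ ^ i) s) p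
    rw [Finset.prod_range_succ, pow_zero, hφp] at h1
    exact mul_right_cancel h1.symm
  have hxT : ∀ a ∈ T, x * a * x⁻¹ ∈ T := by
    rintro _ ⟨s, hs, rfl⟩
    refine ⟨φ s, (hNmφ s).trans hs, ?_⟩
    simpa using hφ 1 s
  have hfree : FpfPow T x p := by
    rintro i hi hip _ ⟨s, hs, rfl⟩ hc
    have hcx : Commute ((s : SP) : Q) x := by
      obtain ⟨j, hj⟩ := exists_pow_eq_self_of_coprime (x := x) (n := i) (by
        rw [hxo]
        exact (Nat.coprime_of_lt_prime hi.ne' hip hp).symm)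
      rw [← hj]
      exact hc.pow_right j
    have h1 : Nm s = s ^ p := by
      show ∏ i ∈ Finset.range p, (φ ^ i) s = s ^ p
      rw [Finset.prod_eq_pow_card (b := s) fun j _ => Subtype.ext ?_, Finset.card_range]
      rw [hφ, (hcx.pow_right j).symm.eq, mul_inv_cancel_right]
    rw [MonoidHom.mem_ker.1 hs] at h1
    have h2 : s * s = 1 := Subtype.ext (SQ.sq_of_pgroup P.isPGroup' s.2)
    obtain ⟨k, hk⟩ := hp.odd_of_ne_two hp2
    rw [hk, pow_succ, pow_mul, pow_two, h2, one_pow, one_mul] at h1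
    rw [← h1]; simp
  -- the action on `N`
  letI : CommGroup N := { (inferInstance : Group N) with
    mul_comm := fun a b => Subtype.ext (hNc a a.2 b b.2) }
  let act : G →* MulAut N := MulAut.conjNormal
  have hker : ∀ g : G, act g = 1 ↔ g ∈ C := by
    intro g
    constructor
    · intro h
      refine Subgroup.mem_centralizer_iff.2 fun v hv => ?_
      have h' := congrArg Subtype.val (congrArg (fun f : MulAut N => f ⟨v, hv⟩) h)
      rw [MulAut.conjNormal_apply, MulAut.one_apply] at h'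
      exact (mul_inv_eq_iff_eq_mul.1 h').symm
    · intro h
      refine MulEquiv.ext fun v => Subtype.ext ?_
      rw [MulAut.conjNormal_apply, MulAut.one_apply]
      rw [← Subgroup.mem_centralizer_iff.1 h v v.2, mul_inv_cancel_right]
  let ρ : Q →* MulAut N := QuotientGroup.lift C act fun g hg => (hker g).2 hg
  have hρ : ∀ (g : G) (v : N), ((ρ (QuotientGroup.mk g) v : N) : G) = g * v * g⁻¹ := fun g v =>
    MulAut.conjNormal_apply g v
  have hρinj : ∀ q : Q, ρ q = 1 → q = 1 := fun q hq => by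
    obtain ⟨g, rfl⟩ := QuotientGroup.mk_surjective q
    exact (QuotientGroup.eq_one_iff g).2 ((hker g).1 hq)
  have hvr : ∀ v : N, v ^ r = 1 := fun v => Subtype.ext (by
    rw [Subgroup.coe_pow, OneMemClass.coe_one]
    by_cases hv1 : (v : G) = 1
    · rw [hv1, one_pow]
    · rw [← hNr v v.2 hv1, pow_orderOf_eq_one])
  have hTne : ∃ a ∈ T, ∃ v, ρ a v ≠ v := by
    obtain ⟨s, hs, hsx⟩ : ∃ s ∈ SP, s * x ≠ x * s := by
      by_contra hcon
      push Not at hcon
      exact hxC (Subgroup.mem_centralizer_iff.2 hcon)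
    set s' : SP := ⟨s, hs⟩ with hs'
    have hsT : Nm (s' * φ s') = 1 := by
      rw [map_mul, hNmφ]
      exact Subtype.ext (SQ.sq_of_pgroup P.isPGroup' (Nm s').2)
    have hne : ((s' * φ s' : SP) : Q) ≠ 1 := fun e => hsx (by
      have e' : s * (x * s * x⁻¹) = 1 := by
        rw [← e, Subgroup.coe_mul, ← pow_one φ, hφ, pow_one]
      have : x * s * x⁻¹ = s := by
        rw [← inv_eq_of_mul_eq_one_right e', inv_eq_of_mul_eq_one_right (SQ.sq_of_pgroup P.isPGroup' hs)]
      exact (mul_inv_eq_iff_eq_mul.1 this).symm)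
    refine ⟨_, ⟨_, hsT, rfl⟩, ?_⟩
    by_contra hcon
    push Not at hcon
    exact hne (hρinj _ (MulEquiv.ext hcon))
  have hco : ∀ v : N, v ^ Nat.card T = 1 → v = 1 := fun v hv => by
    obtain ⟨n, hn⟩ := IsPGroup.iff_card.1 (P.isPGroup'.to_le (Subgroup.map_subtype_le Nm.ker))
    refine orderOf_eq_one_iff.1 (Nat.eq_one_of_dvd_coprimes
      (((Nat.coprime_primes Nat.prime_two S.prime).2 S.ne_two.symm).pow_left n)
      (hn ▸ orderOf_dvd_of_pow_eq_one hv) (orderOf_dvd_of_pow_eq_one (hvr v)))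
  obtain ⟨q, -, v, hv⟩ := exists_norm_ne ρ T hxT hp.pos hfree hco hTne
  -- a lift
  have hyo : orderOf (q * x * q⁻¹) = p := by rw [order_conj, hxo]
  obtain ⟨g₀, hg₀⟩ := QuotientGroup.mk_surjective (q * x * q⁻¹)
  obtain ⟨z, hz, hzp⟩ : ∃ z : G, (z : Q) = q * x * q⁻¹ ∧ z ^ p = 1 := by
    haveI := Fact.mk hp
    obtain ⟨j, l, hl, e⟩ : ∃ j l, ¬ p ∣ l ∧ orderOf g₀ = p ^ j * l :=
      ⟨_, _, Nat.not_dvd_ordCompl hp (orderOf_pos g₀).ne', (Nat.ordProj_mul_ordCompl_eq_self _ p).symm⟩
    obtain ⟨m, hm⟩ : ∃ m, (q * x * q⁻¹) ^ (l * m) = q * x * q⁻¹ := by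
      obtain ⟨m, hm⟩ := exists_pow_eq_self_of_coprime (x := q * x * q⁻¹) (n := l) (by
        rw [hyo]; exact ((hp.coprime_iff_not_dvd).2 hl).symm)
      exact ⟨m, by rw [pow_mul]; exact hm⟩
    refine ⟨g₀ ^ (l * m), by rw [QuotientGroup.mk_pow, hg₀, hm], ?_⟩
    set z := g₀ ^ (l * m) with hzdef
    have hzj : z ^ p ^ j = 1 := by
      rw [hzdef, ← pow_mul, show l * m * p ^ j = p ^ j * l * m by ring, pow_mul, ← e,
        pow_orderOf_eq_one, one_pow]
    have hzo : orderOf z ∣ p ^ j := orderOf_dvd_of_pow_eq_one hzj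
    have hzodd : Odd (orderOf z) := (hp.odd_of_ne_two hp2).pow.of_dvd_nat hzo
    by_cases hpr : p = r
    · subst hpr
      by_cases h1 : z = 1
      · rw [h1, one_pow]
      obtain ⟨k, -, hk⟩ := (Nat.dvd_prime_pow hp).1 hzo
      have hk0 : k ≠ 0 := fun e0 => h1 (orderOf_eq_one_iff.1 (by rw [hk, e0, pow_zero]))
      rcases S.rdiv z (hk ▸ dvd_pow_self p hk0) with e1 | e1
      · rw [← e1, pow_orderOf_eq_one]
      · rw [e1] at hzodd
        exact absurd hzodd (Nat.not_odd_iff_even.2 (even_two_mul p))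
    · have hzC : z ^ p ∈ C := by
        refine (QuotientGroup.eq_one_iff _).1 ?_
        rw [QuotientGroup.mk_pow, hzdef, QuotientGroup.mk_pow, hg₀, hm]
        exact hyo ▸ pow_orderOf_eq_one _
      have h1 : (z ^ p) ^ r = 1 := S.pow_of_comm_r hv₀r
        (Subgroup.mem_centralizer_iff.1 hzC v₀ hv₀).symm (hzodd.of_dvd_nat (orderOf_pow_dvd p))
      exact orderOf_eq_one_iff.1 (Nat.eq_one_of_dvd_coprimes
        (((Nat.coprime_primes hp S.prime).2 hpr).pow_left j)
        ((orderOf_pow_dvd p).trans hzo) (orderOf_dvd_of_pow_eq_one h1))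
  let actz : ℕ → N → N := fun i w => ρ ((z : Q) ^ i) w
  have hactz : ∀ i w, N.subtype (actz i w) = z ^ i * N.subtype w * (z ^ i)⁻¹ := fun i w => by
    show ((ρ ((z : Q) ^ i) w : N) : G) = _
    rw [← QuotientGroup.mk_pow]
    exact hρ _ w
  have hpow := mul_pow_eq_norm N.subtype z actz hactz v p
  rw [hzp, mul_one] at hpow
  have e1 : ∀ i, ρ ((z : Q) ^ i) v = ρ (q * x ^ i * q⁻¹) v := fun i => by rw [hz, _root_.conj_pow]
  rw [Finset.prod_congr rfl (fun i _ => e1 i)] at hpow
  set w := N.subtype v * z with hwdef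
  have hwp : w ^ p ≠ 1 := by
    rw [hpow]
    exact fun e => hv (N.subtype_injective (e.trans (map_one _).symm))
  have hwpr : w ^ (p * r) = 1 := by rw [pow_mul, hpow, ← map_pow, hvr, map_one]
  have hodd : Odd (orderOf w) :=
    ((hp.odd_of_ne_two hp2).mul S.odd).of_dvd_nat (orderOf_dvd_of_pow_eq_one hwpr)
  have hrw : r ∣ orderOf w := by
    by_contra hrw
    exact hwp (orderOf_dvd_iff_pow_eq_one.1
      (((S.prime.coprime_iff_not_dvd).2 hrw).symm.dvd_of_dvd_mul_right (orderOf_dvd_of_pow_eq_one hwpr)))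
  rcases S.rdiv w hrw with e | e
  · have h1 : ((w : G) : Q) ^ r = 1 := by rw [← QuotientGroup.mk_pow, ← e, pow_orderOf_eq_one]; rfl
    have h2 : ((w : G) : Q) = q * x * q⁻¹ := by
      rw [hwdef, QuotientGroup.mk_mul, hz]
      have hvC : (N.subtype v : G) ∈ C := Subgroup.mem_centralizer_iff.2 fun u hu => hNc u hu v v.2
      rw [(QuotientGroup.eq_one_iff _).2 hvC, one_mul]
    rw [h2] at h1
    have h3 := orderOf_dvd_of_pow_eq_one h1
    rw [hyo] at h3
    rw [(Nat.prime_dvd_prime_iff_eq hp S.prime).1 h3, ← e] at hwp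
    exact hwp (pow_orderOf_eq_one w)
  · rw [e] at hodd
    exact absurd hodd (Nat.not_odd_iff_even.2 (even_two_mul r))

/-- There are no non-trivial normal `p`-subgroups. -/
theorem pgroup_normal (hns : ¬ Group.IsSolvable G) {N : Subgroup G} [N.Normal] {p : ℕ} (hp : p.Prime)
    (hN : IsPGroup p N) : N = ⊥ := by
  by_cases h2 : p = 2
  · subst h2; exact S.two_normal hns hN
  by_cases hr : p = r
  · subst hr; exact S.r_normal hns hN
  exact S.odd_normal hns hp h2 hr hN

/-- A non-solvable subgroup has an element of odd order whose order is not `r`. -/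
theorem exists_odd_not_r (K : Subgroup G) (hK : ¬ Group.IsSolvable K) :
    ∃ y ∈ K, Odd (orderOf y) ∧ y ≠ 1 ∧ orderOf y ≠ r := by
  by_contra hcon
  push Not at hcon
  refine hK (S.solvable_of_pow K fun x hx => ?_)
  by_cases he : 2 ∣ orderOf x
  · rcases S.even x he with e | e
    · rw [pow_mul, ← e, pow_orderOf_eq_one, one_pow]
    · rw [← e, pow_orderOf_eq_one]
  · by_cases hx1 : x = 1
    · rw [hx1, one_pow]
    rw [mul_comm, pow_mul, ← hcon x hx (Nat.odd_iff.2 (Nat.two_dvd_ne_zero.1 he)) hx1,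
      pow_orderOf_eq_one, one_pow]

/-- The socle. -/
theorem exists_socle (hns : ¬ Group.IsSolvable G) :
    ∃ (M : Subgroup G) (_ : M.Normal), IsSimpleGroup M ∧ ¬ Group.IsSolvable M ∧
      Subgroup.centralizer (M : Set G) = ⊥ := by
  classical
  have hsolv : ∀ M : Subgroup G, M.Normal → ∀ U : Subgroup M, U.Normal → Group.IsSolvable U → U = ⊥ := by
    intro M hM U hU hsol
    by_contra hU1
    haveI : Nontrivial U := (Subgroup.nontrivial_iff_ne_bot U).2 hU1
    obtain ⟨p, hp, A, hAn, hA1, hAp⟩ := CoprimeCount.exists_normal_pgroup U hsol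
    haveI := Fact.mk hp
    set C₁ := (Cfsg.pCore p U).map U.subtype
    haveI : C₁.Normal := FittingCores.normal_map_of_characteristic hU (PBasic.pCore_characteristic p _)
    set C := (Cfsg.pCore p M).map M.subtype with hC
    haveI : C.Normal := FittingCores.normal_map_of_characteristic hM (PBasic.pCore_characteristic p _)
    have hC0 := S.pgroup_normal hns hp (N := C) ((PBasic.pCore_isPGroup p _).map _)
    rw [Subgroup.map_eq_bot_iff_of_injective _ M.subtype_injective] at hC0
    have h1 : C₁ ≤ ⊥ := (PBasic.le_pCore inferInstance ((PBasic.pCore_isPGroup p _).map _)).trans hC0.le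
    rw [le_bot_iff, Subgroup.map_eq_bot_iff_of_injective _ U.subtype_injective] at h1
    exact hA1 (le_bot_iff.1 ((PBasic.le_pCore hAn hAp).trans h1.le))
  have htop : (⊤ : Subgroup G) ≠ ⊥ := fun e => hns (Group.isSolvable_of_comm fun a b => by
    rw [Subgroup.mem_bot.1 (e ▸ Subgroup.mem_top a : a ∈ (⊥ : Subgroup G)), Subgroup.mem_bot.1 (e ▸ Subgroup.mem_top b : b ∈ (⊥ : Subgroup G))])
  obtain ⟨M, hMn, hM1, -, hmin⟩ := LEWielandt.exists_minimal_normal (N := (⊤ : Subgroup G))
    inferInstance htop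
  haveI := hMn
  haveI : Nontrivial M := (Subgroup.nontrivial_iff_ne_bot M).2 hM1
  have hnsM : ¬ Group.IsSolvable M := fun h => by
    refine top_ne_bot (hsolv M hMn ⊤ inferInstance ?_)
    haveI := h
    exact Group.isSolvable_of_isSolvable_injective (f := (⊤ : Subgroup M).subtype) (Subgroup.subtype_injective _)
  have hsimple : IsSimpleGroup M := by
    obtain ⟨U, hUn, hU1, -, hUmin⟩ := LEWielandt.exists_minimal_normal (N := (⊤ : Subgroup M))
      inferInstance top_ne_bot
    set U' := U.map M.subtype with hU'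
    by_cases hnorm : ∀ g : G, U'.map (MulAut.conj g).toMonoidHom = U'
    · have hUn' : U'.Normal := ⟨fun x hx g => by rw [← hnorm g]; exact ⟨x, hx, rfl⟩⟩
      rcases hmin U' hUn' (Subgroup.map_subtype_le U) with e | e
      · exact absurd ((Subgroup.map_eq_bot_iff_of_injective _ M.subtype_injective).1 e) hU1
      · have hUtop : U = ⊤ := Subgroup.map_injective M.subtype_injective
          (e.trans (by rw [← MonoidHom.range_eq_map, Subgroup.range_subtype]))
        exact ⟨fun W hW => hUtop ▸ hUmin W hW (hUtop ▸ le_top)⟩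
    exfalso
    push Not at hnorm
    obtain ⟨g, hg⟩ := hnorm
    set e : MulAut M := MulAut.conjNormal g
    set W := U.map e.toMonoidHom with hW
    have hWn : W.Normal := hUn.map e.toMonoidHom e.surjective
    have hWU : W ⊓ U = ⊥ := by
      rcases hUmin (W ⊓ U) (by haveI := hUn; haveI := hWn; infer_instance) inf_le_right with h | h
      · exact h
      exfalso
      apply hg
      have hle : U ≤ W := h ▸ inf_le_left
      have heq : U = W := Subgroup.eq_of_le_of_card_ge hle
        (Subgroup.card_map_of_injective e.injective).le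
      conv_rhs => rw [hU', heq, hW]
      rw [hU', Subgroup.map_map, Subgroup.map_map]
      congr 1
    have hW1 : W ≠ ⊥ := fun h => hU1 ((Subgroup.map_eq_bot_iff_of_injective _ e.injective).1 h)
    have hWev : Even (Nat.card W) := by
      rw [← Nat.not_odd_iff_even]
      exact fun ho => hW1 (hsolv M hMn W hWn (OddChar.oddSolvable W ho))
    obtain ⟨w, hwW, hw⟩ := exists_invol hWev
    obtain ⟨y, hyU, hyo, hy1, hyr⟩ :=
      (S.subgroup M).exists_odd_not_r U fun h => hU1 (hsolv M hMn U hUn h)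
    exact hyr ((S.subgroup M).order_of_comm_invol hw
      (Subgroup.commute_of_normal_of_disjoint U W hUn hWn
        (disjoint_iff.2 (by rw [inf_comm]; exact hWU)) y w hyU hwW) hyo hy1)
  refine ⟨M, hMn, hsimple, hnsM, ?_⟩
  by_contra hC1
  obtain ⟨y, hyM, hyo, hy1, hyr⟩ := S.exists_odd_not_r M hnsM
  rcases (Nat.even_or_odd (Nat.card (Subgroup.centralizer (M : Set G)))) with hev | hodd
  · obtain ⟨c, hc, hco⟩ := exists_invol hev
    exact hyr (S.order_of_comm_invol hco (Subgroup.mem_centralizer_iff.1 hc y hyM) hyo hy1)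
  · refine hC1 ?_
    have := hsolv ⊤ inferInstance ((Subgroup.centralizer (M : Set G)).subgroupOf ⊤) inferInstance ?_
    · exact (Subgroup.subgroupOf_eq_bot.1 this).eq_bot_of_le le_top
    · refine OddChar.oddSolvable _ ?_
      rw [Nat.card_congr (Subgroup.subgroupOfEquivOfLe le_top).toEquiv]
      exact hodd

end Spec

end Cfsg.Agent.ThreeOrd
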