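import Cfsg.Agent.Lib.ThreeOrd.Simple
import Cfsg.Agent.Lib.ThreeOrd.Reduce
import Mathlib.GroupTheory.Perm.Cycle.Type

/-!
# A socle `PSL(2, 2 ^ n)` is the whole group

The argument only uses the action on the Sylow `2`-subgroups of the socle.
-/

set_option autoImplicit false
set_option linter.style.haveILetI false
set_option linter.unusedSectionVars false

namespace Cfsg.Agent.ThreeOrd

open Cfsg.Agent.CNSimple Cfsg.Agent.Invol
open scoped Pointwise

universe u v

theorem cit_congr {G : Type u} {H : Type v} [Group G] [Group H] (e : G ≃* H) (hc : CIT H) : CIT G := by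
  intro t ht x
  obtain ⟨k, hk⟩ := hc (e t) (by rw [MulEquiv.orderOf_eq, ht]) ⟨e x, by
    rw [Subgroup.mem_centralizer_singleton_iff, ← map_mul, ← map_mul,
      Subgroup.mem_centralizer_singleton_iff.1 x.2]⟩
  refine ⟨k, Subtype.ext (e.injective ?_)⟩
  rw [Subgroup.coe_pow, map_pow, OneMemClass.coe_one, map_one]
  exact congrArg Subtype.val hk

/-- A permutation of prime period on fewer points than the prime is trivial. -/
theorem perm_eq_one_of_lt {α : Type u} [Finite α] {r : ℕ} (hr : r.Prime) {σ : Equiv.Perm α}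
    (hσ : σ ^ r = 1) (hlt : Nat.card α < r) : σ = 1 := by
  rcases (Nat.dvd_prime hr).1 (orderOf_dvd_of_pow_eq_one hσ) with e | e
  · exact orderOf_eq_one_iff.1 e
  · classical
    haveI := Fintype.ofFinite α
    have hd := e ▸ orderOf_dvd_natCard σ
    rw [Nat.card_eq_fintype_card, Fintype.card_perm, ← Nat.card_eq_fintype_card,
      hr.dvd_factorial] at hd
    omega

variable {G : Type u} [Group G] [Finite G] {r : ℕ}

/-- A socle `PSL(2, 2 ^ n)` is the whole group. -/
theorem Spec.eq_top_even (S : Spec G r) (M : Subgroup G) [hMn : M.Normal] [IsSimpleGroup M]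
    (hC : Subgroup.centralizer (M : Set G) = ⊥) {F : Type} [Field F] [Fintype F] [CharP F 2]
    (h4 : 4 ≤ Fintype.card F) (e : M ≃* Matrix.ProjectiveSpecialLinearGroup (Fin 2) F) : M = ⊤ := by
  classical
  haveI : Fact (Nat.Prime 2) := ⟨Nat.prime_two⟩
  haveI := Fact.mk S.prime
  have hcM : CIT M := cit_congr e psl_even_cit
  haveI : Fintype M := Fintype.ofFinite M
  haveI : Fintype (Sylow 2 M) := Fintype.ofFinite _
  set q := Fintype.card F with hq
  obtain ⟨f, -, hf⟩ := FiniteField.card F 2
  have hqev : 2 ∣ q := by rw [hq, hf]; exact dvd_pow_self 2 f.ne_zero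
  have hcard : Nat.card M = (q ^ 2 - 1) * q := by
    rw [Nat.card_congr e.toEquiv, ← EPPO.card_psl_two F]
    have hg : Nat.gcd 2 (q - 1) = 1 :=
      (Nat.prime_two.coprime_iff_not_dvd).2 (fun h => by omega)
    rw [hg, one_mul]
  obtain ⟨P⟩ : Nonempty (Sylow 2 M) := inferInstance
  set U : Subgroup M := (P : Subgroup M) with hU
  have hUcard : Nat.card U = q := by
    rw [hU, P.card_eq_multiplicity, hcard, Nat.factorization_mul (by
      have : 1 < q ^ 2 := Nat.one_lt_pow two_ne_zero (by omega)
      omega) (by omega)]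
    have h1 : (q ^ 2 - 1).factorization 2 = 0 := Nat.factorization_eq_zero_of_not_dvd (by
      have : 2 ∣ q ^ 2 := dvd_pow hqev two_ne_zero
      have : 1 < q ^ 2 := Nat.one_lt_pow two_ne_zero (by omega)
      omega)
    rw [Finsupp.add_apply, h1, zero_add, hq, hf, Nat.Prime.factorization_pow Nat.prime_two]
    simp
  have SM : Spec M r := S.subgroup M
  have hUc : ∀ (Q : Sylow 2 M) (t : M), t ∈ (Q : Subgroup M) → orderOf t = 2 →
      Subgroup.centralizer {t} = (Q : Subgroup M) := fun Q t htQ ht =>
    Q.is_maximal' (hcM t ht) fun x hx =>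
      Subgroup.mem_centralizer_singleton_iff.2 (SM.comm_of_pgroup Q.isPGroup' hx htQ)
  have hTI : ∀ (Q Q' : Sylow 2 M) (t : M), t ∈ (Q : Subgroup M) → t ∈ (Q' : Subgroup M) → t ≠ 1 →
      Q = Q' := fun Q Q' t hQ hQ' ht1 => by
    have ht : orderOf t = 2 := order_two_of_sq (SM.sq_of_pgroup Q.isPGroup' hQ) ht1
    exact Sylow.ext ((hUc Q t hQ ht).symm.trans (hUc Q' t hQ' ht))
  have hinv_mem : ∀ t : M, orderOf t = 2 → ∃ Q : Sylow 2 M, t ∈ (Q : Subgroup M) := fun t ht => by
    obtain ⟨Q, hQ⟩ := (IsPGroup.of_card (p := 2) (n := 1)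
      (by rw [Nat.card_zpowers, ht, pow_one]) : IsPGroup 2 (Subgroup.zpowers t)).exists_le_sylow
    exact ⟨Q, hQ (Subgroup.mem_zpowers t)⟩
  -- the Sylow subgroups are not all equal
  have hns : ∀ Q : Sylow 2 M, ∃ Q' : Sylow 2 M, Q' ≠ Q := fun Q => by
    by_contra hcon
    push Not at hcon
    have hn : (Q : Subgroup M).Normal := by
      refine Subgroup.normalizer_eq_top_iff.1 (eq_top_iff.2 fun g _ => ?_)
      exact Sylow.smul_eq_iff_mem_normalizer.1 (hcon (g • Q))
    have hc : Nat.card (Q : Subgroup M) = q :=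
      (Nat.card_congr (Q.equiv P).toEquiv).trans hUcard
    rcases hn.eq_bot_or_eq_top with e' | e'
    · rw [e', Subgroup.card_bot] at hc
      omega
    · rw [e', Subgroup.card_top, hcard] at hc
      have : 1 < q ^ 2 - 1 := by
        have := Nat.pow_le_pow_left h4 2
        omega
      have h2 : 2 * q ≤ (q ^ 2 - 1) * q := Nat.mul_le_mul_right q this
      omega
  -- one class of involutions
  have hone : ∀ t t' : M, orderOf t = 2 → orderOf t' = 2 → IsConj t t' := by
    intro t t' ht ht'
    by_contra hne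
    have key : ∀ s s' : M, orderOf s = 2 → orderOf s' = 2 → ¬ IsConj s s' →
        ∀ Q : Sylow 2 M, s' ∈ (Q : Subgroup M) → s ∈ (Q : Subgroup M) := by
      intro s s' hs hs' hn Q hQ
      set u := s * s' with hu
      have hsu : s * u * s⁻¹ = u⁻¹ := conj_mul hs hs'
      rcases Nat.even_or_odd (orderOf u) with ⟨k, hk⟩ | ⟨k, hk⟩
      · have hk0 : 0 < k := by have := orderOf_pos u; omega
        set v := u ^ k with hv
        have hvo : orderOf v = 2 := by
          refine orderOf_eq_prime (by rw [hv, ← pow_mul, mul_two, ← hk, pow_orderOf_eq_one]) fun e' => ?_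
          have := Nat.le_of_dvd hk0 (orderOf_dvd_of_pow_eq_one e')
          omega
        have hvv : v * v = 1 := Invol.mul_self hvo
        have hsv : Commute v s := (mul_inv_eq_iff_eq_mul.1
          ((Invol.conj_pow hsu k).trans (inv_eq_of_mul_eq_one_right hvv))).symm
        have hs'v : Commute v s' := by
          have h1 : Commute v u := (Commute.refl u).pow_left k
          have h2 : s' = s⁻¹ * u := by rw [hu, inv_mul_cancel_left]
          rw [h2]
          exact hsv.inv_right.mul_right h1
        obtain ⟨R, hR⟩ := hinv_mem v hvo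
        have hsR : s ∈ (R : Subgroup M) := hUc R v hR hvo ▸ Subgroup.mem_centralizer_singleton_iff.2 hsv.eq.symm
        have hs'R : s' ∈ (R : Subgroup M) := hUc R v hR hvo ▸ Subgroup.mem_centralizer_singleton_iff.2 hs'v.eq.symm
        rwa [hTI R Q s' hs'R hQ (ne_one hs')] at hsR
      · exfalso
        refine hn (isConj_iff.2 ⟨u ^ k, ?_⟩)
        have h1 : s * u ^ k = (u ^ k)⁻¹ * s := mul_inv_eq_iff_eq_mul.1 (Invol.conj_pow hsu k)
        have h2 : u ^ (2 * k + 1) = 1 := hk ▸ pow_orderOf_eq_one u
        have h3 : (u ^ k)⁻¹ = u ^ (k + 1) := inv_eq_of_mul_eq_one_right (by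
          rw [← pow_add, show k + (k + 1) = 2 * k + 1 by ring, h2])
        calc u ^ k * s * (u ^ k)⁻¹ = u ^ k * (s * u ^ k) * u := by
              rw [h3, pow_succ]; group
          _ = s' := by
              rw [h1, mul_inv_cancel_left, hu, ← mul_assoc,
                Invol.mul_self hs, one_mul]
    obtain ⟨Q, hQ⟩ := hinv_mem t' ht'
    obtain ⟨Q', hQ'⟩ := hns Q
    obtain ⟨g, hg⟩ := MulAction.exists_smul_eq M Q Q'
    have h1 := key t t' ht ht' hne Q hQ
    have h2 : g * t * g⁻¹ ∈ (Q : Subgroup M) := key _ t' ((order_conj g t).trans ht) ht'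
      (fun h => hne ((isConj_iff.2 ⟨g, rfl⟩ : IsConj t (g * t * g⁻¹)).trans h)) Q hQ
    refine hQ' (hTI Q' Q (g * t * g⁻¹) ?_ h2 (fun e' => ne_one ht ?_))
    · rw [← hg, Sylow.coe_subgroup_smul, Subgroup.mem_pointwise_smul_iff_inv_smul_mem]
      simpa [MulAut.smul_def, mul_assoc] using h1
    · exact conj_eq_one_iff.1 e'
  -- counting
  have hne_set : ∀ Q : Sylow 2 M, Nat.card {t : (Q : Subgroup M) // t ≠ 1} = q - 1 := fun Q => by
    rw [Nat.card_eq_fintype_card, Fintype.card_subtype_compl, Fintype.card_subtype_eq,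
      ← Nat.card_eq_fintype_card, Nat.card_congr (Q.equiv P).toEquiv, hUcard]
  obtain ⟨t₀, ht₀U, ht₀⟩ : ∃ t ∈ U, orderOf t = 2 := exists_invol (by
    rw [hUcard, even_iff_two_dvd]; exact hqev)
  have hn : Nat.card (Sylow 2 M) = q + 1 := by
    let I : Type u := {t : M // orderOf t = 2}
    have h1 : Nat.card I = Nat.card (M ⧸ U) := by
      refine (Nat.card_congr (Equiv.ofBijective
        (fun c : M ⧸ U => (⟨c.out * t₀ * (c.out)⁻¹, (order_conj _ _).trans ht₀⟩ : I)) ⟨?_, ?_⟩)).symm
      · intro c c' e'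
        have e1 : c.out * t₀ * (c.out)⁻¹ = c'.out * t₀ * (c'.out)⁻¹ := congrArg Subtype.val e'
        rw [← c.out_eq, ← c'.out_eq]
        refine QuotientGroup.eq.2 ?_
        show _ ∈ (P : Subgroup M)
        rw [← hUc P t₀ ht₀U ht₀, Subgroup.mem_centralizer_singleton_iff]
        calc (c.out)⁻¹ * c'.out * t₀ = (c.out)⁻¹ * (c'.out * t₀ * (c'.out)⁻¹) * c'.out := by group
          _ = (c.out)⁻¹ * (c.out * t₀ * (c.out)⁻¹) * c'.out := by rw [e1]
          _ = t₀ * ((c.out)⁻¹ * c'.out) := by group
      · rintro ⟨t, ht⟩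
        obtain ⟨g, hg⟩ := isConj_iff.1 (hone t₀ t ht₀ ht)
        refine ⟨(g : M ⧸ U), Subtype.ext ?_⟩
        obtain ⟨u, hu⟩ := QuotientGroup.mk_out_eq_mul U g
        show (g : M ⧸ U).out * t₀ * ((g : M ⧸ U).out)⁻¹ = t
        rw [hu, ← hg]
        have hc : (u : M) * t₀ = t₀ * u := SM.comm_of_pgroup P.isPGroup' u.2 ht₀U
        calc g * u * t₀ * (g * u)⁻¹ = g * (u * t₀) * (u : M)⁻¹ * g⁻¹ := by group
          _ = g * t₀ * g⁻¹ := by rw [hc]; group
    have h2 : Nat.card (Σ Q : Sylow 2 M, {t : (Q : Subgroup M) // t ≠ 1}) = Nat.card I := by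
      refine Nat.card_congr (Equiv.ofBijective (fun p => (⟨(p.2.1 : M), order_two_of_sq
        (SM.sq_of_pgroup p.1.isPGroup' p.2.1.2) fun e' => p.2.2 (Subtype.ext e')⟩ : I)) ⟨?_, ?_⟩)
      · rintro ⟨Q, t⟩ ⟨Q', t'⟩ e'
        have e1 : (t.1 : M) = t'.1 := congrArg Subtype.val e'
        obtain rfl := hTI Q Q' t.1 t.1.2 (e1 ▸ t'.1.2) fun h => t.2 (Subtype.ext h)
        exact Sigma.ext rfl (heq_of_eq (Subtype.ext (Subtype.ext e1)))
      · rintro ⟨t, ht⟩
        obtain ⟨Q, hQ⟩ := hinv_mem t ht
        exact ⟨⟨Q, ⟨⟨t, hQ⟩, fun e' => ne_one ht (congrArg Subtype.val e')⟩⟩, rfl⟩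
    rw [Nat.card_sigma, Finset.sum_congr rfl (fun Q _ => hne_set Q), Finset.sum_const,
      Finset.card_univ, smul_eq_mul, ← Nat.card_eq_fintype_card, h1] at h2
    have h3 := Subgroup.card_eq_card_quotient_mul_card_subgroup U
    rw [hcard, hUcard] at h3
    have h4' : Nat.card (M ⧸ U) = q ^ 2 - 1 := Nat.eq_of_mul_eq_mul_right (by omega) h3.symm
    rw [h4', show q ^ 2 - 1 = (q + 1) * (q - 1) by
      rw [show (1 : ℕ) = 1 ^ 2 from rfl, Nat.sq_sub_sq]; simp] at h2
    exact Nat.eq_of_mul_eq_mul_right (by omega) h2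
  -- the action of `G`
  let A : G →* Equiv.Perm (Sylow 2 M) :=
    (MulAction.toPermHom (MulAut M) (Sylow 2 M)).comp MulAut.conjNormal
  have hsm : ∀ (g : G) (Q : Sylow 2 M), A g Q = (MulAut.conjNormal g : MulAut M) • Q := fun _ _ => rfl
  have hmem : ∀ (g : G) (Q : Sylow 2 M) (t : M), t ∈ (Q : Subgroup M) →
      (MulAut.conjNormal g : MulAut M) t ∈ ((A g Q : Sylow 2 M) : Subgroup M) := fun g Q t ht => by
    rw [hsm]
    exact Subgroup.smul_mem_pointwise_smul t _ _ ht
  have hcj : ∀ m : M, (MulAut.conjNormal (m : G) : MulAut M) = MulAut.conj m := fun m =>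
    MulEquiv.ext fun x => Subtype.ext (by rw [MulAut.conjNormal_apply]; rfl)
  have hsmM : ∀ (m : M) (Q : Sylow 2 M), A (m : G) Q = m • Q := fun m Q => by
    rw [hsm, hcj]; rfl
  -- the kernel
  have hker : ∀ g : G, (∀ Q : Sylow 2 M, A g Q = Q) → g = 1 := by
    let K := A.ker
    have hK : ∀ g, g ∈ K ↔ ∀ Q : Sylow 2 M, A g Q = Q := fun g => by
      rw [MonoidHom.mem_ker, Equiv.ext_iff]; rfl
    have hKM : K.subgroupOf M = ⊥ := by
      rcases (inferInstance : (K.subgroupOf M).Normal).eq_bot_or_eq_top with h | h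
      · exact h
      exfalso
      obtain ⟨Q', hQ'⟩ := hns P
      obtain ⟨m, hm⟩ := MulAction.exists_smul_eq M P Q'
      have hmK : (m : G) ∈ K := Subgroup.mem_subgroupOf.1 (h ▸ Subgroup.mem_top m)
      exact hQ' (by rw [← hm, ← hsmM]; exact (hK _).1 hmK P)
    intro g hg
    have hgC : g ∈ Subgroup.centralizer (M : Set G) := by
      refine Subgroup.mem_centralizer_iff.2 fun m hm => ?_
      exact (Subgroup.commute_of_normal_of_disjoint M K hMn inferInstance (by
        rw [disjoint_iff, eq_bot_iff]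
        intro x hx
        have : (⟨x, hx.1⟩ : M) ∈ K.subgroupOf M := hx.2
        rw [hKM, Subgroup.mem_bot] at this
        exact congrArg Subtype.val this) m g hm ((hK g).2 hg)).eq
    rwa [hC, Subgroup.mem_bot] at hgC
  -- `U` is regular on the other Sylow subgroups
  have hreg : ∀ Q Q' : Sylow 2 M, Q ≠ P → Q' ≠ P → ∃ s ∈ U, (s : M) • Q = Q' := by
    intro Q Q' hQ hQ'
    let f : U → {R : Sylow 2 M // R ≠ P} := fun s => ⟨(s : M) • Q, fun e' => hQ (by
      have h1 : (s : M) • P = P := Sylow.smul_eq_iff_mem_normalizer.2 (Subgroup.le_normalizer s.2)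
      exact MulAction.injective (s : M) (e'.trans h1.symm))⟩
    have hf : Function.Bijective f := by
      refine (Nat.bijective_iff_injective_and_card f).2 ⟨fun s s' e' => ?_, ?_⟩
      · have e1 : (s : M) • Q = (s' : M) • Q := congrArg Subtype.val e'
        have e2 : ((s'⁻¹ * s : U) : M) • Q = Q := by
          rw [Subgroup.coe_mul, Subgroup.coe_inv, mul_smul, e1, inv_smul_smul]
        by_contra hne
        have hd : ((s'⁻¹ * s : U) : M) ≠ 1 := fun e3 => hne (inv_mul_eq_one.1 (Subtype.ext e3)).symm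
        have hp : IsPGroup 2 (Subgroup.zpowers ((s'⁻¹ * s : U) : M)) :=
          P.isPGroup'.to_le (Subgroup.zpowers_le.2 (s'⁻¹ * s).2)
        have hle := IsPGroup.to_sup_of_normal_right' hp Q.isPGroup'
          (Subgroup.zpowers_le.2 (Sylow.smul_eq_iff_mem_normalizer.1 e2))
        exact hQ (hTI Q P _ ((Q.is_maximal' hle le_sup_right).le
          (Subgroup.mem_sup_left (Subgroup.mem_zpowers _))) (s'⁻¹ * s).2 hd)
      · rw [hUcard, Nat.card_eq_fintype_card, Fintype.card_subtype_compl, Fintype.card_subtype_eq,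
          ← Nat.card_eq_fintype_card, hn]
        omega
    obtain ⟨s, hs⟩ := hf.2 ⟨Q', hQ'⟩
    exact ⟨s, s.2, congrArg Subtype.val hs⟩
  -- the centraliser of `U`
  have hCU : ∀ u : G, (∀ s ∈ U, Commute u (s : G)) → u ∈ M := by
    intro u hu
    have hfix : ∀ s ∈ U, (MulAut.conjNormal u : MulAut M) s = s := fun s hs => Subtype.ext (by
      rw [MulAut.conjNormal_apply, (hu s hs).eq, mul_inv_cancel_right])
    have huP : A u P = P := hTI (A u P) P t₀
      (by have := hmem u P t₀ ht₀U; rwa [hfix t₀ ht₀U] at this) ht₀U (ne_one ht₀)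
    obtain ⟨Q, hQ⟩ := hns P
    have huQ : A u Q ≠ P := fun e' => hQ ((A u).injective (e'.trans huP.symm))
    obtain ⟨s, hs, hsQ⟩ := hreg Q (A u Q) hQ huQ
    suffices h1 : (s : G)⁻¹ * u = 1 by
      rw [← inv_mul_eq_one.1 h1]; exact s.2
    refine hker _ fun R => ?_
    have hsP : (s : M) • P = P := Sylow.smul_eq_iff_mem_normalizer.2 (Subgroup.le_normalizer hs)
    have hsinv : ∀ R' : Sylow 2 M, A (s : G)⁻¹ R' = s⁻¹ • R' := fun R' => by
      rw [← Subgroup.coe_inv, hsmM]
    by_cases hR : R = P
    · rw [hR, map_mul, Equiv.Perm.mul_apply, huP, hsinv, inv_smul_eq_iff, hsP]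
    · obtain ⟨a, ha, haR⟩ := hreg Q R hQ hR
      have hc : Commute ((s : G)⁻¹ * u) (a : G) := by
        refine Commute.mul_left (Commute.inv_left ?_) (hu a ha)
        exact congrArg Subtype.val (SM.comm_of_pgroup P.isPGroup' hs ha)
      rw [← haR, ← hsmM, ← Equiv.Perm.mul_apply, ← map_mul, hc.eq, map_mul, Equiv.Perm.mul_apply]
      congr 1
      rw [map_mul, Equiv.Perm.mul_apply, hsinv, inv_smul_eq_iff, hsQ]
  -- the centraliser of an involution
  have hconjU : ∀ g : G, Commute g (t₀ : G) → ∀ s ∈ U, (MulAut.conjNormal g : MulAut M) s ∈ U := by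
    intro g hg s hs
    have ht : (MulAut.conjNormal g : MulAut M) t₀ = t₀ := Subtype.ext (by
      rw [MulAut.conjNormal_apply, hg.eq, mul_inv_cancel_right])
    show _ ∈ (P : Subgroup M)
    rw [← hUc P t₀ ht₀U ht₀, Subgroup.mem_centralizer_singleton_iff]
    conv_lhs => rw [← ht]
    conv_rhs => rw [← ht]
    rw [← map_mul, ← map_mul, SM.comm_of_pgroup P.isPGroup' hs ht₀U]
  have hCt : ∀ g : G, Commute g (t₀ : G) → g ∈ M := by
    have hsmallu : ∀ u : G, Commute u (t₀ : G) → u * u = 1 → u ∈ M := by
      intro u hu hu2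
      refine hCU u fun s hs => ?_
      have hu' : u⁻¹ = u := inv_eq_of_mul_eq_one_right hu2
      have hs2 : (s : G) * s = 1 := congrArg Subtype.val (SM.sq_of_pgroup P.isPGroup' hs)
      set s' : M := (MulAut.conjNormal u : MulAut M) s with hs'
      have hs'U : s' ∈ U := hconjU u hu s hs
      have hs'G : (s' : G) = u * s * u := by rw [hs', MulAut.conjNormal_apply, hu']
      -- `u s u s` is an element of `U`, so `(u s)` is a `2`-element
      have hw : (u * (s : G)) ^ 2 ^ 2 = 1 := by
        have h1 : (u * (s : G)) ^ 2 = ((s' * s : M) : G) := by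
          rw [Subgroup.coe_mul, hs'G, pow_two]; group
        rw [show 2 ^ 2 = 2 * 2 from rfl, pow_mul, h1, pow_two, ← Subgroup.coe_mul,
          SM.sq_of_pgroup P.isPGroup' (U.mul_mem hs'U hs)]
        rfl
      have h2 := S.sq_eq_one hw
      show u * s = s * u
      calc u * (s : G) = (u * s)⁻¹ := (inv_eq_of_mul_eq_one_right h2).symm
        _ = s * u := by rw [mul_inv_rev, hu', inv_eq_of_mul_eq_one_right hs2]
    have hsmally : ∀ y : G, Commute y (t₀ : G) → y ^ r = 1 → y ∈ M := by
      intro y hy hyr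
      by_contra hyM
      have hy1 : y ≠ 1 := fun e' => hyM (e' ▸ M.one_mem)
      have hyo : orderOf y = r := orderOf_eq_prime hyr hy1
      have hyfix : (MulAut.conjNormal y : MulAut M) t₀ = t₀ := Subtype.ext (by
        rw [MulAut.conjNormal_apply, hy.eq, mul_inv_cancel_right])
      have hyP : A y P = P := hTI (A y P) P t₀
        (by have := hmem y P t₀ ht₀U; rwa [hyfix] at this) ht₀U (ne_one ht₀)
      have hperm : A y ^ r = 1 := by rw [← map_pow, hyr, map_one]
      let σ : Equiv.Perm {R : Sylow 2 M // R ≠ P} :=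
        (A y).subtypePerm fun R =>
          not_congr ⟨fun e' => (A y).injective (e'.trans hyP.symm), fun e' => e' ▸ hyP⟩
      have hσ : σ ^ r = 1 := by
        rw [Equiv.Perm.subtypePerm_pow]
        exact Equiv.ext fun R => Subtype.ext (by
          show (A y ^ r) R.1 = R.1
          rw [hperm]; rfl)
      have hcard' : Nat.card {R : Sylow 2 M // R ≠ P} = q := by
        rw [Nat.card_eq_fintype_card, Fintype.card_subtype_compl, Fintype.card_subtype_eq,
          ← Nat.card_eq_fintype_card, hn]
        omega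
      obtain ⟨⟨g1, hg1⟩, g2, hg2⟩ := exists_order_even_char (F := F)
      have hr_cases : r ∣ Nat.card M → q + 1 = r ∨ q - 1 = r := by
        intro hd
        have hord : ∀ (g : Matrix.ProjectiveSpecialLinearGroup (Fin 2) F) (n : ℕ), orderOf g = n →
            r ∣ n → Odd n → n = r := fun g n hg hrn hn' => by
          rcases SM.rdiv (e.symm g) (by rwa [MulEquiv.orderOf_eq, hg]) with e1 | e1 <;>
            rw [MulEquiv.orderOf_eq, hg] at e1
          · exact e1
          · rw [e1] at hn'; exact absurd hn' (Nat.not_odd_iff_even.2 (even_two_mul r))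
        rw [hcard, S.prime.dvd_mul, show q ^ 2 - 1 = (q + 1) * (q - 1) by
          rw [show (1 : ℕ) = 1 ^ 2 from rfl, Nat.sq_sub_sq]; simp, S.prime.dvd_mul] at hd
        rcases hd with (h1 | h1) | h1
        · exact Or.inl (hord g2 _ hg2 h1 (Nat.odd_iff.2 (by omega)))
        · exact Or.inr (hord g1 _ hg1 h1 (Nat.odd_iff.2 (by omega)))
        · rw [hq, hf] at h1
          exact absurd ((Nat.prime_dvd_prime_iff_eq S.prime Nat.prime_two).1
            (S.prime.dvd_of_dvd_pow h1)) S.ne_two
      by_cases hdvd : r ∣ Nat.card M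
      · rcases hr_cases hdvd with hrq | hrq
        · have h1 := perm_eq_one_of_lt S.prime hσ (by omega)
          refine hy1 (hker y fun R => ?_)
          by_cases hR : R = P
          · rw [hR, hyP]
          · exact congrArg Subtype.val (Equiv.ext_iff.1 h1 ⟨R, hR⟩)
        · -- the conjugation on `U` away from `t₀`
          let α : Type u := {s : U // (s : M) ≠ 1 ∧ (s : M) ≠ t₀}
          let c : ℕ → α → α := fun i s => ⟨⟨(MulAut.conjNormal (y ^ i) : MulAut M) s.1.1,
              hconjU _ (hy.pow_left i) _ s.1.2⟩, fun e' => s.2.1 (by simpa using e'), fun e' => s.2.2 (by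
              have ht : (MulAut.conjNormal (y ^ i) : MulAut M) t₀ = t₀ := Subtype.ext (by
                rw [MulAut.conjNormal_apply, (hy.pow_left i).eq, mul_inv_cancel_right])
              exact (MulAut.conjNormal (y ^ i) : MulAut M).injective (e'.trans ht.symm))⟩
          have hcr : ∀ s, c r s = s := fun s => Subtype.ext (Subtype.ext (by
            show (MulAut.conjNormal (y ^ r) : MulAut M) s.1.1 = s.1.1
            rw [hyr, map_one]; rfl))
          have hcc : ∀ i j s, c i (c j s) = c (i + j) s := fun i j s => Subtype.ext (Subtype.ext (by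
            show (MulAut.conjNormal (y ^ i) : MulAut M) ((MulAut.conjNormal (y ^ j) : MulAut M) s.1.1) =
              (MulAut.conjNormal (y ^ (i + j)) : MulAut M) s.1.1
            rw [pow_add, map_mul, MulAut.mul_apply]))
          have hr1 : r - 1 + 1 = r := Nat.succ_pred_eq_of_pos S.prime.pos
          let τ : Equiv.Perm α :=
            { toFun := c 1
              invFun := c (r - 1)
              left_inv := fun s => by rw [hcc, hr1, hcr]
              right_inv := fun s => by rw [hcc, add_comm, hr1, hcr] }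
          have hτ : ∀ (i : ℕ) (s : α), (τ ^ i) s = c i s := fun i => by
            induction i with
            | zero =>
              intro s
              refine Subtype.ext (Subtype.ext ?_)
              show s.1.1 = (MulAut.conjNormal (y ^ 0) : MulAut M) s.1.1
              rw [pow_zero, map_one]; rfl
            | succ i ih =>
              intro s
              rw [pow_succ', Equiv.Perm.mul_apply, ih]
              show c 1 (c i s) = _
              rw [hcc, add_comm]
          have hτr : τ ^ r = 1 := Equiv.ext fun s => by rw [hτ, hcr]; rfl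
          have hαlt : Nat.card α < r := by
            let ι : α → {s : U // s ≠ 1} := fun s => ⟨s.1, fun e' => s.2.1 (congrArg Subtype.val e')⟩
            haveI := Fintype.ofFinite α
            have h2 := Fintype.card_lt_of_injective_of_notMem ι
              (fun a b e' => Subtype.ext (Subtype.mk.inj e'))
              (b := ⟨⟨t₀, ht₀U⟩, fun e' => ne_one ht₀ (congrArg Subtype.val e')⟩) (by
                rintro ⟨s, hs⟩
                exact s.2.2 (congrArg (fun w : {s : U // s ≠ 1} => ((w.1 : U) : M)) hs))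
            have h3 := hne_set P
            rw [Nat.card_eq_fintype_card] at h3 ⊢
            change Fintype.card {s : U // s ≠ 1} = q - 1 at h3
            omega
          have h1 := perm_eq_one_of_lt S.prime hτr hαlt
          refine hyM (hCU y fun s hs => ?_)
          have hfix : (MulAut.conjNormal y : MulAut M) s = s := by
            by_cases hs1 : s = 1
            · rw [hs1, map_one]
            by_cases hst : s = t₀
            · rw [hst, hyfix]
            have h5 := congrArg (fun w : α => ((w.1 : U) : M))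
              (Equiv.ext_iff.1 h1 ⟨⟨s, hs⟩, hs1, hst⟩)
            simpa [τ, c] using h5
          have h6 := congrArg Subtype.val hfix
          rw [MulAut.conjNormal_apply] at h6
          exact mul_inv_eq_iff_eq_mul.1 h6
      · -- `r` does not divide the order of the socle
        have hrq : ¬ r ∣ q := fun h' => hdvd (hcard ▸ h'.trans (dvd_mul_left _ _))
        obtain ⟨R, hR⟩ := Equiv.Perm.exists_fixed_point_of_prime (p := r) (n := 1)
          (by rw [← Nat.card_eq_fintype_card, hcard']; exact hrq) (σ := σ) (by rwa [pow_one])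
        have hyR : A y R.1 = R.1 := congrArg Subtype.val hR
        -- a fixed involution of `R`
        have hmR : ∀ w : G, A w R.1 = R.1 → ∀ s ∈ (R.1 : Subgroup M),
            (MulAut.conjNormal w : MulAut M) s ∈ (R.1 : Subgroup M) := fun w hw s hs => by
          have := hmem w R.1 s hs
          rwa [hw] at this
        let β : Type u := {s : (R.1 : Subgroup M) // s ≠ 1}
        let τ : Equiv.Perm β :=
          { toFun := fun s => ⟨⟨(MulAut.conjNormal y : MulAut M) s.1.1, hmR y hyR _ s.1.2⟩,
              fun e' => s.2 (Subtype.ext ((MulAut.conjNormal y : MulAut M).injective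
                ((congrArg Subtype.val e').trans (map_one _).symm)))⟩
            invFun := fun s => ⟨⟨(MulAut.conjNormal y⁻¹ : MulAut M) s.1.1,
              hmR y⁻¹ ((A y).injective (by rw [← Equiv.Perm.mul_apply, ← map_mul, mul_inv_cancel, map_one, Equiv.Perm.one_apply, hyR])) _ s.1.2⟩,
              fun e' => s.2 (Subtype.ext ((MulAut.conjNormal y⁻¹ : MulAut M).injective
                ((congrArg Subtype.val e').trans (map_one _).symm)))⟩
            left_inv := fun s => Subtype.ext (Subtype.ext (by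
              show (MulAut.conjNormal y⁻¹ : MulAut M) ((MulAut.conjNormal y : MulAut M) s.1.1) = s.1.1
              rw [← MulAut.mul_apply, ← map_mul, inv_mul_cancel, map_one]; rfl))
            right_inv := fun s => Subtype.ext (Subtype.ext (by
              show (MulAut.conjNormal y : MulAut M) ((MulAut.conjNormal y⁻¹ : MulAut M) s.1.1) = s.1.1
              rw [← MulAut.mul_apply, ← map_mul, mul_inv_cancel, map_one]; rfl)) }
        have hτ : ∀ (i : ℕ) (s : β), (((τ ^ i) s).1 : M) = (MulAut.conjNormal (y ^ i) : MulAut M) s.1.1 :=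
          fun i => by
            induction i with
            | zero => intro s; rw [pow_zero, pow_zero, map_one]; rfl
            | succ i ih =>
              intro s
              rw [pow_succ', Equiv.Perm.mul_apply, pow_succ', map_mul, MulAut.mul_apply, ← ih]
              rfl
        have hτr : τ ^ r ^ 1 = 1 := Equiv.ext fun s => Subtype.ext (Subtype.ext (by
          rw [pow_one, hτ, hyr, map_one]; rfl))
        have hrq1 : ¬ r ∣ q - 1 := fun h' => hdvd (by
          rw [hcard, show q ^ 2 - 1 = (q + 1) * (q - 1) by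
            rw [show (1 : ℕ) = 1 ^ 2 from rfl, Nat.sq_sub_sq]; simp]
          exact (h'.mul_left _).mul_right _)
        obtain ⟨t', ht'⟩ := Equiv.Perm.exists_fixed_point_of_prime (p := r) (n := 1)
          (by rw [← Nat.card_eq_fintype_card, hne_set R.1]; exact hrq1) (σ := τ) hτr
        have ht'y : (MulAut.conjNormal y : MulAut M) t'.1.1 = t'.1.1 :=
          congrArg (fun s : β => (s.1 : M)) ht'
        have ht'o : orderOf t'.1.1 = 2 := order_two_of_sq (SM.sq_of_pgroup R.1.isPGroup' t'.1.2)
          fun e' => t'.2 (Subtype.ext e')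
        set w : M := t₀ * t'.1.1 with hw
        have hwy : Commute y (w : G) := by
          have h2 := congrArg Subtype.val ht'y
          rw [MulAut.conjNormal_apply] at h2
          rw [hw, Subgroup.coe_mul]
          exact hy.mul_right (mul_inv_eq_iff_eq_mul.1 h2)
        obtain ⟨j, l, hl, hjl⟩ := Nat.exists_eq_two_pow_mul_odd (n := orderOf w) (orderOf_pos w).ne'
        have hw2 : w ^ 2 ^ j = 1 := by
          by_contra hne
          have ho : orderOf (w ^ 2 ^ j) = l := by
            rw [orderOf_pow' w (pow_ne_zero _ two_ne_zero), hjl, Nat.gcd_eq_right (dvd_mul_right _ _),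
              Nat.mul_div_cancel_left _ (pow_pos two_pos j)]
          have h1 := S.pow_of_comm_r hyo (x := ((w : G)) ^ 2 ^ j) (hwy.symm.pow_left _)
            (by rw [← Subgroup.coe_pow, Subgroup.orderOf_coe, ho]; exact hl)
          have h2 : l ∣ r := by
            rw [← ho, ← Subgroup.orderOf_coe, Subgroup.coe_pow]
            exact orderOf_dvd_of_pow_eq_one h1
          rcases (Nat.dvd_prime S.prime).1 h2 with h3 | h3
          · exact hne (orderOf_eq_one_iff.1 (ho.trans h3))
          · refine hdvd ?_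
            rw [← h3, ← ho]
            exact orderOf_dvd_natCard _
        have hwsq := SM.sq_eq_one hw2
        have hcomm : t'.1.1 ∈ Subgroup.centralizer {t₀} := by
          rw [Subgroup.mem_centralizer_singleton_iff]
          have ht02 := Invol.mul_self ht₀
          have ht'2 := Invol.mul_self ht'o
          rw [hw] at hwsq
          calc t'.1.1 * t₀ = (t₀ * t₀) * (t'.1.1 * t₀) * (t'.1.1 * t'.1.1) := by
                rw [ht02, ht'2, one_mul, mul_one]
            _ = t₀ * (t₀ * t'.1.1 * (t₀ * t'.1.1)) * t'.1.1 := by group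
            _ = t₀ * t'.1.1 := by rw [hwsq, mul_one]
        rw [hUc P t₀ ht₀U ht₀] at hcomm
        exact R.2 (hTI R.1 P _ t'.1.2 hcomm (ne_one ht'o))
    intro g hg
    have h2r : g ^ (2 * r) = 1 := by
      have ht₀G : orderOf (t₀ : G) = 2 := by rwa [Subgroup.orderOf_coe]
      by_cases he : 2 ∣ orderOf g
      · rcases S.even g he with e' | e'
        · rw [pow_mul, ← e', pow_orderOf_eq_one, one_pow]
        · rw [← e', pow_orderOf_eq_one]
      · by_cases hg1 : g = 1
        · rw [hg1, one_pow]
        rw [mul_comm, pow_mul,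
          ← S.order_of_comm_invol ht₀G hg (Nat.odd_iff.2 (Nat.two_dvd_ne_zero.1 he)) hg1,
          pow_orderOf_eq_one, one_pow]
    have hu := hsmallu (g ^ r) (hg.pow_left r) (by rw [← pow_add, ← two_mul, h2r])
    have hy := hsmally (g ^ (r + 1)) (hg.pow_left _) (by
      obtain ⟨k, hk⟩ := S.odd
      rw [← pow_mul, show (r + 1) * r = 2 * r * (k + 1) by rw [hk]; ring, pow_mul, h2r, one_pow])
    rw [pow_succ] at hy
    exact (M.mul_mem_cancel_left hu).1 hy
  refine (Subgroup.eq_top_iff' M).2 fun g => ?_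
  have hg : orderOf (⟨g * (t₀ : G) * g⁻¹, hMn.conj_mem _ t₀.2 g⟩ : M) = 2 := by
    rw [Subgroup.orderOf_mk, order_conj, Subgroup.orderOf_coe, ht₀]
  obtain ⟨m, hm⟩ := isConj_iff.1 (hone t₀ _ ht₀ hg)
  have hm' : (m : G) * t₀ * (m : G)⁻¹ = g * t₀ * g⁻¹ := congrArg Subtype.val hm
  have h1 : Commute ((m : G)⁻¹ * g) (t₀ : G) := by
    show _ * _ = _ * _
    calc (m : G)⁻¹ * g * t₀ = (m : G)⁻¹ * (g * t₀ * g⁻¹) * g := by group
      _ = (m : G)⁻¹ * ((m : G) * t₀ * (m : G)⁻¹) * g := by rw [hm']
      _ = t₀ * ((m : G)⁻¹ * g) := by group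
  exact (M.mul_mem_cancel_left (M.inv_mem m.2)).1 (hCt _ h1)

end Cfsg.Agent.ThreeOrd
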