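import Cfsg.Agent.Lib.ThreeOrd.Simple
import Cfsg.Agent.Lib.ThreeOrd.Reduce
import Cfsg.Agent.Lib.GW.FieldPart
import Cfsg.Agent.Lib.CNSimple.CITOuter
import Cfsg.Agent.Lib.Fusion.PSL2Simple
import Mathlib.NumberTheory.LegendreSymbol.QuadraticChar.GaussSum

/-!
# A socle `PSL(2, q)`, `q` congruent to three or five modulo eight, is the whole group
-/

set_option autoImplicit false
set_option linter.style.haveILetI false
set_option linter.unusedSectionVars false

namespace Cfsg.Agent.ThreeOrd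

open Cfsg.Agent.CNSimple Cfsg.Agent.Invol Cfsg.Agent.AutPSL

universe u

variable {G : Type u} [Group G] [Finite G] {r : ℕ}

/-- An outer diagonal automorphism of order four. -/
theorem exists_outer_four {F : Type} [Field F] [Fintype F]
    (hq : Fintype.card F % 8 = 3 ∨ Fintype.card F % 8 = 5) :
    ∃ h ∈ Cfsg.inndiagPSL 2 F, h ∉ Cfsg.Inn (Matrix.ProjectiveSpecialLinearGroup (Fin 2) F) ∧
      orderOf h = 4 := by
  have h2 : (2 : F) ≠ 0 := by
    intro h
    haveI : CharP F 2 := CharTwo.of_one_ne_zero_of_two_eq_zero one_ne_zero h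
    obtain ⟨f, -, hf⟩ := FiniteField.card F 2
    have hd : 2 ∣ Fintype.card F := by rw [hf]; exact dvd_pow_self 2 f.ne_zero
    omega
  have hns : ¬ IsSquare (2 : F) := fun h => by
    have := FiniteField.isSquare_two_iff.1 h
    omega
  let g : GL (Fin 2) F := Matrix.GeneralLinearGroup.mkOfDetNeZero !![1, 1; -1, 1] (by
    rw [Matrix.det_fin_two_of]; norm_num; exact h2)
  have hg : (g : Matrix (Fin 2) (Fin 2) F) = !![1, 1; -1, 1] := rfl
  have hg2 : ((g ^ 2 : GL (Fin 2) F) : Matrix (Fin 2) (Fin 2) F) = !![0, 2; -2, 0] := by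
    rw [Units.val_pow_eq_pow_val, hg, pow_two]
    ext i j
    fin_cases i <;> fin_cases j <;> simp [Matrix.mul_apply, Fin.sum_univ_two] <;> ring
  refine ⟨AutPSL.conjHom g, ?_, ?_, ?_⟩
  · rw [← AutPSL.range_conjHom]; exact ⟨g, rfl⟩
  · intro hmem
    obtain ⟨c, hc⟩ := (semi_mem_inn le_rfl g).1 hmem
    refine hns ⟨(c : F), ?_⟩
    have e := congrArg Units.val hc
    rw [powMonoidHom_apply, Units.val_pow_eq_pow_val] at e
    have hd : ((Matrix.GeneralLinearGroup.det g : Fˣ) : F) = 2 := by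
      show (g : Matrix (Fin 2) (Fin 2) F).det = 2
      rw [hg, Matrix.det_fin_two_of]; norm_num
    rw [hd, pow_two] at e
    exact e.symm
  · haveI : Fact (Nat.Prime 2) := ⟨Nat.prime_two⟩
    refine orderOf_eq_prime_pow (p := 2) (n := 1) ?_ ?_
    · rw [← map_pow, pow_one, AutPSL.conjHom_apply, semi_eq_one_iff le_rfl]
      rintro ⟨-, c, hc⟩
      have e : ((g ^ 2 : GL (Fin 2) F) : Matrix (Fin 2) (Fin 2) F) 0 1 =
          ((Matrix.GeneralLinearGroup.scalar (Fin 2) c : GL (Fin 2) F) : Matrix (Fin 2) (Fin 2) F) 0 1 :=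
        congrArg (fun A : GL (Fin 2) F => (A : Matrix (Fin 2) (Fin 2) F) 0 1) hc
      rw [hg2] at e
      exact h2 (by simpa using e)
    · rw [← map_pow, AutPSL.conjHom_apply, semi_eq_one_iff le_rfl]
      refine ⟨rfl, Units.mk0 (-4 : F) ?_, Units.ext ?_⟩
      · rw [show (-4 : F) = -(2 * 2) by norm_num]
        exact neg_ne_zero.2 (mul_ne_zero h2 h2)
      · rw [show g ^ 2 ^ (1 + 1) = g ^ 2 * g ^ 2 by rw [← pow_add]; norm_num, Units.val_mul, hg2]
        ext i j
        fin_cases i <;> fin_cases j <;> simp [Matrix.mul_apply, Fin.sum_univ_two] <;> ring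

/-- A socle `PSL(2, q)` with `q ≡ 3, 5 (mod 8)`, `q > 5`, is the whole group. -/
theorem Spec.eq_top_odd (S : Spec G r) (M : Subgroup G) [hMn : M.Normal] [IsSimpleGroup M]
    (hC : Subgroup.centralizer (M : Set G) = ⊥) {F : Type} [Field F] [Fintype F]
    (hq5 : 5 < Fintype.card F) (hq : Fintype.card F % 8 = 3 ∨ Fintype.card F % 8 = 5)
    (e : M ≃* Matrix.ProjectiveSpecialLinearGroup (Fin 2) F) : M = ⊤ := by
  classical
  haveI : Fact (Nat.Prime 2) := ⟨Nat.prime_two⟩
  set q := Fintype.card F with hqdef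
  have hodd : Odd q := Nat.odd_iff.2 (by omega)
  obtain ⟨p, f, hp, hf⟩ : ∃ p f, p.Prime ∧ q = p ^ f := by
    obtain ⟨p, hp⟩ := CharP.exists F
    obtain ⟨i, hpp, hi⟩ := FiniteField.card F p
    exact ⟨p, i, hpp, hi⟩
  haveI := Fact.mk hp
  have hfodd : Odd f := by
    rcases Nat.even_or_odd f with ⟨k, hk⟩ | h
    · exfalso
      have hsq : q = p ^ k * p ^ k := by rw [hf, hk, pow_add]
      have h8 : (p ^ k % 8) * (p ^ k % 8) % 8 = q % 8 := by rw [hsq, Nat.mul_mod]; simp [Nat.mod_mod]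
      have hlt : p ^ k % 8 < 8 := Nat.mod_lt _ (by norm_num)
      generalize p ^ k % 8 = a at h8 hlt
      interval_cases a <;> omega
    · exact h
  -- the prime `r`
  have SM : Spec M r := S.subgroup M
  have SP : Spec (Matrix.ProjectiveSpecialLinearGroup (Fin 2) F) r :=
    SM.of_injective e.symm.toMonoidHom e.symm.injective
  obtain ⟨hm1, hp1⟩ := exists_order_half (F := F) hodd
  have hq4 : q = 4 * r + 1 ∨ q + 1 = 4 * r := by
    rcases hq with h | h
    · obtain ⟨g, hg⟩ := hp1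
      rw [← hqdef] at hg
      rcases SP.even g (by rw [hg]; omega) with e1 | e1 <;> rw [hg] at e1 <;> omega
    · obtain ⟨g, hg⟩ := hm1
      rw [← hqdef] at hg
      rcases SP.even g (by rw [hg]; omega) with e1 | e1 <;> rw [hg] at e1 <;> omega
  have hrf : ¬ r ∣ f := fun hd => by
    have hr3 : 3 ≤ r := by have := S.prime.two_le; have := S.ne_two; omega
    have hp3 : 3 ≤ p := by
      by_contra hlt
      have hp2 : p = 2 := by have := hp.two_le; omega
      have : 2 ∣ q := by rw [hf, hp2]; exact dvd_pow_self 2 (Odd.pos hfodd).ne'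
      obtain ⟨k, hk⟩ := hodd
      omega
    have hbig : ∀ n : ℕ, 3 ≤ n → 4 * n + 1 < 3 ^ n := fun n hn => by
      induction n, hn using Nat.le_induction with
      | base => norm_num
      | succ n hn ih => rw [pow_succ]; omega
    have h1 : 3 ^ r ≤ q := by
      rw [hf]
      exact (Nat.pow_le_pow_right (by norm_num) (Nat.le_of_dvd (Odd.pos hfodd) hd)).trans
        (Nat.pow_le_pow_left hp3 f)
    have := hbig r hr3
    omega
  -- inner-diagonal images
  set φ := autMap e with hφ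
  have hinj := autMap_injective e hC
  have hfld : ∀ g : G, Nat.Coprime (orderOf g) f → φ g ∈ Cfsg.inndiagPSL 2 F := fun g hco => by
    rw [GW.mem_inndiag_iff_fld]
    exact orderOf_eq_one_iff.1 (Nat.eq_one_of_dvd_coprimes hco
      ((orderOf_map_dvd GW.fldHom _).trans (orderOf_map_dvd φ g))
      (AutPSL.orderOf_dvd_exponent p f hf _))
  have hinn : ∀ g : G, φ g ∈ Cfsg.Inn (Matrix.ProjectiveSpecialLinearGroup (Fin 2) F) → g ∈ M :=
    fun g ⟨a, ha⟩ => mem_of_conj e hC ha.symm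
  obtain ⟨t, ht⟩ : ∃ t : M, orderOf t = 2 := by
    rcases hq with h | h
    · obtain ⟨g, hg⟩ := hp1
      obtain ⟨a, ha⟩ := exists_order_of_dvd (g := e.symm g) (d := 2)
        (by rw [MulEquiv.orderOf_eq, hg, ← hqdef]; omega)
      exact ⟨a, ha⟩
    · obtain ⟨g, hg⟩ := hm1
      obtain ⟨a, ha⟩ := exists_order_of_dvd (g := e.symm g) (d := 2)
        (by rw [MulEquiv.orderOf_eq, hg, ← hqdef]; omega)
      exact ⟨a, ha⟩
  have htG : orderOf (t : G) = 2 := by rwa [Subgroup.orderOf_coe]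
  have hu : ∀ u : G, u * u = 1 → u ∈ M := by
    intro u hu2
    by_contra huM
    have hd := hfld u ((Nat.Coprime.coprime_dvd_left (orderOf_dvd_of_pow_eq_one
      (show u ^ 2 = 1 by rw [pow_two, hu2])) ((Nat.coprime_two_left).2 hfodd)))
    obtain ⟨h, hh, hhout, hh4⟩ := exists_outer_four (F := F) hq
    have hprod := (GW.inn_mul_mem hodd hd hh).2 ⟨fun h' => absurd (hinn u h') huM, fun h' => absurd h' hhout⟩
    obtain ⟨a, ha⟩ := hprod
    have hz : φ (u⁻¹ * ((e.symm a : M) : G)) = h := by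
      rw [map_mul, map_inv, hφ, autMap_symm, ha, inv_mul_cancel_left]
    exact S.no_four (u⁻¹ * ((e.symm a : M) : G))
      (by rw [← orderOf_injective φ hinj, hz, hh4])
  have hy : ∀ y : G, y ^ r = 1 → y ∈ M := by
    intro y hyr
    have hd := hfld y (Nat.Coprime.coprime_dvd_left (orderOf_dvd_of_pow_eq_one hyr)
      ((S.prime.coprime_iff_not_dvd).2 hrf))
    obtain ⟨k, hk⟩ := S.odd
    have h2 : φ (y ^ (k + 1) * y ^ (k + 1)) ∈ Cfsg.Inn (Matrix.ProjectiveSpecialLinearGroup (Fin 2) F) := by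
      rw [map_mul]
      exact (GW.inn_mul_mem hodd (by rw [map_pow]; exact pow_mem hd _) (by rw [map_pow]; exact pow_mem hd _)).2
        Iff.rfl
    have := hinn _ h2
    rwa [← pow_add, show k + 1 + (k + 1) = r + 1 by omega, pow_succ, hyr, one_mul] at this
  have hCt : ∀ g : G, Commute g (t : G) → g ∈ M := by
    intro g hg
    have h2r : g ^ (2 * r) = 1 := by
      by_cases he : 2 ∣ orderOf g
      · rcases S.even g he with e' | e'
        · rw [pow_mul, ← e', pow_orderOf_eq_one, one_pow]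
        · rw [← e', pow_orderOf_eq_one]
      · by_cases hg1 : g = 1
        · rw [hg1, one_pow]
        rw [mul_comm, pow_mul,
          ← S.order_of_comm_invol htG hg (Nat.odd_iff.2 (Nat.two_dvd_ne_zero.1 he)) hg1,
          pow_orderOf_eq_one, one_pow]
    have hu' := hu (g ^ r) (by rw [← pow_add, ← two_mul, h2r])
    have hy' := hy (g ^ (r + 1)) (by
      obtain ⟨k, hk⟩ := S.odd
      rw [← pow_mul, show (r + 1) * r = 2 * r * (k + 1) by rw [hk]; ring, pow_mul, h2r, one_pow])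
    rw [pow_succ] at hy'
    exact (M.mul_mem_cancel_left hu').1 hy'
  refine (Subgroup.eq_top_iff' M).2 fun g => ?_
  have hg : orderOf (⟨g * (t : G) * g⁻¹, hMn.conj_mem _ t.2 g⟩ : M) = 2 := by
    rw [Subgroup.orderOf_mk, order_conj, htG]
  obtain ⟨c, hc⟩ := isConj_iff.1 (FusionSys.involutions_conj (F := F) (Nat.odd_iff.1 hodd)
    (show orderOf (e t) = 2 by rw [MulEquiv.orderOf_eq, ht])
    (show orderOf (e ⟨g * (t : G) * g⁻¹, hMn.conj_mem _ t.2 g⟩) = 2 by rw [MulEquiv.orderOf_eq, hg]))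
  have hm : e.symm c * t * (e.symm c)⁻¹ = ⟨g * (t : G) * g⁻¹, hMn.conj_mem _ t.2 g⟩ := by
    apply e.injective
    rw [map_mul, map_mul, map_inv, e.apply_symm_apply, hc]
  have hm' : ((e.symm c : M) : G) * t * ((e.symm c : M) : G)⁻¹ = g * t * g⁻¹ := congrArg Subtype.val hm
  set m : G := ((e.symm c : M) : G)
  have h1 : Commute (m⁻¹ * g) (t : G) := by
    show _ * _ = _ * _
    calc m⁻¹ * g * t = m⁻¹ * (g * t * g⁻¹) * g := by group
      _ = m⁻¹ * (m * t * m⁻¹) * g := by rw [hm']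
      _ = t * (m⁻¹ * g) := by group
  exact (M.mul_mem_cancel_left (M.inv_mem (e.symm c).2)).1 (hCt _ h1)

end Cfsg.Agent.ThreeOrd
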