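import Cfsg.Agent.Lib.ThreeOrd.Reduce
import Cfsg.Agent.Lib.EightSylow.Setup
import Mathlib.GroupTheory.Abelianization.Defs

/-!
# Sylow `2`-subgroups of order at least eight: the local setting

The cores of the centralisers of the involutions of the Sylow subgroup generate an `r`-group `W`,
and `M = W N(S)` is strongly embedded.
-/

set_option autoImplicit false
set_option linter.style.haveILetI false
set_option linter.unusedSectionVars false

namespace Cfsg.Agent.ThreeOrd

open Cfsg.Agent.CNSimple (Ct mem_Ct)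
open Cfsg.Agent.Invol (order_two_of_sq)

universe u

variable {G : Type u} [Group G] [Finite G] {r : ℕ}

theorem Spec.pow_comm_invol (S : Spec G r) {t g : G} (ht : orderOf t = 2) (hc : Commute g t) :
    g ^ (2 * r) = 1 := by
  by_cases he : 2 ∣ orderOf g
  · rcases S.even g he with e | e
    · rw [pow_mul, ← e, pow_orderOf_eq_one, one_pow]
    · rw [← e, pow_orderOf_eq_one]
  · by_cases hg : g = 1
    · rw [hg, one_pow]
    rw [mul_comm, pow_mul,
      ← S.order_of_comm_invol ht hc (Nat.odd_iff.2 (Nat.two_dvd_ne_zero.1 he)) hg,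
      pow_orderOf_eq_one, one_pow]

theorem Spec.odd_comm_invol (S : Spec G r) {t g : G} (ht : orderOf t = 2) (hc : Commute g t)
    (ho : Odd (orderOf g)) : g ^ r = 1 := by
  by_cases hg : g = 1
  · rw [hg, one_pow]
  · rw [← S.order_of_comm_invol ht hc ho hg, pow_orderOf_eq_one]

theorem Spec.odd_pow_of_dvd (S : Spec G r) {g : G} (hd : r ∣ orderOf g) (ho : Odd (orderOf g)) :
    g ^ r = 1 := by
  rcases S.rdiv g hd with e | e
  · rw [← e, pow_orderOf_eq_one]
  · rw [e] at ho
    exact absurd ho (Nat.not_odd_iff_even.2 (even_two_mul r))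

theorem Spec.odd_of_pow (S : Spec G r) {g : G} (hg : g ^ r = 1) : Odd (orderOf g) :=
  S.odd.of_dvd_nat (orderOf_dvd_of_pow_eq_one hg)

/-- The `r'`-part: an element with an `r`-power order dividing `r * r`. -/
theorem Spec.pow_of_sq_pow (S : Spec G r) {g : G} (hg : g ^ (r * r) = 1) : g ^ r = 1 := by
  by_cases hd : r ∣ orderOf g
  · exact S.odd_pow_of_dvd hd ((S.odd.mul S.odd).of_dvd_nat (orderOf_dvd_of_pow_eq_one hg))
  · have h1 : orderOf g = 1 := Nat.eq_one_of_dvd_coprimes
      ((S.prime.coprime_iff_not_dvd.2 hd).symm.mul_right (S.prime.coprime_iff_not_dvd.2 hd).symm)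
      dvd_rfl (orderOf_dvd_of_pow_eq_one hg)
    rw [orderOf_eq_one_iff.1 h1, one_pow]

/-- An element of order prime to `p` and to `r` acting fixed point freely forces centralisation. -/
theorem Spec.centralises (S : Spec G r) (P : Subgroup G) (hsq : ∀ s ∈ P, s * s = 1) {y : G} {p : ℕ}
    (hp : p.Prime) (hp2 : p ≠ 2) (hyo : orderOf y = p) (hy : y ∈ Subgroup.normalizer (P : Set G))
    (hfree : FpfPow P y p) (W : Subgroup G) (hW : ∀ w ∈ W, w ^ r = 1)
    (hPW : P ≤ Subgroup.normalizer (W : Set G)) (hyW : y ∈ Subgroup.normalizer (W : Set G)) :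
    ∀ w ∈ W, ∀ s ∈ P, s * w = w * s := by
  classical
  suffices key : ∀ (n : ℕ) (N : Subgroup G), Nat.card N = n → N ≤ W →
      P ≤ Subgroup.normalizer (N : Set G) → y ∈ Subgroup.normalizer (N : Set G) →
      ∀ w ∈ N, ∀ s ∈ P, s * w = w * s from key _ W rfl le_rfl hPW hyW
  intro n
  induction n using Nat.strong_induction_on with
  | _ n ih =>
    intro N hn hNW hPN hyN w hw s hs
    by_cases hN1 : N = ⊥
    · rw [hN1, Subgroup.mem_bot] at hw
      rw [hw, mul_one, one_mul]
    haveI := Fact.mk S.prime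
    haveI : Nontrivial N := (Subgroup.nontrivial_iff_ne_bot N).2 hN1
    have hNr : IsPGroup r N := fun z => ⟨1, Subtype.ext (by
      rw [pow_one, Subgroup.coe_pow, Subgroup.coe_one]; exact hW z (hNW z.2))⟩
    haveI : Group.IsNilpotent N := hNr.isNilpotent
    set D := (commutator N).map N.subtype with hD
    have hDN : D ≤ N := Subgroup.map_subtype_le _
    have hDlt : Nat.card D < n := by
      rw [hD, Subgroup.card_map_of_injective N.subtype_injective, ← hn]
      refine lt_of_le_of_ne (Subgroup.card_le_card_group _) fun e => ?_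
      exact (Group.IsSolvable.commutator_lt_top_of_nontrivial (G := N)).ne
        (Subgroup.eq_top_of_card_eq _ e)
    have hnorm : Subgroup.normalizer (N : Set G) ≤ Subgroup.normalizer (D : Set G) := by
      intro g hg
      haveI : (commutator N).Characteristic := inferInstance
      refine Subgroup.mem_normalizer_fintype fun x hx => ?_
      obtain ⟨z, hz, rfl⟩ := hx
      refine ⟨N.normalizerMonoidHom ⟨g, hg⟩ z, ?_, rfl⟩
      have hfix := Subgroup.Characteristic.fixed (H := commutator N) inferInstance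
        (N.normalizerMonoidHom ⟨g, hg⟩)
      have hz' : z ∈ (commutator N).comap (N.normalizerMonoidHom ⟨g, hg⟩).toMonoidHom := by
        rw [hfix]; exact hz
      exact hz'
    have hDc : ∀ c ∈ D, ∀ a ∈ P, a * c = c * a :=
      ih _ hDlt D rfl (hDN.trans hNW) (hPN.trans hnorm) (hnorm hyN)
    -- the action on the abelianisation
    let H : Subgroup G := Subgroup.normalizer (N : Set G)
    let ρ : H →* MulAut (Abelianization N) :=
      { toFun := fun g => (N.normalizerMonoidHom g).abelianizationCongr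
        map_one' := by
          refine MulEquiv.ext fun v => ?_
          obtain ⟨v, rfl⟩ := QuotientGroup.mk_surjective v
          show Abelianization.of (N.normalizerMonoidHom 1 v) = Abelianization.of v
          rw [map_one, MulAut.one_apply]
        map_mul' := fun g g' => by
          refine MulEquiv.ext fun v => ?_
          obtain ⟨v, rfl⟩ := QuotientGroup.mk_surjective v
          show Abelianization.of (N.normalizerMonoidHom (g * g') v) =
            Abelianization.of (N.normalizerMonoidHom g (N.normalizerMonoidHom g' v))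
          rw [map_mul, MulAut.mul_apply] }
    have hρ : ∀ (g : H) (v : N),
        ρ g (Abelianization.of v) = Abelianization.of (N.normalizerMonoidHom g v) := fun g v => rfl
    have hcoe : ∀ (g : H) (v : N), ((N.normalizerMonoidHom g v : N) : G) = g * v * (g : G)⁻¹ :=
      fun g v => rfl
    set A := P.subgroupOf H with hA
    set y' : H := ⟨y, hyN⟩ with hy'
    have hAy : ∀ a ∈ A, y' * a * y'⁻¹ ∈ A := fun a ha => (Subgroup.mem_normalizer_iff.1 hy a).1 ha
    have hfree' : FpfPow A y' p := fun i hi hip a ha hc =>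
      Subtype.ext (hfree i hi hip a ha (congrArg Subtype.val hc.eq))
    have hco : ∀ v : Abelianization N, v ^ Nat.card A = 1 → v = 1 := by
      intro v hv
      obtain ⟨z, rfl⟩ := QuotientGroup.mk_surjective v
      have hP2 : IsPGroup 2 A := fun a => ⟨1, Subtype.ext (Subtype.ext (by
        simpa [pow_two] using hsq _ a.2))⟩
      obtain ⟨k, hk⟩ := IsPGroup.iff_card.1 hP2
      refine orderOf_eq_one_iff.1 (Nat.eq_one_of_dvd_coprimes
        (((Nat.coprime_primes Nat.prime_two S.prime).2 S.ne_two.symm).pow_left k)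
        (hk ▸ orderOf_dvd_of_pow_eq_one hv) (orderOf_dvd_of_pow_eq_one ?_))
      show Abelianization.of z ^ r = 1
      rw [← map_pow, show z ^ r = 1 from Subtype.ext (by simpa using hW z (hNW z.2)), map_one]
    have htriv : ∀ a ∈ A, ∀ v, ρ a v = v := by
      by_contra hcon
      push Not at hcon
      obtain ⟨a, ha, v, hav⟩ := hcon
      obtain ⟨q, -, v, hv⟩ := exists_norm_ne ρ A hAy hp.pos hfree' hco ⟨a, ha, v, hav⟩
      obtain ⟨v, rfl⟩ := QuotientGroup.mk_surjective v
      set z : H := q * y' * q⁻¹ with hz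
      have hzo : orderOf (z : G) = p := by
        rw [hz, Subgroup.coe_mul, Subgroup.coe_mul, Subgroup.coe_inv, Invol.order_conj]
        exact hyo
      have hzp : (z : G) ^ p = 1 := hzo ▸ pow_orderOf_eq_one (z : G)
      clear_value z
      have hkey : ∀ i, ∃ u : N, ((v : G) * (z : G)) ^ i = (u : G) * (z : G) ^ i ∧
          Abelianization.of u = ∏ j ∈ Finset.range i, ρ (q * y' ^ j * q⁻¹) (Abelianization.of v) := by
        intro i
        induction i with
        | zero => exact ⟨1, by simp, by simp⟩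
        | succ i ih =>
          obtain ⟨u, hu, hu'⟩ := ih
          refine ⟨u * N.normalizerMonoidHom (z ^ i) v, ?_, ?_⟩
          · rw [pow_succ, hu, Subgroup.coe_mul, hcoe, Subgroup.coe_pow, pow_succ]
            group
          · rw [map_mul, hu', Finset.prod_range_succ, ← hρ, hz, _root_.conj_pow]
      obtain ⟨u, hu, hu'⟩ := hkey p
      rw [hzp, mul_one] at hu
      have hu1 : (u : G) ≠ 1 := fun e => hv (by
        refine hu'.symm.trans ?_
        rw [show u = 1 from Subtype.ext e, map_one])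
      set x := (v : G) * (z : G) with hx
      have hxpr : x ^ (p * r) = 1 := by rw [pow_mul, hu]; exact hW _ (hNW u.2)
      have hodd : Odd (orderOf x) :=
        ((hp.odd_of_ne_two hp2).mul S.odd).of_dvd_nat (orderOf_dvd_of_pow_eq_one hxpr)
      have hrx : r ∣ orderOf x := by
        by_contra hrx
        refine hu1 (hu.symm.trans (orderOf_dvd_iff_pow_eq_one.1 ?_))
        exact (S.prime.coprime_iff_not_dvd.2 hrx).symm.dvd_of_dvd_mul_right
          (orderOf_dvd_of_pow_eq_one hxpr)
      have hxr : x ^ r = 1 := S.odd_pow_of_dvd hrx hodd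
      by_cases hpr : p = r
      · subst hpr; exact hu1 (hu.symm.trans hxr)
      · obtain ⟨u', hu'', -⟩ := hkey r
        rw [hxr] at hu''
        have hzN : (z : G) ^ r ∈ N := by
          rw [← inv_eq_of_mul_eq_one_right hu''.symm]
          exact inv_mem u'.2
        have h1 : ((z : G) ^ r) ^ r = 1 := hW _ (hNW hzN)
        rw [← pow_mul] at h1
        have h2 := orderOf_dvd_of_pow_eq_one h1
        rw [hzo] at h2
        exact hpr ((Nat.prime_dvd_prime_iff_eq hp S.prime).1 ((hp.dvd_mul.1 h2).elim id id))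
    set a : H := ⟨s, hPN hs⟩ with ha
    set w' : N := ⟨w, hw⟩ with hw'
    have hmk := htriv a hs (Abelianization.of w')
    rw [hρ] at hmk
    set c : G := w⁻¹ * (s * w * s⁻¹) with hc
    have hcD : c ∈ D := by
      refine ⟨w'⁻¹ * N.normalizerMonoidHom a w', ?_, ?_⟩
      · exact QuotientGroup.eq.1 hmk.symm
      · show (w' : G)⁻¹ * ((N.normalizerMonoidHom a w' : N) : G) = c
        rw [hcoe]
    have hcs : s * c = c * s := hDc c hcD s hs
    have hc2 : c * c = 1 := by
      have e1 : s * w * s⁻¹ = w * c := by rw [hc]; group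
      have e2 : s * (s * w * s⁻¹) * s⁻¹ = w := by
        rw [show s * (s * w * s⁻¹) * s⁻¹ = (s * s) * w * (s * s)⁻¹ by group, hsq s hs, one_mul,
          inv_one, mul_one]
      rw [e1, show s * (w * c) * s⁻¹ = s * w * s⁻¹ * (s * c * s⁻¹) by group, e1, hcs,
        mul_inv_cancel_right, mul_assoc] at e2
      exact mul_eq_left.1 e2
    have hcr : c ^ r = 1 := hW _ (hNW (hDN hcD))
    have hc1 : c = 1 := orderOf_eq_one_iff.1 (Nat.eq_one_of_dvd_coprimes
      ((Nat.coprime_primes Nat.prime_two S.prime).2 S.ne_two.symm)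
      (orderOf_dvd_of_pow_eq_one (by rw [pow_two, hc2])) (orderOf_dvd_of_pow_eq_one hcr))
    rw [hc, inv_mul_eq_one] at hc1
    conv_rhs => rw [hc1]
    group

/-- In a soluble group with abelian Sylow subgroup `T` every element is a core element times a
normalising one. -/
theorem frattini_decomp {H : Type*} [Group H] [Finite H] [Group.IsSolvable H] {p : ℕ} [Fact p.Prime]
    (T : Sylow p H) (hT : IsMulCommutative T) (g : H) :
    ∃ c ∈ Cfsg.pPrimeCore p H, ∃ n ∈ Subgroup.normalizer ((T : Subgroup H) : Set H), g = c * n := by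
  haveI hOn : (Cfsg.pPrimeCore p H).Normal := FittingCores.pPrimeCore_normal p
  haveI := S0018.result p T hT
  have htop := Sylow.normalizer_sup_eq_top' T (N := (T : Subgroup H) ⊔ Cfsg.pPrimeCore p H) le_sup_left
  have hle : (⊤ : Subgroup H) ≤
      Cfsg.pPrimeCore p H ⊔ Subgroup.normalizer ((T : Subgroup H) : Set H) := by
    rw [← htop]
    exact sup_le le_sup_right (sup_le (Subgroup.le_normalizer.trans le_sup_right) le_sup_left)
  have hg : g ∈ ((Cfsg.pPrimeCore p H ⊔ Subgroup.normalizer ((T : Subgroup H) : Set H) :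
      Subgroup H) : Set H) := hle (Subgroup.mem_top g)
  rw [Subgroup.normal_mul] at hg
  obtain ⟨c, hc, n, hn, rfl⟩ := hg
  exact ⟨c, hc, n, hn, rfl⟩

theorem map_mem_normalizer {H : Subgroup G} {T : Subgroup H} {n : H}
    (hn : n ∈ Subgroup.normalizer (T : Set H)) :
    (n : G) ∈ Subgroup.normalizer ((T.map H.subtype : Subgroup G) : Set G) :=
  Subgroup.le_normalizer_map H.subtype ⟨n, hn, rfl⟩

/-- A simple group of the second kind with a Sylow `2`-subgroup of order at least eight. -/
structure Big (r : ℕ) (P : Sylow 2 G) : Prop where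
  spec : Spec G r
  simple : IsSimpleGroup G
  nonsolv : ¬ Group.IsSolvable G
  card : 8 ≤ Nat.card (P : Subgroup G)

/-- The normaliser of the Sylow subgroup. -/
abbrev NP (P : Sylow 2 G) : Subgroup G := Subgroup.normalizer ((P : Subgroup G) : Set G)

/-- The centraliser of the Sylow subgroup. -/
abbrev CP (P : Sylow 2 G) : Subgroup G := Subgroup.centralizer ((P : Subgroup G) : Set G)

namespace Big

variable {P : Sylow 2 G} (h : Big r P)
include h

theorem sq {x : G} (hx : x ∈ (P : Subgroup G)) : x * x = 1 := h.spec.sq_of_pgroup P.isPGroup' hx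

theorem comm {x y : G} (hx : x ∈ (P : Subgroup G)) (hy : y ∈ (P : Subgroup G)) : x * y = y * x :=
  h.spec.comm_of_pgroup P.isPGroup' hx hy

theorem inv_eq {x : G} (hx : x ∈ (P : Subgroup G)) : x⁻¹ = x :=
  inv_eq_of_mul_eq_one_right (h.sq hx)

theorem order2 {x : G} (hx : x ∈ (P : Subgroup G)) (h1 : x ≠ 1) : orderOf x = 2 :=
  order_two_of_sq (h.sq hx) h1

theorem le_Ct {a : G} (ha : a ∈ (P : Subgroup G)) : (P : Subgroup G) ≤ Ct a := fun _ hx =>
  mem_Ct.2 (h.comm hx ha)

theorem le_CP : (P : Subgroup G) ≤ CP P := fun _ hx =>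
  Subgroup.mem_centralizer_iff.2 fun _ hy => h.comm hy hx

theorem isMulCommutative : IsMulCommutative (P : Subgroup G) :=
  ⟨⟨fun x y => Subtype.ext (h.comm x.2 y.2)⟩⟩

theorem elementary : Cfsg.IsElementaryAbelian 2 (P : Subgroup G) :=
  ⟨h.isMulCommutative, fun x hx => by rw [pow_two]; exact h.sq hx⟩

theorem exists_ne : ∃ a ∈ (P : Subgroup G), a ≠ 1 := by
  have := h.card
  haveI : Nontrivial (P : Subgroup G) := Finite.one_lt_card_iff_nontrivial.1 (by omega)
  obtain ⟨a, ha⟩ := _root_.exists_ne (1 : (P : Subgroup G))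
  exact ⟨a, a.2, fun e => ha (Subtype.ext e)⟩

theorem le_of_centralizers {X Y : Subgroup G} (hX : ¬ 2 ∣ Nat.card X)
    (hn : (P : Subgroup G) ≤ Subgroup.normalizer (X : Set G))
    (hY : ∀ a ∈ (P : Subgroup G), a ≠ 1 → X ⊓ Ct a ≤ Y) : X ≤ Y := by
  haveI : Fact (Nat.Prime 2) := ⟨Nat.prime_two⟩
  exact Signalizer.le_of_centralizer_le h.elementary (le_trans (by norm_num) h.card) hn hX hY

/-- Elements of the normaliser of square one lie in the Sylow subgroup. -/
theorem mem_of_sq {t : G} (ht : t ∈ NP P) (h2 : t * t = 1) : t ∈ (P : Subgroup G) := by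
  haveI : Fact (Nat.Prime 2) := ⟨Nat.prime_two⟩
  have hz : IsPGroup 2 (Subgroup.zpowers t) := by
    refine IsPGroup.of_card_dvd_pow (n := 1) ?_
    rw [Nat.card_zpowers]
    exact orderOf_dvd_of_pow_eq_one (by rw [pow_one, pow_two, h2])
  have hle := IsPGroup.to_sup_of_normal_right' hz P.isPGroup' (Subgroup.zpowers_le.2 ht)
  exact (P.is_maximal' hle le_sup_right).le (Subgroup.mem_sup_left (Subgroup.mem_zpowers _))

/-- An odd element of `C(P)` has order dividing `r`. -/
theorem odd_CP {x : G} (hx : x ∈ CP P) (ho : Odd (orderOf x)) : x ^ r = 1 := by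
  obtain ⟨a, ha, ha1⟩ := h.exists_ne
  exact h.spec.odd_comm_invol (h.order2 ha ha1) (Subgroup.mem_centralizer_iff.1 hx a ha).symm ho

theorem solvable_le {H : Subgroup G} (hH : Group.IsSolvable H) (hPH : (P : Subgroup G) ≤ H) {g : G}
    (hg : g ∈ H) : ∃ w ∈ EightSylow.core' 2 H, ∃ n ∈ NP P, n ∈ H ∧ g = w * n := by
  haveI : Fact (Nat.Prime 2) := ⟨Nat.prime_two⟩
  haveI := hH
  obtain ⟨c, hc, n, hn, e⟩ := frattini_decomp (P.subtype hPH)
    ⟨⟨fun x y => Subtype.ext (Subtype.ext (h.comm x.2 y.2))⟩⟩ (⟨g, hg⟩ : H)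
  refine ⟨c, ⟨c, hc, rfl⟩, n, ?_, n.2, congrArg Subtype.val e⟩
  have := map_mem_normalizer hn
  rwa [Sylow.coe_subtype, Subgroup.map_subgroupOf_eq_of_le hPH] at this

/-- Odd subgroups normalised by `P` lie in the core. -/
theorem le_core {H X : Subgroup G} (hH : Group.IsSolvable H) (hPH : (P : Subgroup G) ≤ H) (hXH : X ≤ H)
    (hX : ¬ 2 ∣ Nat.card X) (hn : (P : Subgroup G) ≤ Subgroup.normalizer (X : Set G)) :
    X ≤ EightSylow.core' 2 H := by
  haveI : Fact (Nat.Prime 2) := ⟨Nat.prime_two⟩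
  haveI := hH
  intro x hx
  haveI hOn : (Cfsg.pPrimeCore 2 H).Normal := FittingCores.pPrimeCore_normal 2
  set f := QuotientGroup.mk' (Cfsg.pPrimeCore 2 H) with hf
  haveI : Group.IsSolvable (H ⧸ Cfsg.pPrimeCore 2 H) :=
    Group.isSolvable_of_surjective (QuotientGroup.mk'_surjective _)
  set R := Cfsg.pCore 2 (H ⧸ Cfsg.pPrimeCore 2 H) with hR
  haveI hRn : R.Normal := FittingCores.pCore_normal 2
  set T := (P.subtype hPH).mapSurjective (QuotientGroup.mk'_surjective (Cfsg.pPrimeCore 2 H)) with hT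
  set X' := (X.subgroupOf H).map f with hX'
  have hX'odd : ¬ 2 ∣ Nat.card X' := fun hd => hX (hd.trans ((Subgroup.card_map_dvd _ f).trans
    (Nat.card_congr (Subgroup.subgroupOfEquivOfLe hXH).toEquiv).dvd))
  have hR2 : IsPGroup 2 R := FittingCores.pCore_isPGroup 2
  set x' : H := ⟨x, hXH hx⟩ with hx'
  have hxX' : f x' ∈ X' := ⟨x', hx, rfl⟩
  have hcent : f x' ∈ Subgroup.centralizer (R : Set (H ⧸ Cfsg.pPrimeCore 2 H)) := by
    refine Subgroup.mem_centralizer_iff.2 fun y hy => ?_
    have hyT := FittingCores.pCore_le_sylow T hy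
    rw [hT, Sylow.coe_mapSurjective] at hyT
    obtain ⟨p, hp, hpy⟩ := hyT
    have h1 : y * f x' * y⁻¹ * (f x')⁻¹ ∈ X' := by
      refine mul_mem ?_ (inv_mem hxX')
      rw [← hpy, ← map_inv, ← map_mul, ← map_mul]
      exact ⟨_, (Subgroup.mem_normalizer_iff.1 (hn hp) x).1 hx, rfl⟩
    have h2 : y * f x' * y⁻¹ * (f x')⁻¹ ∈ R := by
      rw [show y * f x' * y⁻¹ * (f x')⁻¹ = y * (f x' * y⁻¹ * (f x')⁻¹) by group]
      exact mul_mem hy (hRn.conj_mem _ (inv_mem hy) _)
    have h3 := EightSylow.eq_one_of_odd_two hX'odd hR2 h1 h2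
    rw [mul_inv_eq_one, mul_inv_eq_iff_eq_mul] at h3
    exact h3
  have hmem : f x' ∈ R := FittingCores.centralizer_pCore_le Nat.prime_two
    (FittingCores.pPrimeCore_quotient_eq_bot 2 _ rfl) hcent
  exact ⟨x', (QuotientGroup.eq_one_iff x').1 (EightSylow.eq_one_of_odd_two hX'odd hR2 hxX' hmem), rfl⟩

theorem solvable_Ct {a : G} (ha : a ∈ (P : Subgroup G)) (ha1 : a ≠ 1) : Group.IsSolvable (Ct a) :=
  h.spec.solvable_centralizer (h.order2 ha ha1)

theorem theta_pow {a : G} (ha : a ∈ (P : Subgroup G)) (ha1 : a ≠ 1) {x : G}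
    (hx : x ∈ EightSylow.theta a) : x ^ r = 1 := by
  refine h.spec.odd_comm_invol (h.order2 ha ha1) (EightSylow.mem_C.1 (EightSylow.theta_le a hx)) ?_
  rw [← Nat.not_even_iff_odd, even_iff_two_dvd]
  exact fun e => EightSylow.theta_not_dvd a (e.trans (Subgroup.orderOf_dvd_natCard _ hx))

theorem W_data : ¬ 2 ∣ Nat.card (EightSylow.W P) ∧
    ∀ a ∈ (P : Subgroup G), a ≠ 1 → EightSylow.W P ⊓ Ct a = EightSylow.theta a := by
  haveI : Fact (Nat.Prime 2) := ⟨Nat.prime_two⟩
  refine S0217.result (p := 2) (P : Subgroup G) (fun x hx y hy => h.comm hx hy)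
    (fun x hx => by rw [pow_two]; exact h.sq hx) h.card EightSylow.theta
    (fun a _ _ => EightSylow.theta_le a) (fun a _ _ => EightSylow.theta_not_dvd a) ?_ ?_ ?_
  · intro a ha _ b hb x hx
    have := EightSylow.conj_mem_theta a b x hx
    rwa [EightSylow.conj_eq_iff_mem_C.2 (h.le_Ct ha hb)] at this
  · intro a ha ha1
    haveI := h.solvable_Ct ha ha1
    exact Group.isSolvable_of_isSolvable_injective (f := Subgroup.inclusion (EightSylow.theta_le a))
      (Subgroup.inclusion_injective _)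
  · intro a ha ha1 b hb hb1
    refine h.le_core (h.solvable_Ct hb hb1) (h.le_Ct hb) inf_le_right
      (fun hd => EightSylow.theta_not_dvd a (hd.trans (Subgroup.card_dvd_of_le inf_le_left))) ?_
    refine Signalizer.le_normalizer_inf ?_ ((h.le_Ct hb).trans Subgroup.le_normalizer)
    exact (h.le_Ct ha).trans (EightSylow.le_normalizer_core' _)

theorem W_pow {w : G} (hw : w ∈ EightSylow.W P) : w ^ r = 1 := by
  haveI : Fact (Nat.Prime 2) := ⟨Nat.prime_two⟩
  set W := EightSylow.W P with hW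
  have hWn : (P : Subgroup G) ≤ Subgroup.normalizer (W : Set G) := by
    rw [hW, EightSylow.W]
    exact Signalizer.SFT.le_normalizer_iSup fun a =>
      (h.le_Ct a.2.1).trans (EightSylow.le_normalizer_core' _)
  haveI := Fact.mk h.spec.prime
  have hrW : IsPGroup r W := by
    refine (IsPGroup.iff_card (p := r) (G := W)).2 ⟨(Nat.card W).primeFactorsList.length, ?_⟩
    refine Nat.eq_prime_pow_of_unique_prime_dvd (Nat.card_pos (α := W)).ne' ?_
    intro s hs hsd
    by_contra hsr
    haveI := Fact.mk hs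
    have hs2 : s ≠ 2 := fun e => h.W_data.1 (e ▸ hsd)
    haveI := h.isMulCommutative
    have hcop : (Nat.card (P : Subgroup G)).Coprime (Nat.card W) := by
      obtain ⟨n, hn⟩ := IsPGroup.iff_card.1 P.isPGroup'
      rw [hn]
      exact (Nat.prime_two.coprime_iff_not_dvd.2 h.W_data.1).pow_left n
    obtain ⟨T, hT⟩ := CoprimeAct.exists_invariant_sylow hWn hcop
      (Or.inl (Group.isSolvable_of_comm fun a b => mul_comm' a b)) s
    have hTW : (T : Subgroup W).map W.subtype ≤ W := Subgroup.map_subtype_le _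
    have hTs : IsPGroup s ((T : Subgroup W).map W.subtype) := T.isPGroup'.map _
    have hbot : (T : Subgroup W).map W.subtype ≤ ⊥ := by
      refine h.le_of_centralizers (fun hd => h.W_data.1 (hd.trans (Subgroup.card_dvd_of_le hTW))) hT ?_
      intro a ha ha1 y hy
      rw [Subgroup.mem_bot]
      have hyθ : y ∈ EightSylow.theta a := (h.W_data.2 a ha ha1).le ⟨hTW hy.1, hy.2⟩
      obtain ⟨k, hk⟩ := IsPGroup.iff_orderOf.1 hTs ⟨y, hy.1⟩
      rw [Subgroup.orderOf_mk] at hk
      refine orderOf_eq_one_iff.1 (Nat.eq_one_of_dvd_coprimes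
        (((Nat.coprime_primes hs h.spec.prime).2 hsr).pow_left k) hk.dvd
        (orderOf_dvd_of_pow_eq_one (h.theta_pow ha ha1 hyθ)))
    rw [le_bot_iff, Subgroup.map_eq_bot_iff_of_injective _ W.subtype_injective] at hbot
    exact T.not_dvd_index (by rw [hbot, Subgroup.index_bot]; exact hsd)
  obtain ⟨k, hk⟩ := IsPGroup.iff_orderOf.1 hrW ⟨w, hw⟩
  rw [Subgroup.orderOf_mk] at hk
  rcases Nat.eq_zero_or_pos k with rfl | hk0
  · have hw1 : w = 1 := orderOf_eq_one_iff.1 (by rw [hk, pow_zero])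
    rw [hw1, one_pow]
  · exact h.spec.odd_pow_of_dvd (hk ▸ dvd_pow_self r hk0.ne') (hk ▸ h.spec.odd.pow)

theorem NP_le_NW : NP P ≤ Subgroup.normalizer (EightSylow.W P : Set G) := fun n hn => by
  refine Subgroup.mem_normalizer_fintype fun x hx => ?_
  have key : (EightSylow.W P).map (MulAut.conj n).toMonoidHom ≤ EightSylow.W P := by
    rw [EightSylow.W, Subgroup.map_iSup]
    refine iSup_le fun a => ?_
    rintro _ ⟨x, hx, rfl⟩
    exact le_iSup (fun b : {a : G // a ∈ (P : Subgroup G) ∧ a ≠ 1} => EightSylow.theta (b : G))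
      ⟨n * (a : G) * n⁻¹, (Subgroup.mem_normalizer_iff.1 hn _).1 a.2.1,
        fun e => a.2.2 (conj_eq_one_iff.1 e)⟩
      (EightSylow.conj_mem_theta _ n x hx)
  exact key ⟨x, hx, rfl⟩

theorem Ct_le_M {a : G} (ha : a ∈ (P : Subgroup G)) (ha1 : a ≠ 1) : Ct a ≤ EightSylow.M P := fun g hg => by
  obtain ⟨w, hw, n, hn, -, rfl⟩ := h.solvable_le (h.solvable_Ct ha ha1) (h.le_Ct ha) hg
  exact mul_mem (Subgroup.mem_sup_left ((h.W_data.2 a ha ha1).ge hw).1) (Subgroup.mem_sup_right hn)

theorem M_ne_top : EightSylow.M P ≠ ⊤ := by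
  intro e
  haveI := h.simple
  have hne : ∀ K : Subgroup G, K ≠ ⊥ → K ≠ ⊤ → Subgroup.normalizer (K : Set G) ≠ ⊤ := fun K h1 h2 e1 => by
    rcases (Subgroup.normalizer_eq_top_iff.1 e1).eq_bot_or_eq_top with e2 | e2
    exacts [h1 e2, h2 e2]
  by_cases hW : EightSylow.W P = ⊥
  · rw [EightSylow.M, hW, bot_sup_eq] at e
    refine hne _ ?_ ?_ e
    · intro e1
      have := h.card
      rw [e1, Subgroup.card_bot] at this
      omega
    · intro e1
      exact h.nonsolv (Group.isSolvable_of_comm fun x y =>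
        h.comm (e1 ▸ Subgroup.mem_top x) (e1 ▸ Subgroup.mem_top y))
  · refine hne _ hW (fun e1 => h.W_data.1 ?_) (top_le_iff.1 (e ▸ sup_le Subgroup.le_normalizer h.NP_le_NW))
    rw [e1, Subgroup.card_top]
    obtain ⟨a, ha, ha1⟩ := h.exists_ne
    exact h.order2 ha ha1 ▸ orderOf_dvd_natCard a

theorem mem_M {g : G} (hg : g ∈ EightSylow.M P) : ∃ w ∈ EightSylow.W P, ∃ n ∈ NP P, g = w * n := by
  have hg' : g ∈ ((EightSylow.W P ⊔ NP P : Subgroup G) : Set G) := hg
  rw [Subgroup.coe_mul_of_right_le_normalizer_left _ _ h.NP_le_NW] at hg'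
  obtain ⟨w, hw, n, hn, rfl⟩ := hg'
  exact ⟨w, hw, n, hn, rfl⟩

theorem M_se : Cfsg.IsStronglyEmbedded (EightSylow.M P) := by
  haveI : Fact (Nat.Prime 2) := ⟨Nat.prime_two⟩
  have hPM : (P : Subgroup G) ≤ EightSylow.M P := Subgroup.le_normalizer.trans le_sup_right
  refine Invol.se_of_centralizers h.M_ne_top (P.subtype hPM) ?_ ?_ fun t ht hto => ?_
  · obtain ⟨a, ha, ha1⟩ := h.exists_ne
    exact Invol.even_of_invol_mem (h.order2 ha ha1) (hPM ha)
  · rw [Sylow.coe_subtype, Subgroup.map_subgroupOf_eq_of_le hPM]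
    exact le_sup_right
  -- move the involution into `P`
  obtain ⟨Q, hQ⟩ := (IsPGroup.of_card (n := 1) (by
    rw [Nat.card_zpowers, Subgroup.orderOf_mk, hto, pow_one]) :
      IsPGroup 2 (Subgroup.zpowers (⟨t, ht⟩ : EightSylow.M P))).exists_le_sylow
  obtain ⟨m, hm⟩ := MulAction.exists_smul_eq (EightSylow.M P) Q (P.subtype hPM)
  have hmt : MulAut.conj m (⟨t, ht⟩ : EightSylow.M P) ∈
      ((P.subtype hPM : Sylow 2 (EightSylow.M P)) : Subgroup (EightSylow.M P)) := by
    rw [← hm]
    exact Subgroup.smul_mem_pointwise_smul _ _ _ (hQ (Subgroup.mem_zpowers _))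
  rw [Sylow.coe_subtype, Subgroup.mem_subgroupOf] at hmt
  simp only [MulAut.conj_apply, Subgroup.coe_mul, Subgroup.coe_inv] at hmt
  intro g hg
  have hg' : (m : G) * g * (m : G)⁻¹ ∈ Ct ((m : G) * t * (m : G)⁻¹) := by
    rw [Subgroup.mem_centralizer_singleton_iff] at hg
    refine mem_Ct.2 ?_
    calc (m : G) * g * (m : G)⁻¹ * ((m : G) * t * (m : G)⁻¹) = (m : G) * (g * t) * (m : G)⁻¹ := by group
      _ = _ := by rw [hg]; group
  have h1 := h.Ct_le_M hmt (fun e => by
    rw [conj_eq_one_iff] at e; rw [e, orderOf_one] at hto; omega) hg'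
  have := mul_mem (mul_mem (inv_mem m.2) h1) m.2
  simpa [mul_assoc] using this

/-- The normaliser of `P` is transitive on its involutions. -/
theorem transitive {a b : G} (ha : a ∈ (P : Subgroup G)) (ha1 : a ≠ 1) (hb : b ∈ (P : Subgroup G))
    (hb1 : b ≠ 1) : ∃ n ∈ NP P, n * a * n⁻¹ = b := by
  haveI : Fact (Nat.Prime 2) := ⟨Nat.prime_two⟩
  obtain ⟨g, hg⟩ := isConj_iff.1 (Invol.se_isConj h.M_se (h.order2 ha ha1) (h.order2 hb hb1))
  haveI := h.isMulCommutative
  obtain ⟨n, hn, e⟩ := P.conj_eq_normalizer_conj_of_mem a g⁻¹ ha (by rw [inv_inv, hg]; exact hb)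
  rw [inv_inv, hg] at e
  exact ⟨n⁻¹, inv_mem hn, by rw [inv_inv]; exact e.symm⟩

end Big

end Cfsg.Agent.ThreeOrd
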