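import Mathlib.GroupTheory.OrderOfElement
import Mathlib.Algebra.BigOperators.Group.Finset.Basic
import Mathlib.GroupTheory.Subgroup.Center
import Mathlib.Tactic.Group

/-!
# A norm element of a Frobenius group acting on an abelian group

If `y` normalises `A`, its powers are fixed point free on `A`, and `A` acts non-trivially with order
prime to `V`, then some conjugate of `y` under `A` has a non-trivial norm on `V`.
-/

set_option autoImplicit false

namespace Cfsg.Agent.ThreeOrd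

universe u v

/-- No element of `A` commutes with a power `y ^ i`, `0 < i < n`. -/
def FpfPow {H : Type u} [Group H] (A : Subgroup H) (y : H) (n : ℕ) : Prop :=
  ∀ i, 0 < i → i < n → ∀ a ∈ A, Commute a (y ^ i) → a = 1

theorem exists_norm_ne {H : Type u} [Group H] {V : Type v} [CommGroup V] (ρ : H →* MulAut V)
    (A : Subgroup H) [Finite A] {y : H} (hy : ∀ a ∈ A, y * a * y⁻¹ ∈ A) {n : ℕ} (hn : 0 < n)
    (hfree : FpfPow A y n) (hco : ∀ v : V, v ^ Nat.card A = 1 → v = 1)
    (hA : ∃ a ∈ A, ∃ v, ρ a v ≠ v) :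
    ∃ q ∈ A, ∃ v, ∏ i ∈ Finset.range n, ρ (q * y ^ i * q⁻¹) v ≠ 1 := by
  classical
  by_contra hcon
  push Not at hcon
  haveI : Fintype A := Fintype.ofFinite A
  obtain ⟨a, haA, v, hav⟩ := hA
  -- the sum over `A`
  let N : V → V := fun w => ∏ b : A, ρ (b : H) w
  have hNmul : ∀ w w', N (w * w') = N w * N w' := fun w w' => by
    simp only [N, map_mul, Finset.prod_mul_distrib]
  have hNinv : ∀ w, N w⁻¹ = (N w)⁻¹ := fun w => by
    simp only [N, map_inv, Finset.prod_inv_distrib]
  have hNA : ∀ (c : A) w, N (ρ (c : H) w) = N w := fun c w => by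
    show ∏ b : A, ρ (b : H) (ρ (c : H) w) = _
    refine Fintype.prod_equiv (Equiv.mulRight c) _ _ fun b => ?_
    rw [Equiv.coe_mulRight, Subgroup.coe_mul, map_mul, MulAut.mul_apply]
  -- conjugation by a power of `y` preserves `A`
  have hyi : ∀ (i : ℕ), ∀ b ∈ A, y ^ i * b * (y ^ i)⁻¹ ∈ A := fun i => by
    induction i with
    | zero => intro b hb; simpa using hb
    | succ i ih =>
      intro b hb
      have := hy _ (ih b hb)
      rw [pow_succ']
      simpa [mul_assoc] using this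
  set w := v⁻¹ * ρ a v with hw
  have hw1 : w ≠ 1 := fun e => hav (inv_mul_eq_one.1 e).symm
  have hNw : N w = 1 := by rw [hw, hNmul, hNinv, hNA ⟨a, haA⟩, inv_mul_cancel]
  have hNyw : ∀ i, N (ρ (y ^ i) w) = 1 := fun i => by
    have e : ρ (y ^ i) w = (ρ (y ^ i) v)⁻¹ * ρ (y ^ i * a * (y ^ i)⁻¹) (ρ (y ^ i) v) := by
      rw [hw, map_mul, map_inv, ← MulAut.mul_apply, ← MulAut.mul_apply, ← map_mul, ← map_mul,
        inv_mul_cancel_right]
    rw [e, hNmul, hNinv, hNA ⟨_, hyi i a haA⟩, inv_mul_cancel]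
  have hinner : ∀ i ∈ Finset.range n, i ≠ 0 → ∏ q : A, ρ ((q : H) * y ^ i * (q : H)⁻¹) w = 1 := by
    intro i hi hi0
    let f : A → A := fun q =>
      ⟨(q : H) * (y ^ i * (q : H)⁻¹ * (y ^ i)⁻¹), mul_mem q.2 (hyi i _ (inv_mem q.2))⟩
    have hf : Function.Injective f := by
      intro q q' e
      have e' : (q : H) * (y ^ i * (q : H)⁻¹ * (y ^ i)⁻¹) =
          (q' : H) * (y ^ i * (q' : H)⁻¹ * (y ^ i)⁻¹) := congrArg Subtype.val e
      have hc : Commute (((q' : H))⁻¹ * q) (y ^ i) := by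
        show _ * _ = _ * _
        calc ((q' : H))⁻¹ * q * y ^ i
            = (q' : H)⁻¹ * ((q : H) * (y ^ i * (q : H)⁻¹ * (y ^ i)⁻¹)) * (y ^ i * q) := by group
          _ = (q' : H)⁻¹ * ((q' : H) * (y ^ i * (q' : H)⁻¹ * (y ^ i)⁻¹)) * (y ^ i * q) := by rw [e']
          _ = y ^ i * ((q' : H)⁻¹ * q) := by group
      exact (Subtype.ext (inv_mul_eq_one.1 (hfree i (Nat.pos_of_ne_zero hi0) (Finset.mem_range.1 hi)
        _ (mul_mem (inv_mem q'.2) q.2) hc))).symm
    have e : ∀ q : A, ρ ((q : H) * y ^ i * (q : H)⁻¹) w = ρ ((f q : A) : H) (ρ (y ^ i) w) := fun q => by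
      rw [← MulAut.mul_apply, ← map_mul]
      refine congrArg (fun h => ρ h w) ?_
      show _ = (q : H) * (y ^ i * (q : H)⁻¹ * (y ^ i)⁻¹) * y ^ i
      group
    simp only [e]
    exact (Function.Bijective.prod_comp (Finite.injective_iff_bijective.1 hf)
      fun b : A => ρ (b : H) (ρ (y ^ i) w)).trans (hNyw i)
  have key : ∏ q : A, ∏ i ∈ Finset.range n, ρ ((q : H) * y ^ i * (q : H)⁻¹) w = 1 :=
    Finset.prod_eq_one fun q _ => hcon _ q.2 w
  rw [Finset.prod_comm, Finset.prod_eq_single 0 hinner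
    (fun h => absurd (Finset.mem_range.2 hn) h)] at key
  refine hw1 (hco w ?_)
  rw [← key, Nat.card_eq_fintype_card]
  simp

/-- The power of a product is the norm times the power. -/
theorem mul_pow_eq_norm {G : Type u} [Group G] {V : Type v} [CommGroup V] (ι : V →* G) (z : G)
    (act : ℕ → V → V) (hact : ∀ i v, ι (act i v) = z ^ i * ι v * (z ^ i)⁻¹) (v : V) (n : ℕ) :
    (ι v * z) ^ n = ι (∏ i ∈ Finset.range n, act i v) * z ^ n := by
  induction n with
  | zero => simp
  | succ n ih =>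
    rw [pow_succ, ih, Finset.prod_range_succ, map_mul, hact, pow_succ]
    group

end Cfsg.Agent.ThreeOrd
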