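import Cfsg.Agent.Lib.ThreeOrd.RankThree
import Cfsg.Agent.Lib.GW.Main
import Cfsg.Agent.Lib.EPPO.Main

/-!
# Simple groups with at most one composite element order
-/

set_option autoImplicit false
set_option linter.style.haveILetI false

namespace Cfsg.Agent.ThreeOrd

universe u v

/-- Two composite element orders are equal. -/
def OneComp (G : Type u) [Group G] : Prop :=
  ∀ a b : G, 1 < orderOf a → ¬ (orderOf a).Prime → 1 < orderOf b → ¬ (orderOf b).Prime →
    orderOf a = orderOf b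

variable {G : Type u} [Group G] [Finite G]

omit [Finite G] in
theorem OneComp.of_injective {H : Type v} [Group H] (h : OneComp G) (f : H →* G)
    (hf : Function.Injective f) : OneComp H := fun a b => by
  simpa [orderOf_injective f hf] using h (f a) (f b)

theorem OneComp.h3 (h : OneComp G) : H3 G := by
  intro p hp a b c h1 h2 h3 ⟨da, db, dc⟩
  have key : ∀ {g : G}, p ∣ orderOf g → orderOf g ≠ p → 1 < orderOf g ∧ ¬ (orderOf g).Prime := by
    intro g hd hne
    have := Nat.le_of_dvd (orderOf_pos g) hd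
    have := hp.two_le
    exact ⟨by omega, fun hq => hne ((Nat.prime_dvd_prime_iff_eq hp hq).1 hd).symm⟩
  by_cases ea : orderOf a = p
  · obtain ⟨b1, b2⟩ := key db fun e => h1 (ea.trans e.symm)
    obtain ⟨c1, c2⟩ := key dc fun e => h3 (ea.trans e.symm)
    exact h2 (h b c b1 b2 c1 c2)
  obtain ⟨a1, a2⟩ := key da ea
  by_cases eb : orderOf b = p
  · obtain ⟨c1, c2⟩ := key dc fun e => h2 (eb.trans e.symm)
    exact h3 (h a c a1 a2 c1 c2)
  obtain ⟨b1, b2⟩ := key db eb
  exact h1 (h a b a1 a2 b1 b2)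

/-- A cofactor of a product of at most two primes is prime. -/
theorem prime_cofactor {p e : ℕ} (hp : p.Prime) (he : 1 < e)
    (h : (p * e).primeFactorsList.length ≤ 2) : e.Prime := by
  have hperm := (Nat.perm_primeFactorsList_mul hp.ne_zero (show e ≠ 0 by omega)).length_eq
  rw [List.length_append, Nat.primeFactorsList_prime hp, List.length_singleton] at hperm
  have hprod := Nat.prod_primeFactorsList (show e ≠ 0 by omega)
  match hl : e.primeFactorsList, (show e.primeFactorsList.length ≤ 1 by omega) with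
  | [], _ => rw [hl, List.prod_nil] at hprod; omega
  | [q], _ =>
    rw [hl, List.prod_singleton] at hprod
    exact hprod ▸ Nat.prime_of_mem_primeFactorsList (n := e) (by rw [hl]; exact List.mem_singleton_self q)

theorem three_dvd_two_pow_sub_one {f : ℕ} (hf : Even f) : 3 ∣ 2 ^ f - 1 := by
  obtain ⟨h, rfl⟩ := hf
  rw [← two_mul, pow_mul]
  obtain ⟨c, hc⟩ := Nat.sub_dvd_pow_sub_pow (2 ^ 2) 1 h
  rw [one_pow] at hc
  exact ⟨c, by rw [hc]; norm_num⟩

theorem three_dvd_two_pow_add_one {f : ℕ} (hf : Odd f) : 3 ∣ 2 ^ f + 1 := by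
  have h := Odd.nat_add_dvd_pow_add_pow 2 1 hf
  rwa [one_pow] at h

/-- The conclusion of the classification for at most one composite order. -/
def OneConcl (G : Type u) [Group G] : Prop :=
    (∃ (F : Type) (_ : Field F) (_ : Fintype F), (Fintype.card F = 5 ∨ Fintype.card F = 7 ∨ Fintype.card F = 8 ∨ Fintype.card F = 9 ∨
        Fintype.card F = 11 ∨ Fintype.card F = 13 ∨ Fintype.card F = 16) ∧ Nonempty (G ≃* Matrix.ProjectiveSpecialLinearGroup (Fin 2) F)) ∨
    (∃ (F : Type) (_ : Field F) (_ : Fintype F), Fintype.card F = 4 ∧ Nonempty (G ≃* Matrix.ProjectiveSpecialLinearGroup (Fin 3) F)) ∨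
    (∃ (F : Type) (_ : Field F) (_ : Fintype F), Fintype.card F = 8 ∧ Nonempty (G ≃* ↥(Cfsg.Lie.Sz F 4))) ∨
    (∃ (F : Type) (_ : Field F) (_ : Fintype F), ∃ n r s : ℕ, r.Prime ∧ s.Prime ∧ 3 ^ n - 1 = 2 * r ∧ 3 ^ n + 1 = 4 * s ∧
        Fintype.card F = 3 ^ n ∧ Nonempty (G ≃* Matrix.ProjectiveSpecialLinearGroup (Fin 2) F)) ∨
    (∃ (F : Type) (_ : Field F) (_ : Fintype F), ∃ n r : ℕ, (2 ^ n - 1).Prime ∧ r.Prime ∧ 2 ^ n + 1 = 3 * r ∧
        Fintype.card F = 2 ^ n ∧ Nonempty (G ≃* Matrix.ProjectiveSpecialLinearGroup (Fin 2) F))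

/-- The even linear groups. -/
theorem one_even (h : OneComp G) {F : Type} [Field F] [Fintype F] [CharP F 2] (h4 : 4 ≤ Fintype.card F)
    (hp : (Fintype.card F + 1).primeFactorsList.length ≤ 2)
    (e : G ≃* Matrix.ProjectiveSpecialLinearGroup (Fin 2) F) : OneConcl G := by
  have hP := h.of_injective e.symm.toMonoidHom e.symm.injective
  obtain ⟨⟨g, hg⟩, g', hg'⟩ := exists_order_even_char (F := F)
  obtain ⟨⟨f, hf0⟩, hp2, hf⟩ := FiniteField.card F 2
  simp only [PNat.mk_coe] at hf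
  rcases Nat.even_or_odd f with hev | hodd
  swap
  · -- `f` odd
    have h3 := three_dvd_two_pow_add_one hodd
    obtain ⟨r, hr⟩ := h3
    have hr1 : 1 < r := by omega
    have hrp : r.Prime := prime_cofactor Nat.prime_three hr1 (by rw [← hr, ← hf]; exact hp)
    have hm : (2 ^ f - 1).Prime := by
      by_contra hnp
      have := hP g g' (by rw [hg]; omega) (by rwa [hg, hf]) (by rw [hg']; omega) (by
        rw [hg', hf, hr]
        exact Nat.not_prime_mul (by omega) (by omega))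
      omega
    exact Or.inr (Or.inr (Or.inr (Or.inr ⟨F, inferInstance, inferInstance, f, r, hm, hrp, hr, hf, ⟨e⟩⟩)))
  left
  by_cases hm : (2 ^ f - 1).Prime
  · have h3 := (Nat.prime_dvd_prime_iff_eq Nat.prime_three hm).1 (three_dvd_two_pow_sub_one hev)
    have hF4 : Fintype.card F = 4 := by omega
    haveI : Fact (Nat.Prime 5) := ⟨by norm_num⟩
    exact ⟨ZMod 5, inferInstance, inferInstance, Or.inl (ZMod.card 5),
      ⟨e.trans ((S0252.result hF4).some.trans (S0253.result (ZMod.card 5)).some.symm)⟩⟩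
  obtain ⟨k, rfl⟩ := hev
  have hq : 2 ^ (k + k) = 2 ^ k * 2 ^ k := pow_add 2 k k
  set c := 2 ^ k with hc
  have hc2 : 2 ≤ c := by
    by_contra hlt
    nlinarith
  have hfac : (c - 1) * (c + 1) = 2 ^ (k + k) - 1 := by
    rw [hq, mul_comm, ← Nat.sq_sub_sq, one_pow, pow_two]
  have hbig : 2 ^ (k + k) - 1 = Fintype.card F - 1 := by rw [hf]
  have hlt1 : c - 1 < 2 ^ (k + k) - 1 := by
    rw [← hfac]
    exact lt_mul_of_one_lt_right (by omega) (by omega)
  have hc3 : c ≠ 2 := fun e2 => hm (by rw [hq, e2]; norm_num)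
  have hlt2 : c + 1 < 2 ^ (k + k) - 1 := by
    rw [← hfac]
    exact lt_mul_of_one_lt_left (by omega) (by omega)
  have hdiv : ∀ d, 1 < d → d ∣ 2 ^ (k + k) - 1 → d < 2 ^ (k + k) - 1 → d.Prime := by
    intro d hd1 hd hdlt
    by_contra hnp
    obtain ⟨a, ha⟩ := exists_order_of_dvd (g := g) (d := d) (by rw [hg, ← hbig]; exact hd)
    have := hP g a (by rw [hg]; omega) (by rwa [hg, hf]) (by omega) (by rwa [ha])
    omega
  have ha := hdiv (c - 1) (by omega) ⟨c + 1, hfac.symm⟩ hlt1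
  have hb := hdiv (c + 1) (by omega) ⟨c - 1, by rw [← hfac, mul_comm]⟩ hlt2
  have hc4 : c = 4 := by
    have hcases : (3 ∣ c - 1) ∨ (3 ∣ c + 1) := by
      have h3c : ¬ 3 ∣ c := fun hd => by
        have := (Nat.prime_dvd_prime_iff_eq Nat.prime_three Nat.prime_two).1
          (Nat.prime_three.dvd_of_dvd_pow hd)
        omega
      omega
    rcases hcases with h3 | h3
    · have := (Nat.prime_dvd_prime_iff_eq Nat.prime_three ha).1 h3; omega
    · have := (Nat.prime_dvd_prime_iff_eq Nat.prime_three hb).1 h3; omega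
  refine ⟨F, inferInstance, inferInstance, ?_, ⟨e⟩⟩
  right; right; right; right; right; right
  rw [hf, hq, hc4]

/-- The odd linear groups. -/
theorem one_odd (h : OneComp G) {F : Type} [Field F] [Fintype F] (h5 : 5 < Fintype.card F)
    (h8 : Fintype.card F % 8 = 3 ∨ Fintype.card F % 8 = 5)
    (hp : ((Fintype.card F + 1) / 2).primeFactorsList.length ≤ 2)
    (hm : ((Fintype.card F - 1) / 2).primeFactorsList.length ≤ 2)
    (e : G ≃* Matrix.ProjectiveSpecialLinearGroup (Fin 2) F) : OneConcl G := by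
  have hP := h.of_injective e.symm.toMonoidHom e.symm.injective
  obtain ⟨⟨g, hg⟩, g', hg'⟩ := exists_order_half (F := F) (Nat.odd_iff.2 (by omega))
  -- the even and the odd half
  obtain ⟨O, E, hO, hE, hElen, hne, hsum⟩ : ∃ O E : ℕ,
      (∃ a : Matrix.ProjectiveSpecialLinearGroup (Fin 2) F, orderOf a = O) ∧
      (∃ a : Matrix.ProjectiveSpecialLinearGroup (Fin 2) F, orderOf a = 2 * E) ∧
      (2 * E).primeFactorsList.length ≤ 2 ∧ 1 < E ∧
      ((Fintype.card F % 8 = 3 ∧ Fintype.card F = 2 * O + 1 ∧ Fintype.card F + 1 = 4 * E) ∨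
        (Fintype.card F % 8 = 5 ∧ Fintype.card F + 1 = 2 * O ∧ Fintype.card F = 4 * E + 1)) := by
    rcases h8 with h8 | h8
    · exact ⟨(Fintype.card F - 1) / 2, (Fintype.card F + 1) / 4, ⟨g, hg⟩, ⟨g', by rw [hg']; omega⟩,
        by rw [show 2 * ((Fintype.card F + 1) / 4) = (Fintype.card F + 1) / 2 by omega]; exact hp,
        by omega, Or.inl ⟨h8, by omega, by omega⟩⟩
    · exact ⟨(Fintype.card F + 1) / 2, (Fintype.card F - 1) / 4, ⟨g', hg'⟩, ⟨g, by rw [hg]; omega⟩,
        by rw [show 2 * ((Fintype.card F - 1) / 4) = (Fintype.card F - 1) / 2 by omega]; exact hm,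
        by omega, Or.inr ⟨h8, by omega, by omega⟩⟩
  have hEp : E.Prime := prime_cofactor Nat.prime_two hne hElen
  obtain ⟨a, ha⟩ := hO
  obtain ⟨b, hb⟩ := hE
  have hOp : O.Prime := by
    by_contra hnp
    have := hP a b (by omega) (by rwa [ha]) (by omega) (by
      rw [hb]; exact Nat.not_prime_mul (by norm_num) (by omega))
    omega
  by_cases h3 : 3 ∣ Fintype.card F
  · obtain ⟨⟨n, hn0⟩, hpn, hn⟩ := FiniteField.card F (ringChar F)
    simp only [PNat.mk_coe] at hn
    have hchar : ringChar F = 3 := ((Nat.prime_dvd_prime_iff_eq Nat.prime_three hpn).1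
      (Nat.prime_three.dvd_of_dvd_pow (hn ▸ h3))).symm
    rw [hchar] at hn
    rcases hsum with ⟨-, e1, e2⟩ | ⟨h85, -, -⟩
    · exact Or.inr (Or.inr (Or.inr (Or.inl ⟨F, inferInstance, inferInstance, n, O, E, hOp, hEp,
        by omega, by omega, hn, ⟨e⟩⟩)))
    · exfalso
      rcases Nat.even_or_odd n with ⟨j, hj⟩ | ⟨j, hj⟩
      · rw [hj, ← two_mul, pow_mul] at hn
        have := Nat.pow_mod (3 ^ 2) j 8
        norm_num at this hn
        omega
      · rw [hj, pow_succ, pow_mul] at hn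
        have := Nat.pow_mod (3 ^ 2) j 8
        norm_num at this hn
        omega
  · left
    have hcase : 3 ∣ O ∨ 3 ∣ E := by
      have h12 : Fintype.card F % 3 = 1 ∨ Fintype.card F % 3 = 2 := by omega
      rcases h12 with hq3 | hq3 <;> rcases hsum with ⟨-, e1, e2⟩ | ⟨-, e1, e2⟩ <;>
        first
        | exact Or.inl (Nat.dvd_of_mod_eq_zero (by omega))
        | exact Or.inr (Nat.dvd_of_mod_eq_zero (by omega))
    refine ⟨F, inferInstance, inferInstance, ?_, ⟨e⟩⟩
    rcases hcase with h3O | h3E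
    · have := (Nat.prime_dvd_prime_iff_eq Nat.prime_three hOp).1 h3O
      omega
    · have := (Nat.prime_dvd_prime_iff_eq Nat.prime_three hEp).1 h3E
      omega

/-- The Suzuki groups. -/
theorem one_sz (h : OneComp G) (hs : Cfsg.Lie.IsoSuzuki G) : OneConcl G := by
  obtain ⟨F, i1, i2, m, hm, hF, ⟨e⟩⟩ := hs
  have hS : Suzuki.SzField F m := ⟨hm, hF⟩
  haveI := hS.charP
  let f : Cfsg.Sz F m ≃* G := (Suzuki.minorEquiv hS).trans e.symm
  have hP := h.of_injective f.toMonoidHom f.injective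
  haveI : Fact (Nat.Prime 2) := ⟨Nat.prime_two⟩
  have hT2 : Suzuki.T hS (1 : F) 0 * Suzuki.T hS (1 : F) 0 = Suzuki.T hS (0 : F) 1 := by
    rw [Suzuki.T_mul, CharTwo.add_self_eq_zero]
    congr 1
    simp
  have hT4 : Suzuki.T hS (0 : F) 1 * Suzuki.T hS (0 : F) 1 = 1 := by
    rw [Suzuki.T_mul]
    simp [CharTwo.add_self_eq_zero, Suzuki.T_zero]
  have hne : Suzuki.T hS (0 : F) 1 ≠ 1 := fun e1 => by
    have h2 := congrArg (fun g : Cfsg.Sz F m => g • Suzuki.pt m (0 : F) 0) e1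
    simp only [Suzuki.T_smul_pt_zero, one_smul] at h2
    exact one_ne_zero (Suzuki.pt_inj h2).2
  have hx : orderOf (Suzuki.T hS (1 : F) 0) = 4 :=
    orderOf_eq_prime_pow (p := 2) (n := 1) (by rw [pow_one, pow_two, hT2]; exact hne)
      (by rw [show 2 ^ (1 + 1) = 2 + 2 from rfl, pow_add, pow_two, hT2, hT4])
  obtain ⟨-, ⟨gp, hgp⟩, gm, hgm⟩ := exists_order_sz hS
  set r := 2 ^ (m + 1) with hr
  have hq : 2 * 2 ^ (2 * m + 1) = r * r := by
    rw [hr, ← pow_add, ← pow_succ']
    congr 1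
    omega
  have hr4 : 4 ≤ r := by
    rw [hr]
    calc (4 : ℕ) = 2 ^ 2 := rfl
      _ ≤ 2 ^ (m + 1) := Nat.pow_le_pow_right two_pos (by omega)
  have hrq : 2 * r ≤ 2 ^ (2 * m + 1) := by nlinarith
  have hprime : ∀ d, 4 < d → (∃ x : Cfsg.Sz F m, orderOf x = d) → d.Prime := by
    intro d hd ⟨x, hx'⟩
    by_contra hnp
    have := hP _ x (by rw [hx]; norm_num) (by rw [hx]; norm_num) (by omega) (by rwa [hx'])
    omega
  have hpp := hprime _ (by omega) ⟨gp, hgp⟩
  have hpm := hprime _ (by omega) ⟨gm, hgm⟩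
  set q := 2 ^ (2 * m + 1) with hqdef
  have h5 : 5 ∣ (q - r + 1) * (q + r + 1) := by
    have hprod : (q - r + 1) * (q + r + 1) = q * q + 1 := by
      zify [show r ≤ q by omega]
      have : (2 : ℤ) * q = r * r := by exact_mod_cast hq
      ring_nf
      linarith
    rw [hprod]
    refine Nat.dvd_of_mod_eq_zero ?_
    rw [hqdef, ← pow_add, show 2 * m + 1 + (2 * m + 1) = 4 * m + 2 by omega, pow_add, pow_mul,
      Nat.add_mod, Nat.mul_mod, Nat.pow_mod]
    norm_num
  have hqr : q - r + 1 = 5 := by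
    rcases (Nat.prime_five.dvd_mul.1 h5) with e5 | e5
    · exact ((Nat.prime_dvd_prime_iff_eq Nat.prime_five hpm).1 e5).symm
    · have := (Nat.prime_dvd_prime_iff_eq Nat.prime_five hpp).1 e5
      omega
  have hr' : r = 4 := by
    by_contra hne4
    have : 8 ∣ r := by
      have hm2 : 2 ≤ m := by
        by_contra hlt
        exact hne4 (by rw [hr, show m = 1 by omega]; rfl)
      exact (show 8 = 2 ^ 3 from rfl) ▸ pow_dvd_pow 2 (by omega)
    have h16 : r * r ≥ 8 * r := Nat.mul_le_mul_right r (Nat.le_of_dvd (by omega) this)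
    omega
  refine Or.inr (Or.inr (Or.inl ⟨F, i1, i2, ?_, ⟨?_⟩⟩))
  · rw [hF]
    rw [hr'] at hq
    omega
  · exact e.trans (MulEquiv.subgroupCongr (by rw [hr']))

theorem oneConcl (h : OneComp G) [IsSimpleGroup G] (hns : ¬ Group.IsSolvable G) : OneConcl G := by
  classical
  by_cases hsz : Cfsg.Lie.IsoSuzuki G
  · exact one_sz h hsz
  rcases main GW.simpleDihedral rankThree h.h3 hns with
    ⟨F, i1, i2, i3, h4, hp, -, ⟨e⟩⟩ | ⟨F, i1, i2, h5, h8, hp, hm, ⟨e⟩⟩ | ⟨F, i1, i2, h79, ⟨e⟩⟩ | hL |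
    ⟨n, hn, -, hcard, -⟩
  · haveI : Fact (Nat.Prime 2) := ⟨Nat.prime_two⟩
    have hb : Cfsg.pCore 2 G = ⊥ := by
      haveI hn2 : (Cfsg.pCore 2 G).Normal := FittingCores.pCore_normal 2
      refine hn2.eq_bot_or_eq_top.resolve_right fun e1 => hns ?_
      haveI : Group.IsNilpotent (Cfsg.pCore 2 G) := (FittingCores.pCore_isPGroup 2).isNilpotent
      exact Group.isSolvable_of_surjective (f := (Cfsg.pCore 2 G).subtype)
        fun g => ⟨⟨g, e1 ▸ Subgroup.mem_top g⟩, rfl⟩
    exact one_even h h4 hp (((QuotientGroup.quotientMulEquivOfEq hb).trans QuotientGroup.quotientBot).symm.trans e)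
  · exact one_odd h h5 h8 hp hm e
  · exact Or.inl ⟨F, i1, i2, by rcases h79 with e7 | e9 <;> omega, ⟨e⟩⟩
  · exact Or.inr (Or.inl hL)
  · -- the order of a Suzuki group
    exfalso
    have h3 : ¬ 3 ∣ Nat.card G := hcard ▸ EPPO.not_three_dvd_suzuki n
    rcases h.h3.cit_or_spec with hc | ⟨r, S, hedge⟩
    · have hna : ∃ a b : G, a * b ≠ b * a := by
        by_contra hh
        push Not at hh
        exact hns (Group.isSolvable_of_comm hh)
      rcases SzRecog.simple_list hna (Or.inr hc) with ⟨F, i1, i2, -, ⟨f⟩⟩ | ⟨F, i1, i2, hF, ⟨f⟩⟩ | hs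
      · exact h3 (Nat.card_congr f.toEquiv ▸ EPPO.three_dvd_psl F)
      · exact h3 (Nat.card_congr f.toEquiv ▸ (by rw [EPPO.card_psl34 hF]; norm_num :
          3 ∣ Nat.card (Matrix.ProjectiveSpecialLinearGroup (Fin 3) F)))
      · exact hsz hs
    · obtain ⟨F, i1, i2, -, -, -, -, ⟨f⟩⟩ := spec_psl GW.simpleDihedral rankThree S hedge hns
      exact h3 (Nat.card_congr f.toEquiv ▸ EPPO.three_dvd_psl F)

end Cfsg.Agent.ThreeOrd
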