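import Cfsg.Agent.Lib.ThreeOrd.ExtendEven
import Cfsg.Agent.Lib.ThreeOrd.ExtendOdd

/-!
# The case with an element of order `2 * r`
-/

set_option autoImplicit false
set_option linter.style.haveILetI false
set_option linter.unusedSectionVars false

namespace Cfsg.Agent.ThreeOrd

open Cfsg.Agent.CNSimple

universe u

variable {G : Type u} [Group G] [Finite G] {r : ℕ}

theorem length_le_two_of_spec (S : Spec G r) {N : ℕ} (hN : ∃ g : G, orderOf g = N) :
    N.primeFactorsList.length ≤ 2 := S.h3.factors hN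

/-- A simple group of the second kind has no element of order `2 * r` when it is `PSL(2, 2 ^ n)`. -/
theorem no_edge_of_cit (S : Spec G r) (hc : CIT G) (g : G) : orderOf g ≠ 2 * r := by
  intro hg
  obtain ⟨t, ht⟩ := exists_order_of_dvd (g := g) (d := 2) ⟨r, hg⟩
  have h1 : orderOf (g ^ r) = 2 := by
    rw [orderOf_pow' g S.prime.ne_zero, hg, Nat.gcd_eq_right (dvd_mul_left r 2),
      Nat.mul_div_cancel _ S.prime.pos]
  obtain ⟨k, hk⟩ := hc _ h1 ⟨g, Subgroup.mem_centralizer_singleton_iff.2 ((Commute.refl g).pow_right r).eq⟩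
  have h2 : orderOf g ∣ 2 ^ k := orderOf_dvd_of_pow_eq_one (congrArg Subtype.val hk)
  rw [hg] at h2
  exact S.ne_two ((Nat.prime_dvd_prime_iff_eq S.prime Nat.prime_two).1
    (S.prime.dvd_of_dvd_pow ((dvd_mul_left r 2).trans h2)))

/-- The statement about simple groups with Sylow `2`-subgroups of order at least eight. -/
def RankThree : Prop :=
  ∀ (T : Type u) [Group T] [Finite T] [IsSimpleGroup T], ¬ Group.IsSolvable T → ∀ r : ℕ, Spec T r →
    (∃ g : T, orderOf g = 2 * r) → ∀ P : Sylow 2 T, Nat.card (P : Subgroup T) ≤ 4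

theorem spec_psl (hGW : GW.SimpleDihedral.{u}) (hR : RankThree.{u}) (S : Spec G r)
    (hedge : ∃ g : G, orderOf g = 2 * r) (hns : ¬ Group.IsSolvable G) :
    ∃ (F : Type) (_ : Field F) (_ : Fintype F), 5 < Fintype.card F ∧
      (Fintype.card F % 8 = 3 ∨ Fintype.card F % 8 = 5) ∧
      ((Fintype.card F + 1) / 2).primeFactorsList.length ≤ 2 ∧
      ((Fintype.card F - 1) / 2).primeFactorsList.length ≤ 2 ∧
      Nonempty (G ≃* Matrix.ProjectiveSpecialLinearGroup (Fin 2) F) := by
  classical
  haveI : Fact (Nat.Prime 2) := ⟨Nat.prime_two⟩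
  obtain ⟨M, hMn, hM, hMns, hC⟩ := S.exists_socle hns
  haveI := hMn
  haveI := hM
  have SM : Spec M r := S.subgroup M
  -- a socle with `2`-groups as centralisers is impossible
  have heven : ∀ (F : Type) (_ : Field F) (_ : Fintype F), CharP F 2 → 4 ≤ Fintype.card F →
      Nonempty (M ≃* Matrix.ProjectiveSpecialLinearGroup (Fin 2) F) → False := by
    intro F i1 i2 i3 h4 ⟨e⟩
    letI := i1; letI := i2; haveI := i3
    have htop := S.eq_top_even M hC h4 e
    let e' : G ≃* Matrix.ProjectiveSpecialLinearGroup (Fin 2) F :=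
      (Subgroup.topEquiv.symm.trans (MulEquiv.subgroupCongr htop.symm)).trans e
    obtain ⟨g, hg⟩ := hedge
    exact no_edge_of_cit S (cit_congr e' psl_even_cit) g hg
  by_cases hMe : ∃ g : M, orderOf g = 2 * r
  swap
  · exfalso
    push Not at hMe
    have hcit : CIT M := by
      refine CITStruct.cit_of_no_edge fun s hs hs2 g hg => ?_
      rcases SM.even g (hg ▸ dvd_mul_right 2 s) with e | e
      · have := hs.two_le; omega
      · exact hMe g e
    obtain ⟨F, i1, i2, i3, h4, he⟩ := SM.simple_cit hMns hcit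
    exact heven F i1 i2 i3 h4 he
  obtain ⟨P⟩ : Nonempty (Sylow 2 M) := inferInstance
  have hP4 := hR M hMns r SM hMe P
  have hcardP : Nat.card (P : Subgroup M) = 4 := by
    obtain ⟨k, hk⟩ := IsPGroup.iff_card.1 P.isPGroup'
    rw [hk] at hP4 ⊢
    have hk2 : k ≤ 2 := (Nat.pow_le_pow_iff_right (le_refl 2)).1 (by simpa using hP4)
    have hk1 : ¬ k ≤ 1 := fun hle => hMns (Spec.solvable_of_central P fun g hg => by
      refine Subgroup.mem_centralizer_iff.2 fun s hs => ?_
      by_cases hs1 : s = 1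
      · rw [hs1, one_mul, mul_one]
      have hgs : g * s * g⁻¹ ∈ (P : Subgroup M) := (Subgroup.mem_normalizer_iff.1 hg s).1 hs
      have hle2 : Nat.card (P : Subgroup M) ≤ 2 := by
        rw [hk]
        calc 2 ^ k ≤ 2 ^ 1 := Nat.pow_le_pow_right two_pos hle
          _ = 2 := pow_one 2
      by_contra hne
      haveI := Fintype.ofFinite (P : Subgroup M)
      have h3 : ({1, ⟨s, hs⟩, ⟨g * s * g⁻¹, hgs⟩} : Finset (P : Subgroup M)).card = 3 := by
        refine Finset.card_eq_three.2 ⟨_, _, _, fun e => hs1 (congrArg Subtype.val e).symm,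
          fun e => ?_, fun e => hne ?_, rfl⟩
        · exact hs1 (conj_eq_one_iff.1 (congrArg Subtype.val e).symm)
        · have e' : s = g * s * g⁻¹ := congrArg Subtype.val e
          conv_lhs => rw [e']
          rw [inv_mul_cancel_right]
      have := Finset.card_le_univ ({1, ⟨s, hs⟩, ⟨g * s * g⁻¹, hgs⟩} : Finset (P : Subgroup M))
      rw [h3, ← Nat.card_eq_fintype_card] at this
      omega)
    rw [show k = 2 by omega]; rfl
  haveI : Nontrivial (P : Subgroup M) := by
    rw [← Finite.one_lt_card_iff_nontrivial, hcardP]; norm_num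
  haveI : IsKleinFour (P : Subgroup M) :=
    ⟨hcardP, (Monoid.exponent_eq_prime_iff Nat.prime_two).2 fun x hx =>
      Invol.order_two_of_sq (Subtype.ext (SM.sq_of_pgroup P.isPGroup' x.2)) hx⟩
  have htarget := hGW M P 2 le_rfl IsKleinFour.nonempty_mulEquiv
  obtain ⟨F, i1, i2, h3, h8, ⟨e⟩⟩ := SM.target htarget
  by_cases h5 : Fintype.card F = 5
  · exfalso
    obtain ⟨K, j1, j2, j3, j4, ⟨e5⟩⟩ := psl_five_equiv (F := F) h5
    exact heven K j1 j2 j3 j4 ⟨e.trans e5⟩
  have htop := S.eq_top_odd M hC (by omega) h8 e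
  let e' : G ≃* Matrix.ProjectiveSpecialLinearGroup (Fin 2) F :=
    (Subgroup.topEquiv.symm.trans (MulEquiv.subgroupCongr htop.symm)).trans e
  have hs : Spec (Matrix.ProjectiveSpecialLinearGroup (Fin 2) F) r :=
    S.of_injective e'.symm.toMonoidHom e'.symm.injective
  obtain ⟨hm1, hp1⟩ := exists_order_half (F := F) (Nat.odd_iff.2 (by omega))
  exact ⟨F, i1, i2, by omega, h8, hs.h3.factors hp1, hs.h3.factors hm1, ⟨e'⟩⟩

/-- The classification in the second case. -/
theorem concl_of_spec (hGW : GW.SimpleDihedral.{u}) (hR : RankThree.{u}) (S : Spec G r)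
    (hedge : ∃ g : G, orderOf g = 2 * r) (hns : ¬ Group.IsSolvable G) : Concl G :=
  Or.inr (Or.inl (spec_psl hGW hR S hedge hns))

/-- The classification, modulo the two statements on simple groups. -/
theorem main (hGW : GW.SimpleDihedral.{u}) (hR : RankThree.{u}) (h : H3 G)
    (hns : ¬ Group.IsSolvable G) : Concl G := by
  rcases h.cit_or_spec with hc | ⟨r, S, he⟩
  · exact concl_of_cit h hc hns
  · exact concl_of_spec hGW hR S he hns

end Cfsg.Agent.ThreeOrd
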