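import Cfsg.Agent.Lib.ThreeOrd.CaseII
import Cfsg.Agent.Lib.ThreeOrd.CaseIIIEnd
import Cfsg.Agent.Lib.ThreeOrd.SpecCase

/-!
# The statement on simple groups with Sylow `2`-subgroups of order at least eight
-/

set_option autoImplicit false

namespace Cfsg.Agent.ThreeOrd

universe u

theorem rankThree : RankThree.{u} := by
  intro T _ _ _ hns r hS hedge P
  by_contra hP
  haveI : Fact (Nat.Prime 2) := ⟨Nat.prime_two⟩
  have h8 : 8 ≤ Nat.card (P : Subgroup T) := by
    obtain ⟨k, hk⟩ := IsPGroup.iff_card.1 P.isPGroup'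
    rw [hk] at hP ⊢
    have h3 : 3 ≤ k := by
      by_contra hlt
      exact hP (le_trans (Nat.pow_le_pow_right two_pos (show k ≤ 2 by omega)) (by norm_num))
    exact le_trans (by norm_num) (Nat.pow_le_pow_right two_pos h3)
  have h : Big r P := ⟨hS, inferInstance, hns, h8⟩
  rcases h.trichotomy with hI | hII | ⟨s, A, B, x, a, hIII⟩
  · exact h.caseI hedge hI
  · exact h.caseII hedge hII
  · exact hIII.caseIII h

end Cfsg.Agent.ThreeOrd
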