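import Cfsg.Agent.Lib.ThreeOrd.Local
import Cfsg.Agent.Lib.ThreeOrd.Action

/-!
# The shapes of the normaliser of the Sylow subgroup
-/

set_option autoImplicit false
set_option linter.style.haveILetI false
set_option linter.unusedSectionVars false

namespace Cfsg.Agent.ThreeOrd

open Cfsg.Agent.CNSimple (Ct mem_Ct)
open scoped IsMulCommutative

universe u

variable {G : Type u} [Group G] [Finite G] {r : ℕ}

/-- The automiser. -/
abbrev autL (P : Sylow 2 G) : Subgroup (MulAut (P : Subgroup G)) :=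
  (P : Subgroup G).normalizerMonoidHom.range

/-- The map to the automiser. -/
abbrev cls (P : Sylow 2 G) : NP P →* autL P := (P : Subgroup G).normalizerMonoidHom.rangeRestrict

theorem cls_surjective (P : Sylow 2 G) : Function.Surjective (cls P) :=
  MonoidHom.rangeRestrict_surjective _

theorem cls_apply (P : Sylow 2 G) (n : NP P) (v : (P : Subgroup G)) :
    ((((cls P n : autL P) : MulAut (P : Subgroup G)) v : (P : Subgroup G)) : G) =
      n * v * (n : G)⁻¹ := rfl

theorem cls_eq_one (P : Sylow 2 G) (n : NP P) : cls P n = 1 ↔ (n : G) ∈ CP P := by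
  rw [← MonoidHom.mem_ker, MonoidHom.ker_rangeRestrict, Subgroup.normalizerMonoidHom_ker,
    Subgroup.mem_subgroupOf]

theorem cls_fix_iff (P : Sylow 2 G) (n : NP P) (v : (P : Subgroup G)) :
    ((cls P n : autL P) : MulAut (P : Subgroup G)) v = v ↔ (n : G) * v = v * n := by
  rw [Subtype.ext_iff, cls_apply, mul_inv_eq_iff_eq_mul]

/-- The first shape: an automiser of order `r`. -/
structure ShapeTwo (r : ℕ) (P : Sylow 2 G) : Prop where
  card : Nat.card (P : Subgroup G) = r + 1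
  comm : ∀ m ∈ NP P, ∀ n ∈ NP P, m * n * m⁻¹ * n⁻¹ ∈ CP P
  free : ∀ n ∈ NP P, ∀ a ∈ (P : Subgroup G), a ≠ 1 → n * a = a * n → n ∈ CP P
  pow : ∀ n ∈ NP P, n ^ r ∈ CP P

/-- The second shape: a regular normal part extended by an element of order `r`. -/
structure ShapeThree (r : ℕ) (P : Sylow 2 G) (s : ℕ) (A B : Subgroup G) (x a : G) : Prop where
  s_prime : s.Prime
  s_ne : s ≠ r
  s_two : s ≠ 2
  cp : CP P = (P : Subgroup G)
  x_mem : x ∈ NP P
  x_order : orderOf x = r
  a_mem : a ∈ (P : Subgroup G)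
  a_ne : a ≠ 1
  fix : ∀ v ∈ (P : Subgroup G), x * v = v * x ↔ v = 1 ∨ v = a
  stab : ∀ n ∈ NP P, n * a = a * n → ∃ i : ℕ, (x ^ i)⁻¹ * n ∈ (P : Subgroup G)
  mem_A : ∀ n : G, n ∈ A ↔ n ∈ NP P ∧ n ^ s ∈ (P : Subgroup G)
  card_A : Nat.card A = Nat.card (P : Subgroup G) * s
  free_A : ∀ e ∈ A, x * e = e * x → e ∈ (P : Subgroup G)
  mem_B : ∀ n : G, n ∈ B ↔ n ∈ NP P ∧ ¬ r ∣ orderOf n
  card_B : Nat.card B = Nat.card (P : Subgroup G) * (Nat.card (P : Subgroup G) - 1)
  card_N : Nat.card (NP P) = Nat.card B * r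

theorem card_comap_cls (P : Sylow 2 G) (A : Subgroup (autL P)) :
    Nat.card ((A.comap (cls P)).map (NP P).subtype) = Nat.card (CP P) * Nat.card A := by
  rw [Subgroup.card_map_of_injective (NP P).subtype_injective]
  set f := cls P
  let g : A.comap f →* A := (f.comp (A.comap f).subtype).codRestrict A fun n => n.2
  have hg : Function.Surjective g := fun a => by
    obtain ⟨n, hn⟩ := cls_surjective P a.1
    exact ⟨⟨n, show f n ∈ A by rw [hn]; exact a.2⟩, Subtype.ext hn⟩
  rw [← Subgroup.card_mul_index g.ker, Subgroup.index_ker, MonoidHom.range_eq_top.2 hg,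
    Subgroup.card_top]
  congr 1
  refine Nat.card_congr ⟨fun n => ⟨((n.1.1 : NP P) : G), ?_⟩, fun c => ⟨⟨⟨c.1, ?_⟩, ?_⟩, ?_⟩,
    fun n => rfl, fun c => rfl⟩
  · exact (cls_eq_one P n.1.1).1 (congrArg Subtype.val n.2)
  · exact Subgroup.centralizer_le_normalizer _ c.2
  · show f _ ∈ A
    rw [(cls_eq_one P _).2 c.2]
    exact one_mem A
  · exact Subtype.ext ((cls_eq_one P _).2 c.2)

namespace Big

variable {P : Sylow 2 G} (h : Big r P)
include h

theorem exists_lift (l : autL P) : ∃ n : NP P, cls P n = l ∧ Odd (orderOf (n : G)) := by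
  obtain ⟨n, rfl⟩ := cls_surjective P l
  by_cases ho : Odd (orderOf (n : G))
  · exact ⟨n, rfl, ho⟩
  have he : 2 ∣ orderOf (n : G) := even_iff_two_dvd.1 (Nat.not_odd_iff_even.1 ho)
  have h2r : (n : G) ^ (2 * r) = 1 := by
    rcases h.spec.even _ he with e | e
    · rw [pow_mul, ← e, pow_orderOf_eq_one, one_pow]
    · rw [← e, pow_orderOf_eq_one]
  -- the part of order two is in `P`
  have hP : (n : G) ^ r ∈ (P : Subgroup G) :=
    h.mem_of_sq (pow_mem n.2 r) (by rw [← pow_add, ← two_mul, h2r])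
  obtain ⟨k, hk⟩ := h.spec.odd
  refine ⟨n ^ (r + 1), ?_, ?_⟩
  · rw [pow_succ, map_mul, (cls_eq_one P (n ^ r)).2
      (by rw [Subgroup.coe_pow]; exact h.le_CP hP), one_mul]
  · rw [Subgroup.coe_pow]
    refine h.spec.odd_of_pow ?_
    rw [← pow_mul, show (r + 1) * r = 2 * r * (k + 1) by rw [hk]; ring, pow_mul, h2r, one_pow]

theorem act [IsMulCommutative (P : Subgroup G)] : ActHyp (autL P).subtype r where
  prime := h.spec.prime
  ne_two := h.spec.ne_two
  faithful l hl := Subtype.ext hl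
  sq v := Subtype.ext (h.sq v.2)
  free l v hv hlv hrl := by
    obtain ⟨n, rfl, ho⟩ := h.exists_lift l
    have hc : Commute (n : G) v := (cls_fix_iff P n v).1 hlv
    have h1 := h.spec.odd_comm_invol (h.order2 v.2 fun e => hv (Subtype.ext e)) hc ho
    have h2 : cls P n ^ r = 1 := by
      rw [← map_pow, show n ^ r = 1 from Subtype.ext (by simpa using h1), map_one]
    rcases h.spec.prime.eq_one_or_self_of_dvd _ (orderOf_dvd_of_pow_eq_one h2) with e | e
    · exact orderOf_eq_one_iff.1 e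
    · exact absurd e.symm.dvd hrl
  ord l hrl := by
    obtain ⟨n, rfl, ho⟩ := h.exists_lift l
    have hd : orderOf (cls P n) ∣ orderOf (n : G) := by
      rw [Subgroup.orderOf_coe]; exact orderOf_map_dvd _ n
    have h1 := h.spec.odd_pow_of_dvd (hrl.trans hd) ho
    exact Nat.dvd_antisymm (hd.trans (orderOf_dvd_of_pow_eq_one h1)) hrl
  trans v w hv hw := by
    obtain ⟨n, hn, e⟩ := h.transitive v.2 (fun e => hv (Subtype.ext e)) w.2 fun e => hw (Subtype.ext e)
    exact ⟨cls P ⟨n, hn⟩, Subtype.ext e⟩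
  odd := by
    rw [← Nat.not_even_iff_odd, even_iff_two_dvd]
    intro h2
    haveI : Fact (Nat.Prime 2) := ⟨Nat.prime_two⟩
    obtain ⟨l, hl⟩ := exists_prime_orderOf_dvd_card' 2 h2
    obtain ⟨n, rfl, ho⟩ := h.exists_lift l
    have hd : orderOf (cls P n) ∣ orderOf (n : G) := by
      rw [Subgroup.orderOf_coe]; exact orderOf_map_dvd _ n
    rw [hl] at hd
    exact Nat.not_even_iff_odd.2 ho (even_iff_two_dvd.2 hd)
  nontriv := by
    obtain ⟨a, ha, ha1⟩ := h.exists_ne
    exact ⟨⟨a, ha⟩, fun e => ha1 (congrArg Subtype.val e)⟩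

theorem free_two [IsMulCommutative (P : Subgroup G)] (hc : Nat.card (autL P) = r) {l : autL P}
    (hl : l ≠ 1) {v : (P : Subgroup G)} (hv : v ≠ 1) :
    (l : MulAut (P : Subgroup G)) v ≠ v := by
  classical
  haveI := Fact.mk h.spec.prime
  intro hfix
  have hgen : ∀ m : autL P, m ∈ Subgroup.zpowers l := fun m => mem_zpowers_of_prime_card hc hl
  have hall : ∀ m : autL P, (m : MulAut (P : Subgroup G)) v = v := by
    intro m
    have hm := hgen m
    rw [← IsOfFinOrder.mem_powers_iff_mem_zpowers (isOfFinOrder_of_finite _)] at hm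
    obtain ⟨i, rfl⟩ := hm
    induction i with
    | zero => rfl
    | succ i ih =>
      simp only [pow_succ, Subgroup.coe_mul, MulAut.mul_apply, hfix]
      exact ih
  haveI := Fintype.ofFinite (P : Subgroup G)
  have huniv : ∀ w : (P : Subgroup G), w ∈ ({1, v} : Finset (P : Subgroup G)) := by
    intro w
    by_cases hw : w = 1
    · simp [hw]
    obtain ⟨m, hm⟩ := h.act.trans v w hv hw
    simp [← hm, hall m]
  have h8 := h.card
  have h1 := Finset.card_le_card (s := (Finset.univ : Finset (P : Subgroup G))) fun w _ => huniv w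
  rw [Finset.card_univ, ← Nat.card_eq_fintype_card] at h1
  have h2 := Finset.card_insert_le (1 : (P : Subgroup G)) {v}
  rw [Finset.card_singleton] at h2
  omega

theorem exists_fpf : ∃ (y : G) (p : ℕ), p.Prime ∧ p ≠ 2 ∧ orderOf y = p ∧ y ∈ NP P ∧
    FpfPow (P : Subgroup G) y p := by
  classical
  haveI := h.isMulCommutative
  have H := h.act
  haveI := Fact.mk h.spec.prime
  obtain ⟨l, p, hp, hlo, hfree⟩ : ∃ (l : autL P) (p : ℕ), p.Prime ∧ orderOf l = p ∧
      ∀ v : (P : Subgroup G), v ≠ 1 → (l : MulAut (P : Subgroup G)) v ≠ v := by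
    by_cases hx : ∃ x : autL P, orderOf x = r
    · rcases H.shapes hx with ⟨hc, -⟩ | ⟨s, A, B, x, a, hs⟩
      · obtain ⟨x, hx⟩ := hx
        refine ⟨x, r, h.spec.prime, hx, fun v hv => h.free_two hc (fun e => ?_) hv⟩
        rw [e, orderOf_one] at hx
        exact h.spec.prime.one_lt.ne hx
      · haveI := Fact.mk hs.s_prime
        obtain ⟨e, he⟩ := exists_prime_orderOf_dvd_card' (G := A) s hs.A_card.symm.dvd
        rw [← Subgroup.orderOf_coe] at he
        refine ⟨e, s, hs.s_prime, he, fun v hv hev => ?_⟩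
        have h1 := H.free (e : autL P) v hv hev (by
          rw [he]
          exact fun hd => hs.s_ne ((Nat.prime_dvd_prime_iff_eq h.spec.prime hs.s_prime).1 hd).symm)
        rw [h1, orderOf_one] at he
        exact hs.s_prime.one_lt.ne he
    · push Not at hx
      haveI : Nontrivial (autL P) := by
        by_contra hN
        haveI := not_nontrivial_iff_subsingleton.1 hN
        have hc : Nat.card (autL P) = 1 := Nat.card_unique
        obtain ⟨a, ha, ha1⟩ := h.exists_ne
        haveI := Fintype.ofFinite (P : Subgroup G)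
        have huniv : ∀ w : (P : Subgroup G), w ∈ ({1, ⟨a, ha⟩} : Finset (P : Subgroup G)) := by
          intro w
          by_cases hw : w = 1
          · simp [hw]
          obtain ⟨m, hm⟩ := H.trans ⟨a, ha⟩ w (fun e => ha1 (congrArg Subtype.val e)) hw
          rw [Subsingleton.elim m 1, map_one, MulAut.one_apply] at hm
          simp [hm]
        have h8 := h.card
        have h1 := Finset.card_le_card (s := (Finset.univ : Finset (P : Subgroup G))) fun w _ => huniv w
        rw [Finset.card_univ, ← Nat.card_eq_fintype_card] at h1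
        have h2 := Finset.card_insert_le (1 : (P : Subgroup G)) {⟨a, ha⟩}
        rw [Finset.card_singleton] at h2
        omega
      obtain ⟨p, hp, hpd⟩ := Nat.exists_prime_and_dvd (n := Nat.card (autL P)) Finite.one_lt_card.ne'
      haveI := Fact.mk hp
      obtain ⟨l, hl⟩ := exists_prime_orderOf_dvd_card' p hpd
      refine ⟨l, p, hp, hl, fun v hv hlv => ?_⟩
      have h1 := H.free l v hv hlv (by
        rw [hl]
        exact fun hd => hx l (hl.trans ((Nat.prime_dvd_prime_iff_eq h.spec.prime hp).1 hd).symm))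
      rw [h1, orderOf_one] at hl
      exact hp.one_lt.ne hl
  haveI := Fact.mk hp
  have hp2 : p ≠ 2 := fun e => by
    have := H.odd.of_dvd_nat (hlo ▸ orderOf_dvd_natCard l)
    rw [e] at this
    exact absurd this (by decide)
  obtain ⟨n, hn, ho⟩ := h.exists_lift l
  -- an element of order `p`
  obtain ⟨y, m, hym, hyp⟩ : ∃ (y : NP P) (m : ℕ), cls P y ^ m = l ∧ (y : G) ^ p = 1 := by
    by_cases hpr : p = r
    · refine ⟨n, 1, by rw [pow_one, hn], ?_⟩
      rw [hpr]
      refine h.spec.odd_pow_of_dvd ?_ ho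
      rw [Subgroup.orderOf_coe, ← hpr, ← hlo, ← hn]
      exact orderOf_map_dvd _ n
    · obtain ⟨m, hm⟩ := exists_pow_eq_self_of_coprime (x := l) (n := r)
        (by rw [hlo]; exact (Nat.coprime_primes h.spec.prime hp).2 (Ne.symm hpr))
      refine ⟨n ^ r, m, by rw [map_pow, hn, hm], ?_⟩
      have hc : (n : G) ^ p ∈ CP P := by
        rw [← Subgroup.coe_pow, ← cls_eq_one, map_pow, hn, ← hlo, pow_orderOf_eq_one]
      rw [Subgroup.coe_pow, ← pow_mul, mul_comm, pow_mul]
      exact h.odd_CP hc (ho.of_dvd_nat (orderOf_pow_dvd p))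
  have hy1 : (y : G) ≠ 1 := fun e => hp.one_lt.ne (by
    rw [← hlo, ← hym, show y = 1 from Subtype.ext e, map_one, one_pow, orderOf_one])
  have hyo : orderOf (y : G) = p := orderOf_eq_prime hyp hy1
  refine ⟨y, p, hp, hp2, hyo, y.2, fun i hi hip b hb hc => ?_⟩
  by_contra hb1
  obtain ⟨j, hj⟩ := exists_pow_eq_self_of_coprime (x := (y : G)) (n := i) (by
    rw [hyo]
    exact (hp.coprime_iff_not_dvd.2 fun hd => absurd (Nat.le_of_dvd hi hd) (by omega)).symm)
  have hc' : Commute b (y : G) := hj ▸ hc.pow_right j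
  have hfix : ∀ k : ℕ, ((cls P y ^ k : autL P) : MulAut (P : Subgroup G)) ⟨b, hb⟩ = ⟨b, hb⟩ := by
    intro k
    rw [← map_pow, cls_fix_iff, Subgroup.coe_pow]
    exact (hc'.pow_right k).eq.symm
  exact hfree ⟨b, hb⟩ (fun e => hb1 (congrArg Subtype.val e)) (hym ▸ hfix m)

theorem W_le_CP : EightSylow.W P ≤ CP P := fun w hw => by
  obtain ⟨y, p, hp, hp2, hyo, hy, hfree⟩ := h.exists_fpf
  exact Subgroup.mem_centralizer_iff.2 (h.spec.centralises (P : Subgroup G) (fun s hs => h.sq hs) hp hp2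
    hyo hy hfree _ (fun w hw => h.W_pow hw) (Subgroup.le_normalizer.trans h.NP_le_NW) (h.NP_le_NW hy) w hw)

theorem M_eq : EightSylow.M P = NP P :=
  le_antisymm (sup_le (h.W_le_CP.trans (Subgroup.centralizer_le_normalizer _)) le_rfl) le_sup_right

theorem NP_se : Cfsg.IsStronglyEmbedded (NP P) := h.M_eq ▸ h.M_se

theorem Ct_le_NP {a : G} (ha : a ∈ (P : Subgroup G)) (ha1 : a ≠ 1) : Ct a ≤ NP P :=
  h.M_eq ▸ h.Ct_le_M ha ha1

theorem solvable_NP_le {H : Subgroup G} (hH : Group.IsSolvable H) (hPH : (P : Subgroup G) ≤ H) :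
    H ≤ NP P := fun g hg => by
  haveI : Fact (Nat.Prime 2) := ⟨Nat.prime_two⟩
  obtain ⟨w, hw, n, hn, -, rfl⟩ := h.solvable_le hH hPH hg
  refine mul_mem (h.le_of_centralizers (EightSylow.not_dvd_core' H)
    (hPH.trans (EightSylow.le_normalizer_core' H)) (fun a ha ha1 => ?_) hw) hn
  exact inf_le_right.trans (h.Ct_le_NP ha ha1)

theorem mem_W {x : G} (hx : x ∈ CP P) (hxr : x ^ r = 1) : x ∈ EightSylow.W P := by
  haveI : Fact (Nat.Prime 2) := ⟨Nat.prime_two⟩
  obtain ⟨a, ha, ha1⟩ := h.exists_ne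
  have hle : Subgroup.zpowers x ≤ Ct a := Subgroup.zpowers_le.2
    (mem_Ct.2 (Subgroup.mem_centralizer_iff.1 hx a ha).symm)
  have hodd : ¬ 2 ∣ Nat.card (Subgroup.zpowers x) := by
    rw [Nat.card_zpowers, Nat.two_dvd_ne_zero, ← Nat.odd_iff]
    exact h.spec.odd_of_pow hxr
  refine ((h.W_data.2 a ha ha1).ge ?_).1
  refine h.le_core (h.solvable_Ct ha ha1) (h.le_Ct ha) hle hodd (fun p hp => ?_)
    (Subgroup.mem_zpowers x)
  exact Subgroup.centralizer_le_normalizer _ (Subgroup.mem_centralizer_iff.2 fun u hu => by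
    obtain ⟨i, rfl⟩ := Subgroup.mem_zpowers_iff.1 hu
    exact (Commute.zpow_left (Subgroup.mem_centralizer_iff.1 hx p hp).symm i).eq)

theorem CP_split {x : G} (hx : x ∈ CP P) :
    ∃ p ∈ (P : Subgroup G), ∃ w ∈ EightSylow.W P, x = p * w := by
  obtain ⟨a, ha, ha1⟩ := h.exists_ne
  have h2r := h.spec.pow_comm_invol (h.order2 ha ha1)
    (Subgroup.mem_centralizer_iff.1 hx a ha).symm
  have hP : x ^ r ∈ (P : Subgroup G) :=
    h.mem_of_sq (Subgroup.centralizer_le_normalizer _ (pow_mem hx r)) (by rw [← pow_add, ← two_mul, h2r])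
  obtain ⟨k, hk⟩ := h.spec.odd
  refine ⟨(x ^ r)⁻¹, inv_mem hP, x ^ (r + 1), h.mem_W (pow_mem hx _) ?_, by rw [pow_succ]; group⟩
  rw [← pow_mul, show (r + 1) * r = 2 * r * (k + 1) by rw [hk]; ring, pow_mul, h2r, one_pow]

theorem invol_mem {t : G} (ht : t ∈ NP P) (ho : orderOf t = 2) : t ∈ (P : Subgroup G) :=
  h.mem_of_sq ht (Invol.mul_self ho)

/-- The three cases. -/
theorem trichotomy :
    (∀ n ∈ NP P, n ^ r = 1 → n ∈ CP P) ∨ ShapeTwo r P ∨ ∃ s A B x a, ShapeThree r P s A B x a := by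
  classical
  haveI := h.isMulCommutative
  by_cases hx : ∀ n ∈ NP P, n ^ r = 1 → n ∈ CP P
  · exact Or.inl hx
  right
  push Not at hx
  obtain ⟨n₀, hn₀, hn₀r, hn₀C⟩ := hx
  have H := h.act
  haveI := Fact.mk h.spec.prime
  have hex : ∃ l : autL P, orderOf l = r := ⟨cls P ⟨n₀, hn₀⟩, orderOf_eq_prime
    (by rw [← map_pow, show (⟨n₀, hn₀⟩ : NP P) ^ r = 1 from Subtype.ext hn₀r, map_one])
    (fun e => hn₀C ((cls_eq_one P _).1 e))⟩
  rcases H.shapes hex with ⟨hc, hV⟩ | ⟨s, A, B, l, v, hs⟩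
  · left
    haveI : IsCyclic (autL P) := isCyclic_of_prime_card hc
    refine ⟨hV, fun m hm n hn => ?_, fun n hn a ha ha1 he => ?_, fun n hn => ?_⟩
    · refine (cls_eq_one P (⟨m, hm⟩ * ⟨n, hn⟩ * ⟨m, hm⟩⁻¹ * ⟨n, hn⟩⁻¹)).1 ?_
      simp only [map_mul, map_inv]
      letI : CommGroup (autL P) := IsCyclic.commGroup
      rw [mul_comm (cls P ⟨m, hm⟩) (cls P ⟨n, hn⟩)]
      group
    · refine (cls_eq_one P ⟨n, hn⟩).1 ?_
      by_contra hne
      exact h.free_two hc hne (v := ⟨a, ha⟩) (fun e => ha1 (congrArg Subtype.val e))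
        ((cls_fix_iff P ⟨n, hn⟩ ⟨a, ha⟩).2 he)
    · refine (cls_eq_one P (⟨n, hn⟩ ^ r)).1 ?_
      rw [map_pow, ← hc, pow_card_eq_one']
  right
  haveI := Fact.mk hs.s_prime
  have hs2 : s ≠ 2 := fun e => by
    have := H.odd.of_dvd_nat ((hs.A_card.symm.dvd).trans (Subgroup.card_subgroup_dvd_card A))
    rw [e] at this
    exact absurd this (by decide)
  obtain ⟨x, hxl, hxo⟩ := h.exists_lift l
  have hxr : (x : G) ^ r = 1 := h.spec.odd_pow_of_dvd (by
    rw [← hs.x_order, ← hxl, Subgroup.orderOf_coe]; exact orderOf_map_dvd _ x) hxo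
  -- the core is trivial
  have hW : EightSylow.W P = ⊥ := by
    by_contra hW1
    set W := EightSylow.W P with hWdef
    let Z : Subgroup G := W ⊓ Subgroup.centralizer (W : Set G)
    have hWp : IsPGroup r W := fun w => ⟨1, Subtype.ext (by simpa using h.W_pow w.2)⟩
    have hZ1 : Z ≠ ⊥ := by
      haveI : Nontrivial W := (Subgroup.nontrivial_iff_ne_bot W).2 hW1
      haveI := hWp.center_nontrivial
      obtain ⟨⟨c, hc⟩, hc1⟩ := _root_.exists_ne (1 : Subgroup.center W)
      refine fun e => hc1 (Subtype.ext (Subtype.ext (Subgroup.mem_bot.1 (e ▸ ?_ : (c : G) ∈ (⊥ : Subgroup G)))))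
      exact ⟨c.2, Subgroup.mem_centralizer_iff.2 fun w hw =>
        congrArg Subtype.val (Subgroup.mem_center_iff.1 hc ⟨w, hw⟩)⟩
    have hNZ : NP P ≤ Subgroup.normalizer (Z : Set G) := fun n hn => by
      refine Subgroup.mem_normalizer_fintype fun z hz => ⟨(Subgroup.mem_normalizer_iff.1
        (h.NP_le_NW hn) z).1 hz.1, Subgroup.mem_centralizer_iff.2 fun w hw => ?_⟩
      have hw' : n⁻¹ * w * n ∈ W := by
        have := (Subgroup.mem_normalizer_iff.1 (h.NP_le_NW (inv_mem hn)) w).1 hw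
        rwa [inv_inv] at this
      calc w * (n * z * n⁻¹) = n * (n⁻¹ * w * n * z) * n⁻¹ := by group
        _ = n * (z * (n⁻¹ * w * n)) * n⁻¹ := by rw [Subgroup.mem_centralizer_iff.1 hz.2 _ hw']
        _ = n * z * n⁻¹ * w := by group
    let f : NP P →* MulAut Z := Z.normalizerMonoidHom.comp (Subgroup.inclusion hNZ)
    have hfv : ∀ (n : NP P) (z : Z), ((f n z : Z) : G) = n * z * (n : G)⁻¹ := fun n z => rfl
    have hker : ∀ n : NP P, cls P n = 1 → f n = 1 := by
      intro n hn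
      obtain ⟨p, hp, w, hw, e⟩ := h.CP_split ((cls_eq_one P n).1 hn)
      refine MulEquiv.ext fun z => Subtype.ext ?_
      rw [hfv, MulAut.one_apply, e]
      have h1 : w * z * w⁻¹ = z := by
        rw [Subgroup.mem_centralizer_iff.1 z.2.2 w hw, mul_inv_cancel_right]
      have h2 : p * z * p⁻¹ = z := by
        rw [Subgroup.mem_centralizer_iff.1 (h.W_le_CP z.2.1) p hp, mul_inv_cancel_right]
      rw [show p * w * (z : G) * (p * w)⁻¹ = p * (w * z * w⁻¹) * p⁻¹ by group, h1, h2]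
    let ρ : autL P →* MulAut Z :=
      (cls P).liftOfSurjective (cls_surjective P) ⟨f, fun n hn => hker n hn⟩
    have hρ : ∀ n, ρ (cls P n) = f n :=
      (cls P).liftOfRightInverse_comp_apply _ _ _
    letI : CommGroup Z := { (inferInstance : Group Z) with
      mul_comm := fun a b => Subtype.ext (Subgroup.mem_centralizer_iff.1 b.2.2 a a.2.1) }
    have hZr : ∀ z : Z, z ^ r = 1 := fun z => Subtype.ext (by
      rw [Subgroup.coe_pow, h.W_pow z.2.1, Subgroup.coe_one])
    obtain ⟨⟨z₀, hz₀⟩, hz₀1⟩ := Subgroup.ne_bot_iff_exists_ne_one.1 hZ1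
    have hAne : ∃ e ∈ A, ∃ z, ρ e z ≠ z := by
      obtain ⟨e, he⟩ := exists_prime_orderOf_dvd_card' (G := A) s hs.A_card.symm.dvd
      rw [← Subgroup.orderOf_coe] at he
      refine ⟨e, e.2, ⟨z₀, hz₀⟩, fun hfix => ?_⟩
      obtain ⟨n, hn, ho⟩ := h.exists_lift (e : autL P)
      rw [← hn, hρ] at hfix
      have hc : (n : G) * z₀ = z₀ * n :=
        mul_inv_eq_iff_eq_mul.1 ((hfv n ⟨z₀, hz₀⟩).symm.trans (congrArg Subtype.val hfix))
      have hz₀o : orderOf z₀ = r :=
        orderOf_eq_prime (h.W_pow hz₀.1) fun e => hz₀1 (Subtype.ext e)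
      have h1 : cls P n ^ r = 1 := by
        rw [← map_pow, show n ^ r = 1 from Subtype.ext (h.spec.pow_of_comm_r hz₀o hc ho), map_one]
      rw [hn] at h1
      have h2 := orderOf_dvd_of_pow_eq_one h1
      rw [he] at h2
      exact hs.s_ne ((Nat.prime_dvd_prime_iff_eq hs.s_prime h.spec.prime).1 h2)
    have hfree : FpfPow A l r := fun i hi hir e he hc =>
      hs.x_A e he (H.prime_pow_comm h.spec.prime hs.x_order hi hir hc).eq.symm
    have hco : ∀ z : Z, z ^ Nat.card A = 1 → z = 1 := fun z hz => by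
      rw [hs.A_card] at hz
      exact orderOf_eq_one_iff.1 (Nat.eq_one_of_dvd_coprimes
        ((Nat.coprime_primes hs.s_prime h.spec.prime).2 hs.s_ne)
        (orderOf_dvd_of_pow_eq_one hz) (orderOf_dvd_of_pow_eq_one (hZr z)))
    obtain ⟨q, -, z, hz⟩ := exists_norm_ne ρ A (fun e he => hs.A_normal.conj_mem e he l)
      h.spec.prime.pos hfree hco hAne
    have hmo : orderOf (q * l * q⁻¹) = r :=
      (orderOf_injective (MulAut.conj q).toMonoidHom (MulAut.conj q).injective l).trans hs.x_order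
    obtain ⟨m, hm, hmodd⟩ := h.exists_lift (q * l * q⁻¹)
    have hmr : (m : G) ^ r = 1 := h.spec.odd_pow_of_dvd (by
      rw [← hmo, ← hm, Subgroup.orderOf_coe]; exact orderOf_map_dvd _ m) hmodd
    have hpow := mul_pow_eq_norm Z.subtype (m : G) (fun i w => f (m ^ i) w) (fun i w => by
      show ((f (m ^ i) w : Z) : G) = _
      rw [hfv, Subgroup.coe_pow]; rfl) z r
    rw [hmr, mul_one, Finset.prod_congr rfl fun i _ => show f (m ^ i) z = ρ (q * l ^ i * q⁻¹) z by
      rw [← hρ, map_pow, hm, _root_.conj_pow]] at hpow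
    have hne : (Z.subtype z * (m : G)) ^ r ≠ 1 := by
      rw [hpow]
      exact fun e => hz (Z.subtype_injective (e.trans (map_one _).symm))
    refine hne (h.spec.pow_of_sq_pow ?_)
    rw [pow_mul, hpow, ← map_pow, hZr, map_one]
  have hcp : CP P = (P : Subgroup G) := by
    refine le_antisymm (fun c hc => ?_) h.le_CP
    obtain ⟨p, hp, w, hw, rfl⟩ := h.CP_split hc
    rw [hW, Subgroup.mem_bot] at hw
    rwa [hw, mul_one]
  have hcls : ∀ n : NP P, cls P n = 1 ↔ (n : G) ∈ (P : Subgroup G) := fun n => by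
    rw [cls_eq_one, hcp]
  refine ⟨s, (A.comap (cls P)).map (NP P).subtype, (B.comap (cls P)).map (NP P).subtype, (x : G),
    (v : G), hs.s_prime, hs.s_ne, hs2, hcp, x.2, ?_, v.2, fun e => hs.a_ne (Subtype.ext e),
    fun w hw => ?_, fun n hn he => ?_, fun n => ?_, by rw [card_comap_cls, hs.A_card, hcp],
    fun e he hc => ?_, fun n => ?_, ?_, ?_⟩
  · refine orderOf_eq_prime hxr fun e => h.spec.prime.one_lt.ne ?_
    rw [← hs.x_order, ← hxl, show x = 1 from Subtype.ext e, map_one, orderOf_one]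
  · rw [← cls_fix_iff P x ⟨w, hw⟩, hxl]
    refine (hs.fix ⟨w, hw⟩).trans ?_
    rw [Subtype.ext_iff, Subtype.ext_iff]
    rfl
  · have h1 := hs.stab (cls P ⟨n, hn⟩) ((cls_fix_iff P ⟨n, hn⟩ v).2 he)
    rw [← IsOfFinOrder.mem_powers_iff_mem_zpowers (isOfFinOrder_of_finite _)] at h1
    obtain ⟨i, hi⟩ := h1
    refine ⟨i, ?_⟩
    have hi' : l ^ i = cls P ⟨n, hn⟩ := hi
    refine (hcls ((x ^ i)⁻¹ * ⟨n, hn⟩)).1 ?_
    rw [map_mul, map_inv, map_pow, hxl, hi', inv_mul_cancel]
  · constructor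
    · rintro ⟨m, hm, rfl⟩
      refine ⟨m.2, ?_⟩
      have h1 : cls P m ^ s = 1 := by
        have hm' : cls P m ∈ A := hm
        have h2 : orderOf (cls P m) ∣ s := hs.A_card ▸ Subgroup.orderOf_dvd_natCard A hm'
        exact orderOf_dvd_iff_pow_eq_one.1 h2
      rw [← map_pow, hcls] at h1
      exact h1
    · rintro ⟨hn, hns⟩
      refine ⟨⟨n, hn⟩, hs.A_mem _ ?_, rfl⟩
      rw [← map_pow]
      exact (hcls _).2 hns
  · obtain ⟨m, hm, rfl⟩ := he
    refine (hcls m).1 (hs.x_A _ hm ?_)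
    rw [← hxl, ← map_mul, ← map_mul, show x * m = m * x from Subtype.ext hc]
  · have key : ∀ m : NP P, r ∣ orderOf (cls P m) ↔ r ∣ orderOf (m : G) := by
      intro m
      rw [Subgroup.orderOf_coe]
      refine ⟨fun hd => hd.trans (orderOf_map_dvd _ m), fun hd => ?_⟩
      by_contra hnd
      set u := m ^ (orderOf m / r) with hu
      have huo : orderOf u = r := orderOf_pow_orderOf_div (orderOf_pos m).ne' hd
      have h1 : cls P u = 1 := by
        refine orderOf_eq_one_iff.1 ((h.spec.prime.eq_one_or_self_of_dvd _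
          (huo ▸ orderOf_map_dvd (cls P) u)).resolve_right fun e => hnd ?_)
        rw [← e, hu, map_pow]
        exact orderOf_pow_dvd _
      have h2 := h.sq ((hcls u).1 h1)
      have h3 : r ∣ 2 := by
        rw [← huo, ← Subgroup.orderOf_coe]
        exact orderOf_dvd_of_pow_eq_one (by rw [pow_two]; exact h2)
      exact h.spec.ne_two ((Nat.prime_dvd_prime_iff_eq h.spec.prime Nat.prime_two).1 h3)
    constructor
    · rintro ⟨m, hm, rfl⟩
      exact ⟨m.2, fun hd => (hs.B_mem _).1 hm ((key m).2 hd)⟩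
    · rintro ⟨hn, hd⟩
      exact ⟨⟨n, hn⟩, (hs.B_mem _).2 fun e => hd ((key ⟨n, hn⟩).1 e), rfl⟩
  · rw [card_comap_cls, hcp]
    have := hs.B_card
    congr 1
    omega
  · rw [card_comap_cls, hcp]
    have h1 := Subgroup.card_mul_index (cls P).ker
    rw [Subgroup.index_ker, MonoidHom.range_eq_top.2 (cls_surjective P), Subgroup.card_top,
      hs.L_card] at h1
    have h2 : Nat.card (cls P).ker = Nat.card (P : Subgroup G) :=
      Nat.card_congr ⟨fun n => ⟨(n.1 : G), (hcls n.1).1 n.2⟩,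
        fun c => ⟨⟨c.1, Subgroup.le_normalizer c.2⟩, (hcls _).2 c.2⟩, fun n => rfl, fun c => rfl⟩
    rw [← h1, h2, mul_assoc]

end Big

end Cfsg.Agent.ThreeOrd
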