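import Cfsg.Agent.Lib.ThreeOrd.CITCase
import Cfsg.Agent.Lib.GW.Goal

/-!
# Simple groups of the second kind with two-group centralisers or dihedral Sylow subgroups
-/

set_option autoImplicit false
set_option linter.style.haveILetI false
set_option linter.unusedSectionVars false

namespace Cfsg.Agent.ThreeOrd

open Cfsg.Agent.CNSimple SL2Inv

universe u v

section EvenChar

variable {F : Type v} [Field F] [Fintype F]

local notation "SL" => Matrix.SpecialLinearGroup (Fin 2) F
local notation "PSL" => Matrix.ProjectiveSpecialLinearGroup (Fin 2) F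

/-- In characteristic two the centralisers of involutions of `PSL(2, q)` are `2`-groups. -/
theorem psl_even_cit [CharP F 2] : CIT PSL := by
  intro t ht
  obtain ⟨g, rfl⟩ := PSL2Inv.pr_surjective t
  have hinj : ∀ x : SL, PSL2Inv.pr x = 1 → x = 1 := fun x hx => by
    rcases PSL2Inv.pr_eq_one_iff.1 hx with e | e
    · exact e
    · rw [e, EPPO.negOne_eq_one CharTwo.two_eq_zero]
  have hg2 : g * g = 1 := hinj _ (by rw [map_mul]; exact Invol.mul_self ht)
  have hg1 : g ≠ 1 := fun e => by rw [e, map_one, orderOf_one] at ht; norm_num at ht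
  rintro ⟨x, hx⟩
  obtain ⟨x, rfl⟩ := PSL2Inv.pr_surjective x
  have hxg : x * g = g * x := by
    refine mul_inv_eq_one.1 (hinj _ ?_)
    rw [map_mul, map_inv, map_mul, map_mul, mul_inv_eq_one]
    exact Subgroup.mem_centralizer_singleton_iff.1 hx
  refine ⟨1, Subtype.ext ?_⟩
  show PSL2Inv.pr x ^ 2 ^ 1 = 1
  rw [pow_one, ← map_pow]
  refine (congrArg _ (Subtype.ext ?_ : x ^ 2 = 1)).trans (map_one _)
  have hd : g.1 0 0 * g.1 1 1 - g.1 0 1 * g.1 1 0 = 1 := by
    rw [← Matrix.det_fin_two]; exact g.det_coe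
  have hxd : x.1 0 0 * x.1 1 1 - x.1 0 1 * x.1 1 0 = 1 := by
    rw [← Matrix.det_fin_two]; exact x.det_coe
  have hs : ∀ i j, (g.1 * g.1) i j = (1 : Matrix (Fin 2) (Fin 2) F) i j := fun i j =>
    congrFun (congrFun (congrArg Subtype.val hg2) i) j
  have e : ∀ i j, (x.1 * g.1) i j = (g.1 * x.1) i j := fun i j =>
    congrFun (congrFun (congrArg Subtype.val hxg) i) j
  have hg00 := hs 0 0
  have hg11 := hs 1 1
  have e01 := e 0 1
  have e10 := e 1 0
  simp [Matrix.mul_apply, Fin.sum_univ_two] at hg00 hg11 e01 e10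
  have htr : g.1 1 1 = g.1 0 0 := by
    have h2 : (g.1 0 0 + g.1 1 1) * (g.1 0 0 + g.1 1 1) = 0 := by
      linear_combination (norm := (ring_nf; reduce_mod_char!)) hg00 + hg11
    exact (CharTwo.add_eq_zero.1 (mul_self_eq_zero.1 h2)).symm
  have hx01 : (x.1 0 0 + x.1 1 1) = 0 := by
    by_contra hne
    have hb : g.1 0 1 = 0 := by
      refine (mul_eq_zero.1 (?_ : (x.1 0 0 + x.1 1 1) * g.1 0 1 = 0)).resolve_left hne
      rw [htr] at e01
      linear_combination (norm := (ring_nf; reduce_mod_char!)) e01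
    have hc : g.1 1 0 = 0 := by
      refine (mul_eq_zero.1 (?_ : (x.1 0 0 + x.1 1 1) * g.1 1 0 = 0)).resolve_left hne
      rw [htr] at e10
      linear_combination (norm := (ring_nf; reduce_mod_char!)) e10
    refine hg1 (Subtype.ext ?_)
    have ha : g.1 0 0 = 1 := by
      rw [htr, hb] at hd
      have h0 : (g.1 0 0 + 1) * (g.1 0 0 + 1) = 0 := by
        linear_combination (norm := (ring_nf; reduce_mod_char!)) hd
      exact CharTwo.add_eq_zero.1 (mul_self_eq_zero.1 h0)
    ext i j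
    fin_cases i <;> fin_cases j <;> simp [hb, hc, htr, ha]
  rw [Matrix.SpecialLinearGroup.coe_pow, Matrix.SpecialLinearGroup.coe_one, pow_two]
  have hx11 : x.1 1 1 = x.1 0 0 := (CharTwo.add_eq_zero.1 hx01).symm
  rw [hx11] at hxd
  ext i j
  fin_cases i <;> fin_cases j <;> simp [Matrix.mul_apply, Fin.sum_univ_two, hx11] <;>
    first
      | linear_combination (norm := (ring_nf; reduce_mod_char!; done)) hxd
      | linear_combination (norm := (ring_nf; reduce_mod_char!)) (0 : F)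

/-- The projective group of order sixty in both shapes. -/
theorem psl_five_equiv (h5 : Fintype.card F = 5) :
    ∃ (K : Type) (_ : Field K) (_ : Fintype K), CharP K 2 ∧ 4 ≤ Fintype.card K ∧
      Nonempty (PSL ≃* Matrix.ProjectiveSpecialLinearGroup (Fin 2) K) := by
  haveI : Fact (Nat.Prime 2) := ⟨Nat.prime_two⟩
  letI : Fintype (GaloisField 2 2) := Fintype.ofFinite _
  have hK : Fintype.card (GaloisField 2 2) = 4 := by
    rw [← Nat.card_eq_fintype_card, GaloisField.card 2 2 two_ne_zero]; rfl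
  exact ⟨_, inferInstance, inferInstance, inferInstance, hK.ge,
    ⟨(S0253.result h5).some.trans (S0252.result hK).some.symm⟩⟩

end EvenChar

variable {G : Type u} [Group G] [Finite G] {r : ℕ}

theorem Spec.no_four (S : Spec G r) (g : G) : ¬ 4 ∣ orderOf g := fun h => by
  have h4 : (4 : ℕ) = 2 * 2 := rfl
  rcases S.even g ((dvd_mul_right 2 2).trans h) with e | e <;> rw [e] at h
  · exact absurd (Nat.le_of_dvd two_pos h) (by norm_num)
  · rw [h4] at h
    exact S.ne_two ((Nat.prime_dvd_prime_iff_eq Nat.prime_two S.prime).1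
      ((mul_dvd_mul_iff_left two_ne_zero).1 h)).symm

/-- A simple group of the second kind with `2`-group centralisers is `PSL(2, 2 ^ n)`. -/
theorem Spec.simple_cit (S : Spec G r) [IsSimpleGroup G] (hns : ¬ Group.IsSolvable G) (hc : CIT G) :
    ∃ (F : Type) (_ : Field F) (_ : Fintype F), CharP F 2 ∧ 4 ≤ Fintype.card F ∧
      Nonempty (G ≃* Matrix.ProjectiveSpecialLinearGroup (Fin 2) F) := by
  classical
  have hna : ¬ IsMulCommutative G := fun hh => hns (Group.isSolvable_of_comm fun a b => hh.is_comm.comm a b)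
  have hna' : ∃ a b : G, a * b ≠ b * a := by
    by_contra hh
    push Not at hh
    exact hns (Group.isSolvable_of_comm hh)
  rcases SzRecog.simple_list hna' (Or.inr hc) with ⟨F, i1, i2, hq, ⟨f⟩⟩ | ⟨F, i1, i2, hF, ⟨f⟩⟩ | hsz
  · have h4 := EPPO.five_le_card hna f
    have SP : Spec (Matrix.ProjectiveSpecialLinearGroup (Fin 2) F) r :=
      S.of_injective f.symm.toMonoidHom f.symm.injective
    rcases hq with h9 | ⟨n, hn⟩ | ⟨hp, k, hk⟩
    · obtain ⟨⟨g, hg⟩, -⟩ := exists_order_half (F := F) (by rw [h9]; exact ⟨4, rfl⟩)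
      exact (SP.no_four g (by rw [hg, h9])).elim
    · exact ⟨F, i1, i2, charTwo_of_card hn, h4, ⟨f⟩⟩
    · have hodd : Odd (Fintype.card F) := hp.odd_of_ne_two (by omega)
      obtain ⟨⟨g, hg⟩, g', hg'⟩ := exists_order_half (F := F) hodd
      have hk2 : k ≤ 2 := by
        by_contra hk2
        obtain ⟨j, rfl⟩ : ∃ j, k = j + 3 := ⟨k - 3, by omega⟩
        rcases hk with hk | hk
        · exact SP.no_four g ⟨2 ^ j, by rw [hg, hk, pow_add]; omega⟩
        · exact SP.no_four g' ⟨2 ^ j, by rw [hg', hk, pow_add]; omega⟩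
      have h5 : Fintype.card F = 5 := by
        rcases hk with hk | hk <;> interval_cases k <;> norm_num at hk <;> omega
      obtain ⟨K, j1, j2, j3, j4, ⟨e⟩⟩ := psl_five_equiv (F := F) h5
      exact ⟨K, j1, j2, j3, j4, ⟨f.trans e⟩⟩
  · exfalso
    haveI : CharP F 2 := charTwo_of_card (n := 2) hF
    let s : Matrix.SpecialLinearGroup (Fin 3) F := ⟨!![1, 1, 0; 0, 1, 1; 0, 0, 1], by simp [Matrix.det_fin_three]⟩
    have hs2 : (s ^ 2 : Matrix.SpecialLinearGroup (Fin 3) F).1 = !![1, 0, 1; 0, 1, 0; 0, 0, 1] := by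
      rw [Matrix.SpecialLinearGroup.coe_pow, pow_two]
      show !![(1 : F), 1, 0; 0, 1, 1; 0, 0, 1] * !![1, 1, 0; 0, 1, 1; 0, 0, 1] = _
      ext i j
      fin_cases i <;> fin_cases j <;>
        simp [Matrix.mul_apply, Fin.sum_univ_three, CharTwo.add_self_eq_zero]
    set x : Matrix.ProjectiveSpecialLinearGroup (Fin 3) F := QuotientGroup.mk s
    have h2 : x ^ 2 ≠ 1 := fun e => by
      rw [← QuotientGroup.mk_pow, QuotientGroup.eq_one_iff,
        Matrix.SpecialLinearGroup.mem_center_iff] at e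
      obtain ⟨c, -, hc'⟩ := e
      rw [hs2] at hc'
      exact (one_ne_zero : (1 : F) ≠ 0) (by simpa using (congrFun (congrFun hc' 0) 2).symm)
    have h4 : x ^ 4 = 1 := by
      rw [← QuotientGroup.mk_pow, show s ^ 4 = 1 from Subtype.ext ?_]
      · rfl
      · rw [show s ^ 4 = s ^ 2 * s ^ 2 by rw [← pow_add], Matrix.SpecialLinearGroup.coe_mul, hs2]
        ext i j
        fin_cases i <;> fin_cases j <;>
          simp [Matrix.mul_apply, Fin.sum_univ_three, CharTwo.add_self_eq_zero]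
    haveI : Fact (Nat.Prime 2) := ⟨Nat.prime_two⟩
    have hx : orderOf x = 2 ^ (1 + 1) := orderOf_eq_prime_pow (by simpa using h2) (by simpa using h4)
    refine S.no_four (f.symm x) ?_
    rw [MulEquiv.orderOf_eq, hx]
    norm_num
  · exfalso
    obtain ⟨F, _, _, m, hm, hF, ⟨e⟩⟩ := hsz
    have hS : Suzuki.SzField F m := ⟨hm, hF⟩
    haveI := hS.charP
    let f : Cfsg.Sz F m ≃* G := (Suzuki.minorEquiv hS).trans e.symm
    have SP : Spec (Cfsg.Sz F m) r := S.of_injective f.toMonoidHom f.injective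
    have hT2 : Suzuki.T hS (1 : F) 0 * Suzuki.T hS (1 : F) 0 = Suzuki.T hS (0 : F) 1 := by
      rw [Suzuki.T_mul, CharTwo.add_self_eq_zero]
      congr 1
      simp
    have hT4 : Suzuki.T hS (0 : F) 1 * Suzuki.T hS (0 : F) 1 = 1 := by
      rw [Suzuki.T_mul]
      simp [CharTwo.add_self_eq_zero, Suzuki.T_zero]
    haveI : Fact (Nat.Prime 2) := ⟨Nat.prime_two⟩
    have hne : Suzuki.T hS (0 : F) 1 ≠ 1 := fun e1 => by
      have h2 := congrArg (fun g : Cfsg.Sz F m => g • Suzuki.pt m (0 : F) 0) e1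
      simp only [Suzuki.T_smul_pt_zero, one_smul] at h2
      exact one_ne_zero (Suzuki.pt_inj h2).2
    have hx : orderOf (Suzuki.T hS (1 : F) 0) = 2 ^ (1 + 1) :=
      orderOf_eq_prime_pow (by rw [pow_one, pow_two, hT2]; exact hne)
        (by rw [show 2 ^ (1 + 1) = 2 + 2 from rfl, pow_add, pow_two, hT2, hT4])
    exact SP.no_four _ (by rw [hx]; norm_num)

/-- A target of the second kind is `PSL(2, q)` with `q ≡ 3, 5 (mod 8)`. -/
theorem Spec.target (S : Spec G r) (h : GW.IsTarget G) :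
    ∃ (F : Type) (_ : Field F) (_ : Fintype F), 3 < Fintype.card F ∧
      (Fintype.card F % 8 = 3 ∨ Fintype.card F % 8 = 5) ∧
      Nonempty (G ≃* Matrix.ProjectiveSpecialLinearGroup (Fin 2) F) := by
  rcases h with ⟨F, i1, i2, hodd, h3, ⟨f⟩⟩ | ⟨⟨f⟩⟩
  · refine ⟨F, i1, i2, h3, ?_, ⟨f⟩⟩
    have SP : Spec (Matrix.ProjectiveSpecialLinearGroup (Fin 2) F) r :=
      S.of_injective f.symm.toMonoidHom f.symm.injective
    obtain ⟨⟨g, hg⟩, g', hg'⟩ := exists_order_half (F := F) hodd
    obtain ⟨k, hk⟩ := hodd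
    have h1 : ¬ 4 ∣ k := fun hd => SP.no_four g (by rw [hg, hk]; simpa using hd)
    have h2 : ¬ 4 ∣ k + 1 := fun hd => SP.no_four g' (by
      rw [hg', hk, show (2 * k + 1 + 1) / 2 = k + 1 by omega]; exact hd)
    omega
  · exfalso
    let σ : alternatingGroup (Fin 7) :=
      ⟨Equiv.swap (0 : Fin 7) 1 * Equiv.swap (1 : Fin 7) 2 * Equiv.swap (2 : Fin 7) 3 * Equiv.swap (4 : Fin 7) 5,
        by rw [Equiv.Perm.mem_alternatingGroup]; simp⟩
    haveI : Fact (Nat.Prime 2) := ⟨Nat.prime_two⟩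
    have hx : orderOf σ = 2 ^ (1 + 1) := orderOf_eq_prime_pow (by decide) (by decide)
    exact S.no_four (f.symm σ) (by rw [MulEquiv.orderOf_eq, hx]; norm_num)

end Cfsg.Agent.ThreeOrd
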